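import Cfsg.Agent.Lib.PF94.Main4
import Cfsg.Agent.Lib.ClGeo.Heart
import Cfsg.Agent.Lib.Fi22I.W27
import Cfsg.Agent.S0822

/-!
From the group theoretic hypotheses to the linearised setting.
-/

set_option autoImplicit false

namespace H94.PF

open Module H95 H4.LX H9.WC QuadraticMap Subgroup Cfsg H69
open H73.FD (cj_mul cj_inj Pr)
open H30 (F4)

universe u

variable {G : Type u} [Group G] {K : Type*} [Group K] {K0 : Subgroup K}

theorem exists_kd {F : Type*} [Field F] [Fintype F] (hF : Fintype.card F = 3) :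
    ∃ K0 : Subgroup (MulAut (PSp 2 F)), KD K0 ∧ K0.index = 2 ∧ Nat.card (PSp 2 F) = 25920 ∧
      IsSimpleGroup (PSp 2 F) := by
  obtain ⟨f⟩ := Cfsg.Agent.S0822.result (F := H30.F4) (K := F) rfl hF
  obtain ⟨w⟩ := H96.E6.equivAut
  let j := ((QuotientGroup.quotientMulEquivOfEq H30.U42.center_SU4).trans QuotientGroup.quotientBot).symm
  let a := MulAut.congr (j.trans f)
  let ι := a.toMonoidHom.comp MulAut.conj
  have i0 : Function.Injective (MulAut.conj : SU 4 F4 2 →* _) := (injective_iff_map_eq_one _).2 fun x hx => by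
    rw [← Subgroup.mem_bot, ← H30.U42.center_SU4, Subgroup.mem_center_iff]
    exact fun y => (mul_inv_eq_iff_eq_mul.1 (DFunLike.congr_fun hx y)).symm
  have inj : Function.Injective ι := a.injective.comp i0
  have hn : ι.range.Normal := by
    rw [MonoidHom.range_comp]
    refine Subgroup.Normal.map ⟨?_⟩ _ a.surjective
    rintro _ ⟨x, rfl⟩ α
    exact ⟨α x, by ext y : 1; simp⟩
  have i2 : ι.range.index = 2 := by
    have h1 := ι.range.card_mul_index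
    rw [← Nat.card_congr (ι.ofInjective inj).toEquiv, H30.U42.card_SU4, ← Nat.card_congr a.toEquiv,
      Nat.card_congr (MulAut.congr j).toEquiv, ← Nat.card_congr w.toEquiv, H96.E6.card_W27] at h1
    omega
  have : H11.U.IsSq F4 2 := ⟨rfl⟩
  have := H11.U.isSimpleGroup_PSU (F := F4) (q := 2) (n := 4) (by omega) (by omega)
  refine ⟨_, ⟨⟨ι, inj, rfl⟩, hn, fun a b ha hb => (mul_mem_iff_of_index_two i2).2 (iff_of_false ha hb),
    fun k hk => ?_⟩, i2, by rw [← Nat.card_congr (j.trans f).toEquiv, H30.U42.card_SU4], f.symm.isSimpleGroup⟩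
  obtain ⟨k, rfl⟩ := a.surjective k
  rw [MulEquiv.map_eq_one_iff]
  ext x : 1
  have := hk _ ⟨x, rfl⟩
  rw [MonoidHom.comp_apply, MulEquiv.coe_toMonoidHom, ← map_mul, ← map_mul, a.apply_eq_iff_eq,
    ← mul_inv_eq_iff_eq_mul] at this
  exact i0 (Eq.trans (by ext y : 1; simp) this)

/-- `J = W × E` -/
structure Pre (z : G) (J W E : Subgroup G) : Prop where
  es : ES E z
  h9 : Nat.card E = 2 ^ 9
  WJ : W ≤ J
  EJ : E ≤ J
  dec : ∀ x ∈ J, ∃ e ∈ E, ∃ w ∈ W, x = e * w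
  Wsq : ∀ w ∈ W, w * w = 1
  Wc : ∀ w ∈ W, ∀ x ∈ J, x * w = w * x
  zW : z ∉ W

theorem pre_of {J W E : Subgroup G} {z : G} (h : IsInternalDirectProduct W E J) (hW : ∀ w ∈ W, w ^ 2 = 1)
    (hE : ES E z) (h9 : Nat.card E = 2 ^ 9) : Pre z J W E := by
  obtain ⟨h1, h2, h3, h4, rfl⟩ := h
  have sq : ∀ w ∈ W, w * w = 1 := fun w hw => by rw [← pow_two, hW w hw]
  have dec : ∀ x ∈ W ⊔ E, ∃ e ∈ E, ∃ w ∈ W, x = e * w := fun x hx => by
    rw [sup_comm, mem_sup_of_le_normalizer_left ((le_centralizer_iff.2 fun e he =>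
      mc.2 fun w hw => (h3 w hw e he).symm).trans (centralizer_le_normalizer _))] at hx
    exact hx
  refine ⟨hE, h9, h1, h2, dec, sq, fun w hw x hx => ?_, fun c => hE.ne_one (mem_bot.1 (h4 ▸ mem_inf.2 ⟨c, hE.mem⟩))⟩
  obtain ⟨e, he, v, hv, rfl⟩ := dec x hx
  refine comm_mul (h3 w hw e he).symm ?_
  rw [← inv_of_sq (sq _ (mul_mem hv hw)), mul_inv_rev, inv_of_sq (sq w hw), inv_of_sq (sq v hv)]

namespace Pre

variable {J W E : Subgroup G} {z : G} (P : Pre z J W E)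
include P

omit P in
theorem map {M : Subgroup G} {J W E : Subgroup M} {z : M} (P : Pre z J W E) :
    Pre (z : G) (J.map M.subtype) (W.map M.subtype) (E.map M.subtype) := by
  refine ⟨P.es.map M.subtype fun x _ e => Subtype.ext e, by rw [card_map_subtype, P.h9], map_mono P.WJ, map_mono P.EJ,
    ?_, ?_, ?_, ?_⟩
  · rintro _ ⟨x, hx, rfl⟩
    obtain ⟨e, he, w, hw, rfl⟩ := P.dec x hx
    exact ⟨e, ⟨e, he, rfl⟩, w, ⟨w, hw, rfl⟩, rfl⟩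
  · rintro _ ⟨x, hx, rfl⟩
    exact congrArg Subtype.val (P.Wsq x hx)
  · rintro _ ⟨w, hw, rfl⟩ _ ⟨x, hx, rfl⟩
    exact congrArg Subtype.val (P.Wc w hw x hx)
  · rintro ⟨x, hx, e⟩
    exact P.zW (Subtype.ext e ▸ hx)

theorem Jz {x : G} (hx : x ∈ J) : x * z = z * x := by
  obtain ⟨e, he, w, hw, rfl⟩ := P.dec x hx
  exact comm_mul (P.es.central e he) (P.Wc w hw z (P.EJ P.es.mem)).symm

theorem cm {x y : G} (hx : x ∈ J) (hy : y ∈ J) : x * y * x⁻¹ * y⁻¹ = 1 ∨ x * y * x⁻¹ * y⁻¹ = z := by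
  obtain ⟨e, he, w, hw, rfl⟩ := P.dec x hx
  rw [← cj_cj', cj_of (P.Wc w hw y hy).symm]
  obtain ⟨f, hf, v, hv, rfl⟩ := P.dec y hy
  rw [← cj_mul, cj_of (P.Wc v hv e (P.EJ he)), mul_inv_rev, mul_assoc, mul_inv_cancel_left]
  exact P.es.commutator_eq he hf

theorem fix {h : G} (hh : ∀ x ∈ J, h * x * h⁻¹ ∈ J) : h * z = z * h := by
  obtain ⟨x, hx, y, hy, e⟩ := P.es.exists_commutator
  have := P.cm (hh x (P.EJ hx)) (hh y (P.EJ hy))
  rw [conj_inv, conj_inv, cj_mul, cj_mul, cj_mul, e] at this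
  exact of_cj (this.resolve_left (by simpa using P.es.ne_one))

theorem mem_Z {u : G} : u ∈ J ⊓ 𝐂(J) ↔ ∃ w ∈ W, u = w ∨ u = w * z := by
  constructor
  · intro hu
    obtain ⟨e, he, w, hw, rfl⟩ := P.dec u hu.1
    refine ⟨w, hw, (P.es.nondeg e he fun y hy => ?_).imp (fun e => by rw [e, one_mul]) fun e => by
      rw [e, P.Jz (P.WJ hw)]⟩
    simpa using comm_mul (mc.1 hu.2 y (P.EJ hy)) (comm_inv (P.Wc w hw y (P.EJ hy)).symm)
  · have m : ∀ w ∈ W, w ∈ J ⊓ 𝐂(J) := fun w hw => ⟨P.WJ hw, mc.2 fun x hx => (P.Wc w hw x hx).symm⟩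
    rintro ⟨w, hw, rfl | rfl⟩
    exacts [m _ hw, mul_mem (m _ hw) ⟨P.EJ P.es.mem, mc.2 fun x hx => (P.Jz hx).symm⟩]

theorem zZ : z ∈ J ⊓ 𝐂(J) := P.mem_Z.2 ⟨1, one_mem _, Or.inr (one_mul _).symm⟩

theorem Zsq {u : G} (hu : u ∈ J ⊓ 𝐂(J)) : u * u = 1 := by
  obtain ⟨w, hw, rfl | rfl⟩ := P.mem_Z.1 hu
  · exact P.Wsq _ hw
  · rw [mul_assoc, ← mul_assoc z, ← P.Jz (P.WJ hw), mul_assoc w, P.es.sq, mul_one, P.Wsq _ hw]

omit P in
theorem nZ {h u : G} (hh : ∀ x ∈ J, h * x * h⁻¹ ∈ J) (hh' : ∀ x ∈ J, h⁻¹ * x * h⁻¹⁻¹ ∈ J) (hu : u ∈ J ⊓ 𝐂(J)) :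
    h * u * h⁻¹ ∈ J ⊓ 𝐂(J) := ⟨hh u hu.1, mc.2 fun y hy => by
  simpa [mul_assoc] using cj_comm (g := h) (mc.1 hu.2 _ (hh' y hy))⟩

theorem cx [Finite G] {A : Subgroup G} (JA : J ≤ A)
    (Az : ∀ a ∈ A, a * z = z * a) (nH : ∀ h, h * z = z * h → ∀ x ∈ J, h * x * h⁻¹ ∈ J) (φ : A →* K)
    (hφ : Function.Surjective φ) (hk : ∀ a, φ a = 1 ↔ (a : G) ∈ J) (kd : KD K0)
    (cA : ∀ g, (∀ u ∈ J ⊓ 𝐂(J), g * u = u * g) → g ∈ A) (cJ : ∀ g, (∀ x ∈ J, g * x = x * g) → g ∈ J)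
    (ex6 : ∀ h, h * z = z * h → ∀ u ∈ J ⊓ 𝐂(J), h ^ 6 * u = u * h ^ 6)
    (two : ∀ R : Subgroup G, IsPGroup 2 R → (∀ a ∈ R, a * z = z * a) → ∀ a ∈ R, ∀ b ∈ R,
      (∃ u ∈ J ⊓ 𝐂(J), a * u ≠ u * a) → (∃ u ∈ J ⊓ 𝐂(J), b * u ≠ u * b) →
      ∀ u ∈ J ⊓ 𝐂(J), a * b * u = u * (a * b)) :
    ∃ (V : Type u) (_ : AddCommGroup V) (_ : Module (ZMod 2) V) (C : Cx G V K0),
      C.A = A ∧ C.J = J ∧ C.Z = J ⊓ 𝐂(J) ∧ C.z = z ∧ C.imK ⊤ = ⊤ :=
  exists_cx P.es P.h9 P.EJ inf_le_left P.zZ (fun x hx => by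
    obtain ⟨e, he, w, hw, rfl⟩ := P.dec x hx
    exact ⟨e, he, w, P.mem_Z.2 ⟨w, hw, Or.inl rfl⟩, rfl⟩) (fun _ => P.Zsq)
    (fun _ hu x hx => (mc.1 hu.2 x hx).symm) JA Az nH φ hφ hk kd cA cJ ex6 two

theorem four [Finite G] (hW : Nat.card W = 2) (nH : ∀ h, h * z = z * h → ∀ x ∈ J, h * x * h⁻¹ ∈ J)
    (φ : centralizer ({z} : Set G) →* K) (hφ : Function.Surjective φ) (hk : ∀ a, φ a = 1 ↔ (a : G) ∈ J)
    (kd : KD K0) (cJ : ∀ g, (∀ x ∈ J, g * x = x * g) → g ∈ J) :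
    ∃ (V : Type u) (_ : AddCommGroup V) (_ : Module (ZMod 2) V) (C : Cx G V K0) (d : G),
      Fo C d ∧ C.J = J ∧ C.z = z ∧ C.imK ⊤ = ⊤ := by
  obtain ⟨⟨d, hd⟩, d1⟩ := (W.ne_bot_iff_exists_ne_one).1 fun e => by rw [e, card_bot] at hW; omega
  have d1 : d ≠ 1 := fun e => d1 (Subtype.ext e)
  have dZ := P.mem_Z.2 ⟨d, hd, Or.inl rfl⟩
  have dz : d ≠ z := fun e => P.zW (e ▸ hd)
  have all : ∀ u ∈ J ⊓ 𝐂(J), u = 1 ∨ u = z ∨ u = d ∨ u = d * z := fun u hu => by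
    obtain ⟨w, hw, h⟩ := P.mem_Z.1 hu
    by_cases w1 : w = 1
    · rw [w1, one_mul] at h; tauto
    · rw [eq_of_le_two hW.le hw hd w1 d1] at h; tauto
  have act : ∀ h, h * z = z * h → h * d * h⁻¹ = d ∨ h * d * h⁻¹ = d * z := fun h hh => by
    rcases all _ (nZ (nH h hh) (nH _ (comm_inv hh)) dZ) with e | e | e
    · exact absurd (by simpa using e) d1
    · exact absurd (cj_inj (e.trans (cj_of hh).symm)) dz
    · exact e
  have cZ : ∀ g, g * z = z * g → g * d = d * g → ∀ u ∈ J ⊓ 𝐂(J), g * u = u * g := fun g h h' u hu => by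
    rcases all u hu with rfl | rfl | rfl | rfl
    exacts [by simp, h, h', (comm_mul h'.symm h.symm).symm]
  have sw : ∀ a b, a * z = z * a → a * d * a⁻¹ = d * z → b * d * b⁻¹ = d * z → a * b * d = d * (a * b) :=
    fun a b ha h1 h2 => of_cj (by rw [← cj_cj', h2, ← cj_mul, h1, cj_of ha, mul_assoc, P.es.sq, mul_one])
  obtain ⟨V, _, _, C, h1, h2, h3, h4, h5⟩ := P.cx (fun x hx => mem_cent_iff.2 (P.Jz hx)) (fun a => mem_cent_iff.1) nH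
    φ hφ hk kd (fun g hg => mem_cent_iff.2 (hg z P.zZ)) cJ (fun h hh => by
      refine cZ _ (Commute.pow_left hh 6).eq ?_
      rw [show 6 = 2 * 3 from rfl, pow_mul, pow_two]
      exact (Commute.pow_left ((act h hh).elim (fun e => comm_mul (of_cj e) (of_cj e)) fun e => sw h h hh e e) 3).eq)
    fun R _ hz a ha b hb ⟨u, hu, au⟩ ⟨v, hv, bv⟩ => cZ _ (comm_mul (hz a ha) (hz b hb)) (sw a b (hz a ha)
      ((act a (hz a ha)).resolve_left fun e => au (cZ a (hz a ha) (of_cj e) u hu))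
      ((act b (hz b hb)).resolve_left fun e => bv (cZ b (hz b hb) (of_cj e) v hv)))
  exact ⟨V, inferInstance, inferInstance, C, d, ⟨h3 ▸ dZ, d1, h4 ▸ dz, h3 ▸ h4 ▸ all,
    fun g hg => h1 ▸ mem_cent_iff.2 (h4 ▸ hg)⟩, h2, h4, h5⟩

end Pre

end H94.PF
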