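import Cfsg.Agent.Lib.PF94.LinU
import Cfsg.Agent.Lib.LocStruct.SylowIn

/-!
A normal subgroup `Z × 2^(1+8)` of an involution centraliser, linearised.
-/

set_option autoImplicit false

namespace H94.PF

open Module H95 H4.LX H9.WC QuadraticMap Subgroup Cfsg H69
open H73.FD (cj_mul cj_inj)

universe u

/-- the linearised setting -/
structure Cx (G : Type u) [Group G] (V : Type u) [AddCommGroup V] [Module (ZMod 2) V]
    {K : Type*} [Group K] (K0 : Subgroup K) where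
  A : Subgroup G
  J : Subgroup G
  Z : Subgroup G
  z : G
  π : G → V
  μ : G → K
  σ : K →* Module.End (ZMod 2) V
  q : QuadraticForm (ZMod 2) V
  form : Form σ q
  kd : KD K0
  z1 : z ≠ 1
  zZ : z ∈ Z
  ZJ : Z ≤ J
  JA : J ≤ A
  Az : ∀ a ∈ A, a * z = z * a
  Zsq : ∀ u ∈ Z, u * u = 1
  sq : ∀ x ∈ J, x * x = 1 ∨ x * x = z
  cm : ∀ x ∈ J, ∀ y ∈ J, x * y = y * x ∨ x * y = y * x * z
  nH : ∀ h, h * z = z * h → ∀ x ∈ J, h * x * h⁻¹ ∈ J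
  π_mul : ∀ x ∈ J, ∀ y ∈ J, π (x * y) = π x + π y
  π_surj : ∀ v, ∃ x ∈ J, π x = v
  π_zero : ∀ x ∈ J, (π x = 0 ↔ x ∈ Z)
  q_π : ∀ x ∈ J, (q (π x) = 0 ↔ x * x = 1)
  b_π : ∀ x ∈ J, ∀ y ∈ J, (polar q (π x) (π y) = 0 ↔ x * y = y * x)
  μ_mul : ∀ a ∈ A, ∀ b ∈ A, μ (a * b) = μ a * μ b
  μ_surj : ∀ k ∈ K0, ∃ a ∈ A, μ a = k
  μ_one : ∀ a ∈ A, (μ a = 1 ↔ a ∈ J)
  act : ∀ a ∈ A, ∀ x ∈ J, σ (μ a) (π x) = π (a * x * a⁻¹)
  h0 : ∀ a ∈ A, μ a ∈ K0 → ∀ u ∈ Z, a * u = u * a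
  cA : ∀ g, (∀ u ∈ Z, g * u = u * g) → g ∈ A
  ex6 : ∀ h, h * z = z * h → ∀ u ∈ Z, h ^ 6 * u = u * h ^ 6
  two : ∀ R : Subgroup G, IsPGroup 2 R → (∀ a ∈ R, a * z = z * a) → ∀ a ∈ R, ∀ b ∈ R,
    (∃ u ∈ Z, a * u ≠ u * a) → (∃ u ∈ Z, b * u ≠ u * b) → ∀ u ∈ Z, a * b * u = u * (a * b)

variable {G : Type u} [Group G] {V : Type u} [AddCommGroup V] [Module (ZMod 2) V]
  {K : Type*} [Group K] {K0 : Subgroup K}

theorem inv_of_sq {x : G} (h : x * x = 1) : x⁻¹ = x := inv_eq_of_mul_eq_one_right h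

theorem isP_of {R : Subgroup G} (h : ∀ x ∈ R, ∃ n, x ^ 2 ^ n = 1) : IsPGroup 2 R := fun x => by
  obtain ⟨n, hn⟩ := h x x.2
  exact ⟨n, Subtype.ext hn⟩

theorem pow_of_isP {R : Subgroup G} (h : IsPGroup 2 R) {x : G} (hx : x ∈ R) : ∃ n, x ^ 2 ^ n = 1 := by
  obtain ⟨n, hn⟩ := h ⟨x, hx⟩
  exact ⟨n, congrArg Subtype.val hn⟩

theorem card_eq_ker_mul {B : Type*} [Group B] {S : Subgroup G} (φ : S →* B) (N : Subgroup G)
    (hN : ∀ x : S, φ x = 1 ↔ (x : G) ∈ N) :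
    Nat.card S = Nat.card (S ⊓ N : Subgroup G) * Nat.card φ.range := by
  have h1 := φ.ker.card_mul_index
  have e : φ.ker = (S ⊓ N).subgroupOf S := by
    ext x
    rw [MonoidHom.mem_ker, hN, mem_subgroupOf]
    exact ⟨fun h => ⟨x.2, h⟩, fun h => h.2⟩
  rw [index_ker, e, Nat.card_congr (subgroupOfEquivOfLe (inf_le_left : S ⊓ N ≤ S)).toEquiv] at h1
  exact h1.symm

namespace Cx

variable (C : Cx G V K0)

theorem zz : C.z * C.z = 1 := C.Zsq _ C.zZ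

theorem zJ : C.z ∈ C.J := C.ZJ C.zZ

theorem Jz {x : G} (hx : x ∈ C.J) : x * C.z = C.z * x := C.Az x (C.JA hx)

theorem nJ {a x : G} (ha : a ∈ C.A) (hx : x ∈ C.J) : a * x * a⁻¹ ∈ C.J := C.nH a (C.Az a ha) x hx

theorem μ1 : C.μ 1 = 1 := (C.μ_one 1 (one_mem _)).2 (one_mem _)

theorem μJ {x : G} (hx : x ∈ C.J) : C.μ x = 1 := (C.μ_one x (C.JA hx)).2 hx

theorem μ_inv {a : G} (ha : a ∈ C.A) : C.μ a⁻¹ = (C.μ a)⁻¹ := by
  rw [eq_inv_iff_mul_eq_one, ← C.μ_mul _ (inv_mem ha) _ ha, inv_mul_cancel, C.μ1]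

theorem μ_conj {a b : G} (ha : a ∈ C.A) (hb : b ∈ C.A) :
    C.μ (a * b * a⁻¹) = C.μ a * C.μ b * (C.μ a)⁻¹ := by
  rw [C.μ_mul _ (mul_mem ha hb) _ (inv_mem ha), C.μ_mul _ ha _ hb, C.μ_inv ha]

theorem μ_pow {a : G} (ha : a ∈ C.A) (n : ℕ) : C.μ (a ^ n) = C.μ a ^ n := by
  induction n with
  | zero => simpa using C.μ1
  | succ n ih => rw [pow_succ, pow_succ, C.μ_mul _ (pow_mem ha n) _ ha, ih]

theorem μ_eq {a b : G} (ha : a ∈ C.A) (hb : b ∈ C.A) : C.μ a = C.μ b ↔ a⁻¹ * b ∈ C.J := by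
  rw [← C.μ_one _ (mul_mem (inv_mem ha) hb), C.μ_mul _ (inv_mem ha) _ hb, C.μ_inv ha, inv_mul_eq_one]

theorem μ_comm {a b : G} (ha : a ∈ C.A) (hb : b ∈ C.A) (h : a * b = b * a) : C.μ a * C.μ b = C.μ b * C.μ a := by
  rw [← C.μ_mul _ ha _ hb, h, C.μ_mul _ hb _ ha]

theorem μ_sq {a : G} (ha : a ∈ C.A) (h : a * a = 1) : C.μ a * C.μ a = 1 := by
  rw [← C.μ_mul _ ha _ ha, h, C.μ1]

theorem πZ {u : G} (hu : u ∈ C.Z) : C.π u = 0 := (C.π_zero u (C.ZJ hu)).2 hu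

theorem π1 : C.π 1 = 0 := C.πZ (one_mem _)

theorem π_inv {x : G} (hx : x ∈ C.J) : C.π x⁻¹ = C.π x := by
  rw [← az, ← C.π_mul _ (inv_mem hx) _ hx, inv_mul_cancel, C.π1]

theorem π_eq {x y : G} (hx : x ∈ C.J) (hy : y ∈ C.J) : C.π x = C.π y ↔ x⁻¹ * y ∈ C.Z := by
  rw [← C.π_zero _ (mul_mem (inv_mem hx) hy), C.π_mul _ (inv_mem hx) _ hy, C.π_inv hx, az]

theorem π_mulZ {x u : G} (hx : x ∈ C.J) (hu : u ∈ C.Z) : C.π (x * u) = C.π x := by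
  rw [C.π_mul _ hx _ (C.ZJ hu), C.πZ hu, add_zero]

theorem Zc {u x : G} (hu : u ∈ C.Z) (hx : x ∈ C.J) : x * u = u * x :=
  (C.b_π _ hx _ (C.ZJ hu)).1 (by rw [C.πZ hu]; simp)

theorem cZ {x : G} (hx : x ∈ C.J) (h : ∀ y ∈ C.J, x * y = y * x) : x ∈ C.Z :=
  (C.π_zero x hx).1 (zero_of C.form fun v => by
    obtain ⟨y, hy, rfl⟩ := C.π_surj v
    exact (C.b_π _ hx _ hy).2 (h y hy))

theorem nZ {h u : G} (hh : h * C.z = C.z * h) (hu : u ∈ C.Z) : h * u * h⁻¹ ∈ C.Z :=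
  C.cZ (C.nH h hh u (C.ZJ hu)) fun y hy => by
    have := C.Zc hu (C.nH h⁻¹ (comm_inv hh) y hy)
    calc h * u * h⁻¹ * y = h * (u * (h⁻¹ * y * h⁻¹⁻¹)) * h⁻¹ := by group
      _ = _ := by rw [← this]; group

theorem π_comm {a x : G} (ha : a ∈ C.A) (hx : x ∈ C.J) :
    C.π (a * x * a⁻¹ * x⁻¹) = C.σ (C.μ a) (C.π x) + C.π x := by
  rw [C.π_mul _ (C.nJ ha hx) _ (inv_mem hx), C.π_inv hx, C.act a ha x hx]

theorem fix_iff {a x : G} (ha : a ∈ C.A) (hx : x ∈ C.J) :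
    C.σ (C.μ a) (C.π x) = C.π x ↔ ∃ u ∈ C.Z, a * x * a⁻¹ = x * u := by
  rw [C.act a ha x hx, eq_comm, C.π_eq hx (C.nJ ha hx)]
  exact ⟨fun h => ⟨_, h, by group⟩, fun ⟨u, hu, e⟩ => by rwa [e, inv_mul_cancel_left]⟩

theorem fix_of {a x : G} (ha : a ∈ C.A) (hx : x ∈ C.J) (h : a * x = x * a) : C.σ (C.μ a) (C.π x) = C.π x := by
  rw [C.act a ha x hx, cj_of h]

theorem mem_J {a : G} (ha : a ∈ C.A) (h : ∀ x ∈ C.J, C.σ (C.μ a) (C.π x) = C.π x) : a ∈ C.J :=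
  (C.μ_one a ha).1 (C.form.faith _ fun v => by
    obtain ⟨x, hx, rfl⟩ := C.π_surj v
    exact h x hx)

theorem cJ {g : G} (h : ∀ x ∈ C.J, g * x = x * g) : g ∈ C.Z := by
  have hA := C.cA g fun u hu => h u (C.ZJ hu)
  exact C.cZ (C.mem_J hA fun x hx => C.fix_of hA hx (h x hx)) h

theorem conj' {x y : G} (hx : x ∈ C.J) (hy : y ∈ C.J) : y * x * y⁻¹ = x ∨ y * x * y⁻¹ = x * C.z :=
  (C.cm y hy x hx).imp cj_of fun e => by rw [e, mul_assoc x, C.Jz hy]; group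

theorem exists_conj {x : G} (hx : x ∈ C.J) (h : x ∉ C.Z) : ∃ y ∈ C.J, y * x * y⁻¹ = x * C.z := by
  by_contra c
  push Not at c
  exact h (C.cZ hx fun y hy => (of_cj ((C.conj' hx hy).resolve_right (c y hy))).symm)

theorem pow4 {x : G} (hx : x ∈ C.J) : x ^ 2 ^ 2 = 1 := by
  rw [pow_two, pow_mul, pow_two, pow_two]
  rcases C.sq x hx with e | e <;> rw [e]
  exacts [one_mul 1, C.zz]

theorem isP : IsPGroup 2 C.J := isP_of fun _ hx => ⟨2, C.pow4 hx⟩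

theorem one_of_odd {x : G} (hx : x ∈ C.J) {n : ℕ} (hn : Odd n) (e : x ^ n = 1) : x = 1 := by
  have := pow_gcd_eq_one.2 ⟨C.pow4 hx, e⟩
  rwa [show Nat.gcd (2 ^ 2) n = 1 from Nat.Coprime.pow_left 2 (Nat.coprime_two_left.2 hn), pow_one] at this

/-- the image in `V` -/
def img (B : Subgroup G) : Submodule (ZMod 2) V where
  carrier := {u | ∃ x ∈ B, x ∈ C.J ∧ C.π x = u}
  add_mem' := by
    rintro _ _ ⟨a, ha, ha', rfl⟩ ⟨b, hb, hb', rfl⟩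
    exact ⟨a * b, mul_mem ha hb, mul_mem ha' hb', C.π_mul _ ha' _ hb'⟩
  zero_mem' := ⟨1, one_mem _, one_mem _, C.π1⟩
  smul_mem' c x hx := by
    rcases zmod2_cases c with rfl | rfl
    · rw [zero_smul]; exact ⟨1, one_mem _, one_mem _, C.π1⟩
    · rwa [one_smul]

/-- the image in `K` -/
def imK (B : Subgroup G) : Subgroup K where
  carrier := {k | ∃ b ∈ B, b ∈ C.A ∧ C.μ b = k}
  mul_mem' := by
    rintro _ _ ⟨a, ha, ha', rfl⟩ ⟨b, hb, hb', rfl⟩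
    exact ⟨a * b, mul_mem ha hb, mul_mem ha' hb', C.μ_mul _ ha' _ hb'⟩
  one_mem' := ⟨1, one_mem _, one_mem _, C.μ1⟩
  inv_mem' := by
    rintro _ ⟨a, ha, ha', rfl⟩
    exact ⟨a⁻¹, inv_mem ha, inv_mem ha', C.μ_inv ha'⟩

/-- the preimage of a subgroup of `K` -/
def preK (S : Subgroup K) : Subgroup G where
  carrier := {a | a ∈ C.A ∧ C.μ a ∈ S}
  mul_mem' := fun {a b} ha hb => ⟨mul_mem ha.1 hb.1, by rw [C.μ_mul _ ha.1 _ hb.1]; exact mul_mem ha.2 hb.2⟩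
  one_mem' := ⟨one_mem _, by rw [C.μ1]; exact one_mem _⟩
  inv_mem' := fun {a} ha => ⟨inv_mem ha.1, by rw [C.μ_inv ha.1]; exact inv_mem ha.2⟩

/-- the elements centralising `a` modulo `z` -/
def Sz (a : G) : Subgroup G where
  carrier := {c | c * C.z = C.z * c ∧ (c * a * c⁻¹ = a ∨ c * a * c⁻¹ = a * C.z)}
  mul_mem' := fun {b c} hb hc => ⟨comm_mul hb.1 hc.1, by
    rw [show b * c * a * (b * c)⁻¹ = b * (c * a * c⁻¹) * b⁻¹ by group]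
    rcases hc.2 with e | e <;> rw [e]
    · exact hb.2
    · rw [← cj_mul, cj_of hb.1]
      rcases hb.2 with e | e <;> rw [e]
      · exact Or.inr rfl
      · exact Or.inl (by rw [mul_assoc, C.zz, mul_one])⟩
  one_mem' := ⟨by simp, Or.inl (by simp)⟩
  inv_mem' := fun {c} hc => ⟨comm_inv hc.1, by
    rcases hc.2 with e | e
    · exact Or.inl (cj_of (comm_inv (of_cj e)))
    · right
      have : c * (a * C.z) * c⁻¹ = a := by rw [← cj_mul, e, cj_of hc.1, mul_assoc, C.zz, mul_one]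
      conv_lhs => rw [← this]
      group⟩

/-- the elements of `J` centralised by `w` modulo `z` -/
def Ψ (w : G) : Subgroup G where
  carrier := {x | x ∈ C.J ∧ (w * x * w⁻¹ = x ∨ w * x * w⁻¹ = x * C.z)}
  mul_mem' := fun {a b} ha hb => ⟨mul_mem ha.1 hb.1, by
    rw [← cj_mul]
    rcases ha.2 with e | e <;> rcases hb.2 with e' | e' <;> rw [e, e']
    · exact Or.inl rfl
    · exact Or.inr (mul_assoc _ _ _).symm
    · exact Or.inr (by rw [mul_assoc, ← C.Jz hb.1, mul_assoc])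
    · exact Or.inl (by rw [mul_assoc, ← mul_assoc C.z, ← C.Jz hb.1, mul_assoc b, C.zz, mul_one])⟩
  one_mem' := ⟨one_mem _, Or.inl (by simp)⟩
  inv_mem' := fun {a} ha => ⟨inv_mem ha.1, by
    rw [show w * a⁻¹ * w⁻¹ = (w * a * w⁻¹)⁻¹ by group]
    rcases ha.2 with e | e <;> rw [e]
    · exact Or.inl rfl
    · exact Or.inr (by rw [mul_inv_rev, inv_of_sq C.zz, C.Jz (inv_mem ha.1)])⟩

/-- transport along a conjugation -/
def conj (g : G) : Cx G V K0 :=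
  have j : ∀ x y : G, g⁻¹ * (x * y) * g = g⁻¹ * x * g * (g⁻¹ * y * g) := fun x y => by group
  have i : ∀ {x y : G}, g⁻¹ * x * g = g⁻¹ * y * g ↔ x = y := by simp
  have k : ∀ x : G, g⁻¹ * (g * x * g⁻¹) * g = x := fun x => by group
  have c : ∀ {x y : G}, x * y = y * x ↔ g⁻¹ * x * g * (g⁻¹ * y * g) = g⁻¹ * y * g * (g⁻¹ * x * g) := by
    intro x y; rw [← j, ← j, i]
  have l : ∀ a x : G, g⁻¹ * (a * x * a⁻¹) * g = g⁻¹ * a * g * (g⁻¹ * x * g) * (g⁻¹ * a * g)⁻¹ :=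
    fun a x => by group
  { A := C.A ^ᶜ g
    J := C.J ^ᶜ g
    Z := C.Z ^ᶜ g
    z := g * C.z * g⁻¹
    π := fun x => C.π (g⁻¹ * x * g)
    μ := fun x => C.μ (g⁻¹ * x * g)
    σ := C.σ
    q := C.q
    form := C.form
    kd := C.kd
    z1 := by simpa using C.z1
    zZ := cj_mem g C.zZ
    ZJ := cj_mono g C.ZJ
    JA := cj_mono g C.JA
    Az := fun a ha => by rw [c, k]; exact C.Az _ (mem_cj.1 ha)
    Zsq := fun u hu => by rw [← i, j, C.Zsq _ (mem_cj.1 hu)]; simp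
    sq := fun x hx => by
      rw [← i, ← i (x := x * x), j, k, mul_one, inv_mul_cancel]; exact C.sq _ (mem_cj.1 hx)
    cm := fun x hx y hy => by
      rw [c, ← i (x := x * y), j, j, j, k]; exact C.cm _ (mem_cj.1 hx) _ (mem_cj.1 hy)
    nH := fun h hh x hx => by
      rw [c, k] at hh
      rw [mem_cj, l]; exact C.nH _ hh _ (mem_cj.1 hx)
    π_mul := fun x hx y hy => by rw [j, C.π_mul _ (mem_cj.1 hx) _ (mem_cj.1 hy)]
    π_surj := fun v => by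
      obtain ⟨x, hx, rfl⟩ := C.π_surj v
      exact ⟨_, cj_mem g hx, by rw [k]⟩
    π_zero := fun x hx => by rw [C.π_zero _ (mem_cj.1 hx), mem_cj]
    q_π := fun x hx => by rw [C.q_π _ (mem_cj.1 hx), ← j, ← i (x := x * x)]; simp
    b_π := fun x hx y hy => by rw [C.b_π _ (mem_cj.1 hx) _ (mem_cj.1 hy), ← c]
    μ_mul := fun a ha b hb => by rw [j, C.μ_mul _ (mem_cj.1 ha) _ (mem_cj.1 hb)]
    μ_surj := fun s hs => by
      obtain ⟨x, hx, rfl⟩ := C.μ_surj s hs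
      exact ⟨_, cj_mem g hx, by rw [k]⟩
    μ_one := fun a ha => by rw [C.μ_one _ (mem_cj.1 ha), mem_cj]
    act := fun a ha x hx => by rw [C.act _ (mem_cj.1 ha) _ (mem_cj.1 hx), l]
    h0 := fun a ha m u hu => c.2 (C.h0 _ (mem_cj.1 ha) m _ (mem_cj.1 hu))
    cA := fun a ha => mem_cj.2 (C.cA _ fun u hu => by
      have := c.1 (ha _ (cj_mem g hu))
      rwa [k] at this)
    ex6 := fun h hh u hu => by
      rw [c, k] at hh
      have := C.ex6 _ hh _ (mem_cj.1 hu)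
      rwa [show (g⁻¹ * h * g) ^ 6 = g⁻¹ * h ^ 6 * g by simpa using conj_pow (a := g⁻¹) (b := h) (i := 6),
        ← c] at this
    two := fun R hR hz a ha b hb ⟨u, hu, au⟩ ⟨v, hv, bv⟩ w hw => by
      have m : ∀ {x}, x ∈ R → g⁻¹ * x * g ∈ R ^ᶜ g⁻¹ := fun hx => by simpa using cj_mem g⁻¹ hx
      rw [c, j]
      refine C.two (R ^ᶜ g⁻¹) (isPGroup_cj hR _) (fun x hx => ?_) _ (m ha) _ (m hb)
        ⟨_, mem_cj.1 hu, fun e => au (c.2 e)⟩ ⟨_, mem_cj.1 hv, fun e => bv (c.2 e)⟩ _ (mem_cj.1 hw)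
      obtain ⟨y, hy, rfl⟩ := mem_cj'.1 hx
      have := c.1 (hz y hy)
      rw [k] at this
      simpa using this }

theorem eqns_cx : True := by
  have := @img.eq_1.{0, 0}
  have := @imK.eq_1.{0, 0}
  have := @preK.eq_1.{0, 0}
  have := @Sz.eq_1.{0, 0}
  have := @Ψ.eq_1.{0, 0}
  have := @conj.eq_1.{0, 0}
  trivial

theorem conj_z (g : G) : (C.conj g).z = g * C.z * g⁻¹ := rfl

theorem conj_J (g : G) : (C.conj g).J = C.J ^ᶜ g := rfl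

theorem conj_Z (g : G) : (C.conj g).Z = C.Z ^ᶜ g := rfl

theorem conj_A (g : G) : (C.conj g).A = C.A ^ᶜ g := rfl

theorem π_img {B : Subgroup G} {x : G} (hx : x ∈ B) (hx' : x ∈ C.J) : C.π x ∈ C.img B := ⟨x, hx, hx', rfl⟩

theorem of_π_img {B : Subgroup G} {x : G} (hx : x ∈ C.J) (h : C.π x ∈ C.img B) : ∃ u ∈ C.Z, x * u ∈ B := by
  obtain ⟨y, hy, hy', e⟩ := h
  exact ⟨_, (C.π_eq hx hy').1 e.symm, by rwa [mul_inv_cancel_left]⟩

theorem mem_of_π_img {B : Subgroup G} (hB : C.Z ≤ B) {x : G} (hx : x ∈ C.J) (h : C.π x ∈ C.img B) : x ∈ B := by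
  obtain ⟨u, hu, m⟩ := C.of_π_img hx h
  exact (mul_mem_cancel_right (hB hu)).1 m

theorem card_img {B : Subgroup G} (hB : B ≤ C.J) :
    Nat.card B = Nat.card (B ⊓ C.Z : Subgroup G) * 2 ^ finrank (ZMod 2) (C.img B) := by
  have := C.form.fin
  let φ : B →* Multiplicative V := MonoidHom.mk' (fun b => Multiplicative.ofAdd (C.π b)) fun a b =>
    congrArg Multiplicative.ofAdd (C.π_mul _ (hB a.2) _ (hB b.2))
  rw [card_eq_ker_mul φ C.Z fun x => (C.π_zero _ (hB x.2)), ← card_sub]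
  congr 1
  exact Nat.card_congr ⟨fun y => ⟨y.1.toAdd, by
      obtain ⟨_, x, rfl⟩ := y
      exact C.π_img x.2 (hB x.2)⟩, fun v => ⟨Multiplicative.ofAdd v.1, by
      obtain ⟨_, x, hx, -, rfl⟩ := v
      exact ⟨⟨x, hx⟩, rfl⟩⟩, fun _ => rfl, fun _ => rfl⟩

theorem card_imK {B : Subgroup G} (hB : B ≤ C.A) :
    Nat.card B = Nat.card (B ⊓ C.J : Subgroup G) * Nat.card (C.imK B) := by
  let φ : B →* K := MonoidHom.mk' (fun b => C.μ b) fun a b => C.μ_mul _ (hB a.2) _ (hB b.2)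
  rw [card_eq_ker_mul φ C.J fun x => (C.μ_one _ (hB x.2))]
  congr 3
  ext k
  exact ⟨fun ⟨x, e⟩ => ⟨x, x.2, hB x.2, e⟩, fun ⟨x, hx, _, e⟩ => ⟨⟨x, hx⟩, e⟩⟩

theorem card_J : Nat.card C.J = Nat.card C.Z * 2 ^ 8 := by
  rw [C.card_img le_rfl, inf_eq_right.2 C.ZJ, show C.img C.J = ⊤ from eq_top_iff.2 fun v _ => by
    obtain ⟨x, hx, rfl⟩ := C.π_surj v
    exact C.π_img hx hx, finrank_top, C.form.h8]

/-- a `2`-subgroup normalised by a subgroup covering `K0` lies in `J` -/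
theorem le_J {R B : Subgroup G} (hR : R ≤ C.A) (h2 : ∀ x ∈ R, ∃ n, x ^ 2 ^ n = 1) (hB : K0 ≤ C.imK B)
    (hn : ∀ b ∈ B, ∀ x ∈ R, b * x * b⁻¹ ∈ R) : R ≤ C.J := fun x hx =>
  (C.μ_one x (hR hx)).1 (C.kd.two_triv (R := C.imK R) (by
    rintro _ ⟨y, hy, hy', rfl⟩
    obtain ⟨n, e⟩ := h2 y hy
    exact ⟨n, by rw [← C.μ_pow hy', e, C.μ1]⟩) (fun k hk => by
    rintro _ ⟨y, hy, hy', rfl⟩
    obtain ⟨b, hb, hb', rfl⟩ := hB hk
    exact ⟨_, hn b hb y hy, mul_mem (mul_mem hb' hy') (inv_mem hb'), C.μ_conj hb' hy'⟩) _ ⟨x, hx, hR hx, rfl⟩)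

theorem exists_comm {B : Subgroup G} (h : ∀ a ∈ C.J, ∀ b ∈ C.J, a ∉ B → b ∉ B → a * b ∈ B) :
    ∃ x ∈ B ⊓ C.J, ∃ y ∈ B ⊓ C.J, x * y = y * x * C.z := by
  have := C.form.fin
  have h1 := finrank_le_succ (C := ⊤) (Y := C.img B) fun v _ w _ hv hw => by
    obtain ⟨a, ha, rfl⟩ := C.π_surj v
    obtain ⟨b, hb, rfl⟩ := C.π_surj w
    rw [← C.π_mul _ ha _ hb]
    exact C.π_img (h a ha b hb (fun c => hv (C.π_img c ha)) fun c => hw (C.π_img c hb)) (mul_mem ha hb)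
  rw [finrank_top, C.form.h8] at h1
  obtain ⟨_, ⟨x, hx, hx', rfl⟩, n⟩ := exists_not_mem (A := pp C.q (C.img B)) (B := C.img B) (by
    have := fr_pp C.form (C.img B); omega)
  rw [mem_perp] at n
  push Not at n
  obtain ⟨_, ⟨y, hy, hy', rfl⟩, n⟩ := n
  exact ⟨y, ⟨hy, hy'⟩, x, ⟨hx, hx'⟩, (C.cm y hy' x hx').resolve_left fun e => n ((C.b_π _ hy' _ hx').2 e)⟩

variable [Finite G]

omit [Finite G] in
theorem _root_.H94.PF.mc {S : Subgroup G} {g : G} : g ∈ 𝐂(S) ↔ ∀ u ∈ S, g * u = u * g :=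
  ⟨fun h u hu => (h u hu).symm, fun h u hu => (h u hu).symm⟩

omit [Finite G] in
theorem nC {h b : G} (hh : h * C.z = C.z * h) (hb : b ∈ 𝐂(C.Z)) : h * b * h⁻¹ ∈ 𝐂(C.Z) := mc.2 fun u hu => by
  have := mc.1 hb _ (C.nZ (comm_inv hh) hu)
  calc h * b * h⁻¹ * u = h * (b * (h⁻¹ * u * h⁻¹⁻¹)) * h⁻¹ := by group
    _ = _ := by rw [this]; group

theorem f2' (C' : Cx G V K0) (h : C'.z ∈ C.Z) : C'.z = C.z := by
  have := finK C.form
  have s0 : K0 ≤ C.imK (𝐂(C.Z) ⊓ 𝐂(C'.Z)) := C.kd.le_of_pow (n := 6) (fun k hk => by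
    rintro _ - ⟨b, hb, hb', rfl⟩
    obtain ⟨a, ha, rfl⟩ := C.μ_surj k hk
    exact ⟨_, ⟨C.nC (C.Az a ha) hb.1, C'.nC (C.h0 a ha hk _ h) hb.2⟩,
      mul_mem (mul_mem ha hb') (inv_mem ha), C.μ_conj ha hb'⟩) (by norm_num) fun k hk => by
    obtain ⟨a, ha, rfl⟩ := C.μ_surj k hk
    exact ⟨a ^ 6, ⟨pow_mem (mc.2 (C.h0 a ha hk)) 6, mc.2 (C'.ex6 a (C.h0 a ha hk _ h))⟩, pow_mem ha 6,
      C.μ_pow ha 6⟩
  let B : Subgroup G := 𝐂(C.Z) ⊓ 𝐂(C'.Z) ⊓ C'.preK K0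
  have BA : B ≤ C.A := fun b hb => C.cA b (mc.1 hb.1.1)
  have BA' : B ≤ C'.A := fun b hb => hb.2.1
  have s1 : K0 ≤ C.imK B := C.kd.le_of_pow (n := 2) (fun k hk => by
    rintro _ - ⟨b, hb, hb', rfl⟩
    obtain ⟨a, ha, ha', rfl⟩ := s0 hk
    have m := C'.cA a (mc.1 ha.2)
    refine ⟨_, mem_inf.2 ⟨mul_mem (mul_mem ha (i1 hb)) (inv_mem ha), mul_mem (mul_mem m hb.2.1) (inv_mem m), ?_⟩,
      mul_mem (mul_mem ha' hb') (inv_mem ha'), C.μ_conj ha' hb'⟩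
    rw [C'.μ_conj m hb.2.1]
    exact C.kd.nrm.conj_mem _ hb.2.2 _) (by norm_num) fun k hk => by
    obtain ⟨a, ha, ha', rfl⟩ := s0 hk
    have m := C'.cA a (mc.1 ha.2)
    exact ⟨a ^ 2, ⟨pow_mem ha 2, pow_mem m 2, by rw [C'.μ_pow m, pow_two]; exact C.kd.sq_mem _⟩,
      pow_mem ha' 2, C.μ_pow ha' 2⟩
  have s2 : B ⊓ C'.J ≤ C.J := C.le_J (inf_le_left.trans BA) (fun x hx => ⟨2, C'.pow4 hx.2⟩) s1
    fun b hb x hx => mem_inf.2 ⟨mul_mem (mul_mem hb (i1 hx)) (inv_mem hb), C'.nJ (BA' hb) hx.2⟩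
  have s3 : K0 ≤ C'.imK B := by
    refine (eq_of_le_of_card_ge (H := C'.imK B) (by rintro _ ⟨b, hb, -, rfl⟩; exact hb.2.2) ?_).ge
    have h1 := C.card_imK BA
    have h2 := C'.card_imK BA'
    have h3 := card_le_of_le (le_inf inf_le_left s2)
    have h4 := card_le_of_le s1
    have h5 : 0 < Nat.card (B ⊓ C.J : Subgroup G) := Nat.card_pos
    refine h4.trans (Nat.le_of_mul_le_mul_left ?_ h5)
    rw [← h1, h2]
    exact Nat.mul_le_mul_right _ h3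
  have s4 : 𝐂(C'.Z) ⊓ C.J ≤ C'.J := C'.le_J (fun x hx => C'.cA x (mc.1 hx.1)) (fun x hx => ⟨2, C.pow4 hx.2⟩) s3
    fun b hb x hx => ⟨C'.nC (C'.Az b (BA' hb)) hx.1, C.nJ (BA hb) hx.2⟩
  obtain ⟨x, hx, y, hy, e⟩ := C.exists_comm (B := 𝐂(C'.Z)) fun a ha b hb a' b' => by
    rw [mc] at a' b' ⊢
    push Not at a' b'
    exact C'.two C.J C.isP (fun x hx => C.Zc h hx) a ha b hb a' b'
  rcases C'.cm x (s4 hx) y (s4 hy) with e' | e' <;> rw [e] at e'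
  · exact absurd (by simpa using e') C.z1
  · exact (mul_left_cancel e').symm

theorem f2 {g : G} (h : g * C.z * g⁻¹ ∈ C.Z) : g * C.z * g⁻¹ = C.z := C.f2' (C.conj g) h

theorem f3 {S : Subgroup G} (hS : IsPGroup 2 S) (h : C.J ≤ S) : S ≤ centralizer {C.z} := by
  by_contra c
  have h1 := lt_inf_normalizer_of_lt hS (R := S ⊓ centralizer {C.z})
    (lt_of_le_of_ne inf_le_left fun e => c (e ▸ inf_le_right))
  obtain ⟨n, hn, n'⟩ := SetLike.exists_of_lt h1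
  refine n' ⟨hn.1, mem_cent_iff.2 (of_cj (C.f2 (C.cJ fun x hx => ?_)))⟩
  have := mem_cent_iff.1 (conj_mem_of_mem_normalizer' hn.2
    (⟨h hx, mem_cent_iff.2 (C.Jz hx)⟩ : x ∈ S ⊓ centralizer {C.z})).2
  calc n * C.z * n⁻¹ * x = n * (C.z * (n⁻¹ * x * n)) * n⁻¹ := by group
    _ = _ := by rw [← this]; group

theorem sylow {L T : Subgroup G} (hT : IsSylowIn 2 T (L ⊓ centralizer {C.z})) (h : C.J ≤ T) :
    IsSylowIn 2 T L :=
  ⟨hT.le.trans inf_le_left, hT.isP, fun R h1 h2 h3 => hT.max R h1 (le_inf h2 (C.f3 h3 (h.trans h1))) h3⟩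

/-- Burnside's fusion lemma for the centre -/
theorem burn {T : Subgroup G} (hT : IsSylowIn 2 T ⊤) (h : C.J ≤ T) {w g : G} (h1 : ∀ x ∈ T, x * w = w * x)
    (h2 : ∀ x ∈ T, x * (g * w * g⁻¹) = g * w * g⁻¹ * x) :
    ∃ n, n * C.z = C.z * n ∧ n * w * n⁻¹ = g * w * g⁻¹ := by
  have t1 : IsSylowIn 2 T (centralizer {g * w * g⁻¹}) := hT.mono (fun x hx => mem_cent_iff.2 (h2 x hx)) le_top
  have t2 : IsSylowIn 2 (T ^ᶜ g) (centralizer {g * w * g⁻¹}) := by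
    rw [← cj_centralizer_singleton]
    exact (hT.mono (fun x hx => mem_cent_iff.2 (h1 x hx)) le_top).cj g
  obtain ⟨c, hc, e⟩ := t2.conj t1
  rw [cj_cj] at e
  refine ⟨c * g, of_cj (C.f2 (C.cJ fun x hx => ?_)), by
    rw [show c * g * w * (c * g)⁻¹ = c * (g * w * g⁻¹) * c⁻¹ by group, cj_of (mem_cent_iff.1 hc)]⟩
  have := mem_cent_iff.1 (C.f3 hT.isP h (mem_cj.1 (e.ge (h hx))))
  generalize c * g = n at this
  calc n * C.z * n⁻¹ * x = n * (C.z * (n⁻¹ * x * n)) * n⁻¹ := by group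
    _ = _ := by rw [← this]; group

theorem exists_sylow {L : Subgroup G} (h : C.J ≤ L) :
    ∃ T, IsSylowIn 2 T L ∧ C.J ≤ T ∧ T ≤ centralizer {C.z} := by
  obtain ⟨T, hT, h'⟩ := exists_isSylowIn_le C.isP h
  exact ⟨T, hT, h', C.f3 hT.isP h'⟩

end Cx

end H94.PF
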