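import Cfsg.Agent.Lib.PF94.Main4
import Cfsg.Agent.S1714

/-!
The centre of order eight: quotients and weak closure.
-/

set_option autoImplicit false

namespace H94.PF

open Module H95 H4.LX H9.WC QuadraticMap Subgroup Cfsg H69
open H73.FD (cj_mul cj_inj Pr)
open H30 (F4)

universe u

variable {G : Type u} [Group G] {V : Type u} [AddCommGroup V] [Module (ZMod 2) V]
  {K : Type*} [Group K] {K0 : Subgroup K}

/-- the centre is the product of a four-group `W` with `z` -/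
structure Ei (C : Cx G V K0) (W : Subgroup G) (v : G) : Prop where
  WZ : W ≤ C.Z
  zW : C.z ∉ W
  dec : ∀ u ∈ C.Z, u ∈ W ∨ u * C.z ∈ W
  vW : v ∈ W
  v1 : v ≠ 1
  four : ∀ a ∈ W, ∀ b ∈ W, a ≠ 1 → b ≠ 1 → a ≠ b → ∀ x ∈ W, x = 1 ∨ x = a ∨ x = b ∨ x = a * b
  nW : ∀ h, h * C.z = C.z * h → ∀ w ∈ W, h * w * h⁻¹ ∈ W
  tr : ∀ w ∈ W, w ≠ 1 → ∃ h, h * C.z = C.z * h ∧ h * v * h⁻¹ = w
  hA : ∀ g, g * C.z = C.z * g → g * v = v * g → g ∈ C.A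
  Av : ∀ a ∈ C.A, a * v = v * a
  sw : ∃ s ∈ C.A, ∃ b ∈ W, s * b ≠ b * s

theorem Cx.Desc.comm [Finite G] {C : Cx G V K0} {G' : Type u} [Group G'] {C' : Cx G' V K0} {w : G}
    {f : centralizer ({w} : Set G) →* G'} (D : Cx.Desc C C' f) (Q : Qt w f) (hw : w ∈ C.Z) {g : centralizer {w}}
    (h : f g * C'.z = C'.z * f g) : g * C.z = C.z * g := by
  have zM : C.z ∈ centralizer {w} := mem_cent_iff.2 (C.Zc hw C.zJ)
  have := cj_of h
  rw [D.cj zM, D.z zM, Q.eq] at this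
  exact of_cj (C.cj_eq hw this)

namespace Ei

variable {C : Cx G V K0} {W : Subgroup G} {v : G} (E : Ei C W v)
include E

theorem sq {w : G} (hw : w ∈ W) : w * w = 1 := C.Zsq w (E.WZ hw)

theorem cz {w : G} (hw : w ∈ W) : w * C.z = C.z * w := C.Jz (C.ZJ (E.WZ hw))

theorem cm {a b : G} (ha : a ∈ W) (hb : b ∈ W) : a * b = b * a := C.Zc (E.WZ hb) (C.ZJ (E.WZ ha))

theorem dZ {w : G} (hw : w ∈ W) : w * C.z ∈ C.Z := mul_mem (E.WZ hw) C.zZ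

theorem dW {w : G} (hw : w ∈ W) : w * C.z ∉ W := fun h => E.zW ((mul_mem_cancel_left hw).1 h)

theorem d1 {w : G} (hw : w ∈ W) : w * C.z ≠ 1 := fun e => E.dW hw (e ▸ one_mem _)

theorem dec' {u : G} (hu : u ∈ C.Z) : u ∈ W ∨ ∃ w ∈ W, u = w * C.z :=
  (E.dec u hu).imp_right fun h => ⟨_, h, by rw [mul_assoc, C.zz, mul_one]⟩

theorem cZ {g : G} (h : g * C.z = C.z * g) (h' : ∀ w ∈ W, g * w = w * g) : ∀ u ∈ C.Z, g * u = u * g :=
  fun u hu => by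
  rcases E.dec' hu with m | ⟨w, hw, rfl⟩
  exacts [h' u m, (comm_mul (h' w hw).symm h.symm).symm]

theorem cW {g a b : G} (ha : a ∈ W) (hb : b ∈ W) (a1 : a ≠ 1) (b1 : b ≠ 1) (ab : a ≠ b) (h : g * a = a * g)
    (h' : g * b = b * g) : ∀ w ∈ W, g * w = w * g := fun w hw => by
  rcases E.four a ha b hb a1 b1 ab w hw with rfl | rfl | rfl | rfl
  exacts [by simp, h, h', (comm_mul h.symm h'.symm).symm]

theorem act {g a b : G} (ha : a ∈ W) (hb : b ∈ W) (a1 : a ≠ 1) (b1 : b ≠ 1) (ab : a ≠ b) (h : g * a = a * g)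
    (h' : g * b * g⁻¹ ∈ W) : g * b * g⁻¹ = b ∨ g * b * g⁻¹ = b * a := by
  rcases E.four a ha b hb a1 b1 ab _ h' with e | e | e | e
  · exact absurd (by simpa using e) b1
  · exact absurd (cj_inj (e.trans (cj_of h).symm)).symm ab
  · exact Or.inl e
  · exact Or.inr (e.trans (E.cm ha hb))

theorem sw' : ∃ s ∈ C.A, ∃ b ∈ W, b ≠ 1 ∧ v ≠ b ∧ s * b * s⁻¹ = b * v := by
  obtain ⟨s, hs, b, hb, h⟩ := E.sw
  have b1 : b ≠ 1 := fun e => h (by simp [e])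
  have vb : v ≠ b := fun e => h (e ▸ E.Av s hs)
  exact ⟨s, hs, b, hb, b1, vb, (E.act E.vW hb E.v1 b1 vb (E.Av s hs) (E.nW s (C.Az s hs) b hb)).resolve_left
    fun e => h (of_cj e)⟩

theorem tr2 {a b : G} (ha : a ∈ W) (hb : b ∈ W) (a1 : a ≠ 1) (b1 : b ≠ 1) :
    ∃ h, h * C.z = C.z * h ∧ h * a * h⁻¹ = b := by
  obtain ⟨g, h1, rfl⟩ := E.tr a ha a1
  obtain ⟨h, h2, rfl⟩ := E.tr b hb b1
  exact ⟨h * g⁻¹, comm_mul h2 (comm_inv h1), by group⟩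

theorem other {a : G} (ha : a ∈ W) : ∃ b ∈ W, b ≠ 1 ∧ a ≠ b := by
  obtain ⟨-, -, b, hb, b1, vb, -⟩ := E.sw'
  by_cases c : a = b
  exacts [⟨v, E.vW, E.v1, c ▸ vb.symm⟩, ⟨b, hb, b1, c⟩]

theorem conj (g : G) : Ei (C.conj g) (W ^ᶜ g) (g * v * g⁻¹) := by
  have k : ∀ {a x : G}, a * (g * x * g⁻¹) = g * x * g⁻¹ * a → g⁻¹ * a * g * x = x * (g⁻¹ * a * g) := fun h => by
    simpa [mul_assoc] using cj_comm (g := g⁻¹) h
  refine ⟨cj_mono g E.WZ, fun h => E.zW (cj_mem_iff.1 h), fun u hu => ?_, cj_mem g E.vW, by simpa using E.v1,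
    fun a ha b hb a1 b1 ab x hx => ?_, fun h hh w hw => ?_, fun w hw w1 => ?_,
    fun a h1 h2 => mem_cj.2 (E.hA _ (k h1) (k h2)), fun a ha => ?_, ?_⟩
  · obtain ⟨u, hu', rfl⟩ := mem_cj'.1 hu
    rw [Cx.conj_z, cj_mul]
    exact (E.dec u hu').imp (cj_mem g) (cj_mem g)
  · obtain ⟨a, ha', rfl⟩ := mem_cj'.1 ha
    obtain ⟨b, hb', rfl⟩ := mem_cj'.1 hb
    obtain ⟨x, hx', rfl⟩ := mem_cj'.1 hx
    rw [cj_mul]
    rcases E.four a ha' b hb' (by simpa using a1) (by simpa using b1) (by simpa using ab) x hx' with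
      rfl | rfl | rfl | rfl <;> simp
  · have := E.nW _ (k hh) _ (mem_cj.1 hw)
    rw [mem_cj]; convert this using 1; group
  · obtain ⟨w, hw', rfl⟩ := mem_cj'.1 hw
    obtain ⟨h, h1, rfl⟩ := E.tr w hw' (by simpa using w1)
    exact ⟨g * h * g⁻¹, cj_comm h1, by group⟩
  · obtain ⟨a, ha', rfl⟩ := mem_cj'.1 ha
    exact cj_comm (E.Av a ha')
  · obtain ⟨s, hs, b, hb, h⟩ := E.sw
    exact ⟨_, cj_mem g hs, _, cj_mem g hb, fun e => h (by rw [cj_mul, cj_mul] at e; exact cj_inj e)⟩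

theorem fix1 {a : G} (ha : a * C.z = C.z * a) (h : a * a * v = v * (a * a)) : ∃ w ∈ W, w ≠ 1 ∧ a * w = w * a := by
  by_cases c : a * v * a⁻¹ = v
  · exact ⟨v, E.vW, E.v1, of_cj c⟩
  have m := E.nW a ha v E.vW
  refine ⟨_, mul_mem E.vW m, fun e => c ?_, of_cj ?_⟩
  · rw [mul_eq_one_iff_inv_eq, inv_of_sq (E.sq E.vW)] at e; exact e.symm
  · rw [← cj_mul, cj_cj', cj_of h, E.cm m E.vW]

theorem fix2 {R : Subgroup G} (hR : IsPGroup 2 R) (hz : ∀ a ∈ R, a * C.z = C.z * a) :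
    ∃ w ∈ W, w ≠ 1 ∧ ∀ a ∈ R, a * w = w * a := by
  by_cases c : ∀ a ∈ R, ∀ u ∈ C.Z, a * u = u * a
  · exact ⟨v, E.vW, E.v1, fun a ha => c a ha v (E.WZ E.vW)⟩
  push Not at c
  obtain ⟨a, ha, c⟩ := c
  obtain ⟨w, hw, w1, h⟩ := E.fix1 (hz a ha) (C.two R hR hz a ha a ha c c v (E.WZ E.vW))
  refine ⟨w, hw, w1, fun b hb => ?_⟩
  by_contra c'
  exact c' (by simpa using comm_mul (comm_inv h) (C.two R hR hz a ha b hb c ⟨w, E.WZ hw, c'⟩ w (E.WZ hw)))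

theorem mem_K0 {a : G} (ha : ∀ u ∈ C.Z, a * u = u * a) : C.μ a ∈ K0 := by
  obtain ⟨s, hs, b, hb, h⟩ := E.sw
  have aA := C.cA a ha
  by_contra c
  have := C.h0 _ (mul_mem hs aA) (by
    rw [C.μ_mul _ hs _ aA]; exact C.kd.idx _ _ (fun m => h (C.h0 s hs m b (E.WZ hb))) c) b (E.WZ hb)
  exact h (by simpa using comm_mul this (comm_inv (ha b (E.WZ hb))))

variable [Finite G]

theorem vd {a b g : G} (ha : a ∈ W) (hb : b ∈ W) : g * a * g⁻¹ ≠ b * C.z := fun e => by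
  have a1 : a ≠ 1 := fun c => E.d1 hb (by rw [← e, c]; simp)
  have b1 : b ≠ 1 := fun c => E.zW (by
    have e' : g⁻¹ * C.z * g⁻¹⁻¹ = a := by rw [c, one_mul] at e; rw [← e]; group
    rwa [← C.f2 (e' ▸ E.WZ ha), e'])
  obtain ⟨T, hT, h1, h2⟩ := C.exists_sylow (L := ⊤) le_top
  obtain ⟨w, hw, w1, h3⟩ := E.fix2 hT.isP fun x hx => mem_cent_iff.1 (h2 hx)
  obtain ⟨x, -, rfl⟩ := E.tr2 hw ha w1 a1
  obtain ⟨y, hy, rfl⟩ := E.tr2 hb hw b1 w1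
  have e' : y * g * x * (y * b * y⁻¹) * (y * g * x)⁻¹ = y * b * y⁻¹ * C.z := by
    rw [← cj_cj', ← cj_cj', cj_cj' g, ← cj_cj' g, e, ← cj_mul, cj_of hy]
  obtain ⟨n, h4, h5⟩ := C.burn hT h1 h3 (g := y * g * x) fun t ht => by
    rw [e']; exact (comm_mul (h3 t ht).symm (mem_cent_iff.1 (h2 ht)).symm).symm
  exact E.dW hw (e' ▸ h5 ▸ E.nW n h4 _ hw)

theorem inW {a g : G} (ha : a ∈ W) (h : g * a * g⁻¹ ∈ C.Z) : g * a * g⁻¹ ∈ W :=
  (E.dec' h).resolve_right fun ⟨_, hw, e⟩ => E.vd ha hw e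

theorem back {a b g : G} (ha : a ∈ W) (hb : b ∈ W) (a1 : a ≠ 1) (b1 : b ≠ 1) : ∃ c, c * C.z * c⁻¹ = g * C.z * g⁻¹ ∧
    c * a * c⁻¹ = g * b * g⁻¹ ∧ W ^ᶜ c = W ^ᶜ g := by
  obtain ⟨h, h1, rfl⟩ := E.tr2 ha hb a1 b1
  exact ⟨g * h, by rw [← cj_cj', cj_of h1], (cj_cj' _ _ _).symm, by
    rw [← cj_cj, cj_eq_of_cj_le (A := W) fun x hx => by
      obtain ⟨w, hw, rfl⟩ := mem_cj'.1 hx
      exact E.nW h h1 w hw]⟩

theorem fo {w : G} (hw : w = v ∨ w = v * C.z) {b : G} (hb : b ∈ W) (b1 : b ≠ 1) (vb : v ≠ b) : ∃ (m : b ∈ centralizer {w})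
    (C' : Cx (centralizer ({w} : Set G) ⧸ (zpowers w).subgroupOf (centralizer {w})) V K0),
    Cx.Desc C C' (QuotientGroup.mk' _) ∧ Fo C' (QuotientGroup.mk' _ (⟨b, m⟩ : centralizer {w})) := by
  have wZ : w ∈ C.Z := by rcases hw with rfl | rfl; exacts [E.WZ E.vW, E.dZ E.vW]
  have Q := qt_mk (C.Zsq w wZ)
  have hA : ∀ g, g * C.z = C.z * g → g * w = w * g → g ∈ C.A := fun g h h' => E.hA g h (by
    rcases hw with rfl | rfl
    · exact h'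
    · simpa [mul_assoc, C.zz] using comm_mul h'.symm h.symm |>.symm)
  obtain ⟨C', D⟩ := C.exists_quot Q wZ (by
    rcases hw with rfl | rfl
    exacts [fun e => E.zW (e ▸ E.vW), by simpa using E.v1]) hA
  have zM : C.z ∈ centralizer {w} := mem_cent_iff.2 (C.Zc wZ C.zJ)
  have m : b ∈ centralizer {w} := mem_cent_iff.2 (C.Zc wZ (C.ZJ (E.WZ hb)))
  refine ⟨m, C', D, (D.Z _).2 (E.WZ hb), ?_, ?_, fun u hu => ?_, fun g hg => ?_⟩
  · rw [Ne, Q.ker, not_or]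
    rcases hw with rfl | rfl
    exacts [⟨b1, vb.symm⟩, ⟨b1, fun e => E.dW E.vW (e ▸ hb)⟩]
  · rw [D.z zM, Ne, Q.eq, not_or]
    refine ⟨fun e => E.zW ((show b = C.z from e) ▸ hb), fun e => ?_⟩
    change b = C.z * w at e
    rcases hw with rfl | rfl
    · exact E.dW E.vW (E.cz E.vW ▸ e ▸ hb)
    · exact vb (by simpa [E.cz E.vW, ← mul_assoc, C.zz] using e.symm)
  · obtain ⟨u, rfl⟩ := Q.surj u
    rw [D.z zM, ← map_mul, Q.ker, Q.eq, Q.eq, Q.eq]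
    have h1 := E.cz E.vW
    have h2 := E.cz hb
    have h3 := E.cm E.vW hb
    have h4 : ∀ x, C.z * (C.z * x) = x := fun x => by rw [← mul_assoc, C.zz, one_mul]
    have h5 : ∀ x, b * (C.z * x) = C.z * (b * x) := fun x => by rw [← mul_assoc, h2, mul_assoc]
    rcases E.dec' ((D.Z u).1 hu) with h | ⟨x, h, e⟩
    · rcases E.four v E.vW b hb E.v1 b1 vb _ h with e | e | e | e <;> rcases hw with rfl | rfl <;>
        simp [e, h1, h2, h3, h4, h5, mul_assoc]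
    · rcases E.four v E.vW b hb E.v1 b1 vb _ h with rfl | rfl | rfl | rfl <;> rcases hw with rfl | rfl <;>
        simp [e, h1, h2, h3, h4, h5, mul_assoc]
  · obtain ⟨g, rfl⟩ := Q.surj g
    exact (D.A g).2 (hA g (D.comm Q wZ hg) (mem_cent_iff.1 g.2))

theorem stepD : (∀ w ∈ W, w ≠ 1 → Zp (w * C.z) C.z) ∨ Spor.IsoFi23 G := by
  obtain ⟨s, hs, b, hb, b1, vb, e⟩ := E.sw'
  obtain ⟨m, C', D, F⟩ := E.fo (Or.inr rfl) hb b1 vb
  have dZ := E.dZ E.vW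
  have Q := qt_mk (C.Zsq _ dZ)
  have zM : C.z ∈ centralizer {v * C.z} := mem_cent_iff.2 (C.Zc dZ C.zJ)
  have sM : s ∈ centralizer {v * C.z} := mem_cent_iff.2 (comm_mul (E.Av s hs).symm (C.Az s hs).symm).symm
  refine (F.caseA (s := QuotientGroup.mk' _ ⟨s, sM⟩) ?_ ?_).imp (fun h w hw w1 => ?_) fun ⟨f⟩ => ?_
  · rw [D.z zM, ← map_mul, ← map_mul]; exact congrArg _ (Subtype.ext (C.Az s hs))
  · rw [D.z zM, ← map_inv, ← map_mul, ← map_mul, ← map_mul, Q.eq]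
    exact Or.inr (e.trans (by simp [E.cz E.vW, mul_assoc, ← mul_assoc C.z C.z, C.zz]))
  · obtain ⟨h1, h2, rfl⟩ := E.tr w hw w1
    have := (D.zp Q dZ h).conj h1
    rwa [← cj_mul, cj_of h2] at this
  have := H18.Fi22.simple
  obtain ⟨h, h1, h2⟩ := E.tr b hb b1
  refine Cfsg.Agent.S1714.result _ (orderOf_eq_two_of (C.Zsq _ dZ) (E.d1 E.vW)) (quasi
    (H23.isQuasisimple_of_isSimpleGroup fun c => H18.Fi22.not_comm (c.is_comm.comm _ _))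
    (f.toMonoidHom.comp (QuotientGroup.mk' _)) (f.surjective.comp Q.surj) (fun x => by
      rw [MonoidHom.comp_apply, MulEquiv.coe_toMonoidHom, f.map_eq_one_iff, mem_ker_quot]) (mul_mem ?_ ?_)) ⟨f⟩
    ⟨h, ?_⟩
  · have := commutator_mem_commutator (inv_mem m) sM
    rwa [commutatorElement_def, inv_inv, mul_assoc, mul_assoc, ← mul_assoc s, e, inv_mul_cancel_left] at this
  · obtain ⟨x, hx, y, hy, e⟩ := C.exists_comm (B := ⊤) fun _ _ _ _ h => absurd trivial h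
    have := commutator_mem_commutator (inv_mem (mem_cent_iff.2 (C.Zc dZ hx.2)))
      (inv_mem (mem_cent_iff.2 (C.Zc dZ hy.2)))
    rwa [commutatorElement_def, inv_inv, inv_inv, mul_assoc, e, show x⁻¹ * y⁻¹ * (y * x * C.z) = C.z by group] at this
  · rw [← cj_mul, h2, cj_of h1]
    exact ⟨mem_cent_iff.2 (C.Zc dZ (C.ZJ (E.dZ hb))), by simpa using vb.symm⟩

theorem foB : ∃ b ∈ W, b ≠ 1 ∧ v ≠ b ∧ ∃ (m : b ∈ centralizer {v})
    (C' : Cx (centralizer ({v} : Set G) ⧸ (zpowers v).subgroupOf (centralizer {v})) V K0),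
    Cx.Desc C C' (QuotientGroup.mk' _) ∧ Fo C' (QuotientGroup.mk' _ (⟨b, m⟩ : centralizer {v})) ∧
    ∀ a, a * C'.z = C'.z * a → a * QuotientGroup.mk' _ (⟨b, m⟩ : centralizer {v}) =
      QuotientGroup.mk' _ (⟨b, m⟩ : centralizer {v}) * a := by
  obtain ⟨b, hb, b1, vb⟩ := E.other E.vW
  obtain ⟨m, C', D, F⟩ := E.fo (Or.inl rfl) hb b1 vb
  have Q := qt_mk (E.sq E.vW)
  refine ⟨b, hb, b1, vb, m, C', D, F, fun a ha => of_cj ?_⟩
  obtain ⟨a, rfl⟩ := Q.surj a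
  rw [← map_inv, ← map_mul, ← map_mul, Q.eq]
  exact E.act E.vW hb E.v1 b1 vb (mem_cent_iff.1 a.2) (E.nW a (D.comm Q (E.WZ E.vW) ha) b hb)

theorem wcV {w c : G} (hw : w ∈ W) (w1 : w ≠ 1) (hc : c * w = w * c) (h : c * C.z * c⁻¹ ∈ C.J) :
    c * C.z * c⁻¹ = C.z := by
  obtain ⟨x, hx, rfl⟩ := E.tr w hw w1
  obtain ⟨b, -, -, -, m, C', D, F, hB⟩ := E.foB
  have Q := qt_mk (E.sq E.vW)
  have zM := mem_cent_iff.2 (E.cz E.vW).symm
  have e : x⁻¹ * c * x * C.z * (x⁻¹ * c * x)⁻¹ = x⁻¹ * (c * C.z * c⁻¹) * x⁻¹⁻¹ := by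
    rw [← cj_cj', cj_of hx, cj_cj']
  have := F.wc (Or.inl hB) _ (by
    rw [D.cj zM ⟨x⁻¹ * c * x, mem_cent_iff.2 (by simpa [mul_assoc] using cj_comm (g := x⁻¹) hc)⟩]
    exact (D.J _).2 (e.symm ▸ C.nH _ (comm_inv hx) _ h : x⁻¹ * c * x * C.z * (x⁻¹ * c * x)⁻¹ ∈ C.J))
  rw [D.cj zM, D.z zM, Q.eq] at this
  exact cj_inj (e.symm.trans ((C.cj_eq (E.WZ E.vW) this).trans (cj_of (comm_inv hx)).symm))

variable (Zd : ∀ w ∈ W, w ≠ 1 → Zp (w * C.z) C.z)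
include Zd

theorem stepV : (∀ w ∈ W, w ≠ 1 → Zp w C.z) ∨ (∀ w ∈ W, w ≠ 1 → ∀ g, g * w = w * g → ∀ u ∈ W, g * u * g⁻¹ ∈ W) ∧
    UD (centralizer {v}) W (K0.relIndex (C.imK ⊤)) := by
  obtain ⟨b, hb, b1, vb, m, C', D, F, hB⟩ := E.foB
  have Q := qt_mk (E.sq E.vW)
  have zM := mem_cent_iff.2 (E.cz E.vW).symm
  by_cases h : Zp 1 C'.z
  · refine Or.inl fun w hw w1 => ?_
    obtain ⟨h1, h2, rfl⟩ := E.tr w hw w1
    have := (D.zp Q (E.WZ E.vW) h).conj h1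
    rwa [cj_of h2] at this
  obtain ⟨w, F', h1, h2⟩ := (F.caseB hB).resolve_left h
  rcases F.all w F'.dZ with e | e | rfl | rfl
  · exact absurd e F'.d1
  · exact absurd e F'.dz
  · refine Or.inr ⟨fun w hw w1 g hg u hu => ?_, ?_⟩
    · obtain ⟨x, hx, rfl⟩ := E.tr w hw w1
      have c : x⁻¹ * g * x * v = v * (x⁻¹ * g * x) := by simpa [mul_assoc] using cj_comm (g := x⁻¹) hg
      have := cj_of (h1 (QuotientGroup.mk' _ ⟨_, mem_cent_iff.2 c⟩))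
      rw [← map_inv, ← map_mul, ← map_mul, Q.eq] at this
      have k : x⁻¹ * g * x * b * (x⁻¹ * g * x)⁻¹ ∈ W := by
        change x⁻¹ * g * x * b * (x⁻¹ * g * x)⁻¹ = b ∨ x⁻¹ * g * x * b * (x⁻¹ * g * x)⁻¹ = b * v at this
        rcases this with e | e <;> rw [e]
        exacts [hb, mul_mem hb E.vW]
      have k' : x⁻¹ * g * x * (x⁻¹ * u * x⁻¹⁻¹) * (x⁻¹ * g * x)⁻¹ ∈ W := by
        rcases E.four v E.vW b hb E.v1 b1 vb _ (E.nW _ (comm_inv hx) u hu) with e | e | e | e <;> rw [e]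
        · simp
        · rw [cj_of c]; exact E.vW
        · exact k
        · rw [← cj_mul, cj_of c]; exact mul_mem E.vW k
      convert E.nW x hx _ k' using 1
      group
    · rw [D.imK Q.surj, show C.imK (centralizer {v}) = C.imK ⊤ from Subgroup.ext fun k =>
        ⟨fun ⟨a, _, h⟩ => ⟨a, trivial, h⟩, fun ⟨a, _, h⟩ => ⟨a, mem_cent_iff.2 (E.Av a h.1), h⟩⟩] at h2
      refine h2.lift _ Q.surj (fun x hx => mem_cent_iff.2 (E.cm hx E.vW)) fun x => ?_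
      rw [mem_zpowers_iff_of_sq F.dd, Q.ker, Q.eq]
      refine ⟨?_, fun hx => ?_⟩
      · rintro ((e | e) | e | e) <;> rw [e]
        exacts [one_mem _, E.vW, hb, mul_mem hb E.vW]
      · have := E.four v E.vW b hb E.v1 b1 vb _ hx
        rw [E.cm E.vW hb] at this
        tauto
  refine absurd (fun g _ c => ?_) h
  obtain ⟨g, rfl⟩ := Q.surj g
  obtain ⟨a, a1, a2⟩ : ∃ a, a * (b * C.z) = b * C.z * a ∧ a * C.z * a⁻¹ = g * C.z * (g : G)⁻¹ := by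
    have := cj_of (h1 (QuotientGroup.mk' _ g))
    rw [D.z zM, ← map_mul, ← map_inv, ← map_mul, ← map_mul, Q.eq] at this
    rcases this with e | e
    · exact ⟨g, of_cj e, rfl⟩
    obtain ⟨s, hs, c, hc, e1⟩ := E.sw
    have e2 := (E.act E.vW hb E.v1 b1 vb (E.Av s hs) (E.nW s (C.Az s hs) b hb)).resolve_left fun f =>
      e1 (E.cW E.vW hb E.v1 b1 vb (E.Av s hs) (of_cj f) c hc)
    refine ⟨g * s, of_cj ?_, by rw [← cj_cj', cj_of (C.Az s hs)]⟩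
    rw [← cj_cj', ← cj_mul s, e2, cj_of (C.Az s hs), mul_assoc b, E.cz E.vW, ← mul_assoc b, ← cj_mul,
      cj_of (mem_cent_iff.1 g.2), show (g : G) * (b * C.z) * (g : G)⁻¹ = b * C.z * v from e, mul_assoc, E.sq E.vW, mul_one]
  obtain ⟨O, ho, -, -, h3⟩ := (Zd b hb b1).odd C.zz C.z1 (C.Zc (E.dZ hb) C.zJ)
  have m := h3 a a1
  rw [a2] at m
  have e2 : (C'.z * (QuotientGroup.mk' _ g * C'.z * (QuotientGroup.mk' _ g)⁻¹)) ^ 2 = 1 := by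
    rw [Commute.mul_pow c, pow_two, pow_two, C'.zz, H73.FD.cj_sq C'.zz, one_mul]
  rw [D.cj zM, D.z zM, ← map_mul, ← map_pow, Q.ker] at e2
  have e4 : (C.z * (g * C.z * (g : G)⁻¹)) ^ 2 ^ 2 = 1 := by
    rw [pow_two 2, pow_mul]
    rcases e2 with e | e <;> rw [show (C.z * (g * C.z * (g : G)⁻¹)) ^ 2 = _ from e]
    exacts [one_pow 2, (pow_two v).trans (E.sq E.vW)]
  have := pow_gcd_eq_one.2 ⟨e4, pow_card m⟩
  rw [show Nat.gcd (2 ^ 2) _ = 1 from Nat.Coprime.pow_left 2 (Nat.coprime_two_left.2 ho), pow_one,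
    mul_eq_one_iff_inv_eq, inv_of_sq C.zz] at this
  rw [D.cj zM, D.z zM]
  exact congrArg _ (Subtype.ext this.symm)

theorem backD {u g : G} (hu : u ∈ C.Z) (hu' : u ∈ C.Z ^ᶜ g) (uW : u ∉ W)
    (c : g * C.z * g⁻¹ * C.z = C.z * (g * C.z * g⁻¹)) : g * C.z * g⁻¹ = C.z := by
  obtain ⟨w, hw, rfl⟩ := (E.dec' hu).resolve_left uW
  by_cases w1 : w = 1
  · exact ((C.conj g).f2' C (by rwa [w1, one_mul] at hu')).symm
  obtain ⟨u, hu'', e⟩ := mem_cj'.1 hu'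
  obtain ⟨a, ha, rfl⟩ := (E.dec' hu'').resolve_left fun m => E.vd m hw e.symm
  by_cases a1 : a = 1
  · exact C.f2 (by rw [a1, one_mul] at e; exact e ▸ hu)
  obtain ⟨x, h1, h2, -⟩ := E.back (g := g) hw ha w1 a1
  rw [← h1] at c ⊢
  exact Zd w hw w1 x (of_cj (by rw [← cj_mul, h1, h2, cj_mul, ← e])) c.symm

theorem wc : WC C := fun g ht => by
  by_contra ne
  have E' := E.conj g
  have tZ : g * C.z * g⁻¹ ∉ C.Z := fun m => ne (C.f2 m)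
  obtain ⟨w, hw, w1, h⟩ := E'.fix2 (R := C.J ⊓ centralizer {g * C.z * g⁻¹}) C.isP.to_inf_left
    fun a ha => mem_cent_iff.1 ha.2
  have h' : ∀ x ∈ C.J, x * (g * C.z * g⁻¹) = g * C.z * g⁻¹ * x → x * w = w * x := fun x hx e =>
    h x ⟨hx, mem_cent_iff.2 e⟩
  have hZ : ∀ u ∈ C.Z, w * u = u * w := fun u hu => (h' u (C.ZJ hu) (C.Zc hu ht).symm).symm
  rcases C.inner ht tZ (C.conj g).zz hZ (E'.sq hw) (fun x hx e => Or.inl (cj_of (h' x hx e).symm))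
    fun c _ _ h3 => absurd (C.mem_J_of ht (C.conj g).zz (C.cA w hZ) h') h3 with m | m
  · obtain ⟨a, ha, rfl⟩ := mem_cj'.1 hw
    obtain ⟨x, h1, h2, -⟩ := E.back (g := g) (E.inW ha m) ha w1 (by simpa using w1)
    exact ne (h1 ▸ E.wcV (E.inW ha m) w1 (of_cj h2) (h1 ▸ ht))
  · refine ne (E.backD Zd m (E'.dZ hw) (fun c => ?_) (C.Jz ht))
    obtain ⟨a, ha, rfl⟩ := mem_cj'.1 hw
    exact E.vd c ha (g := g⁻¹) (by group)

end Ei

end H94.PF
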