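import Cfsg.Agent.Lib.PF94.Eight
import Cfsg.Agent.S0815

/-!
The centre of order eight: commuting pairs and the normal four-group.
-/

set_option autoImplicit false

namespace H94.PF

open Module H95 H4.LX H9.WC QuadraticMap Subgroup Cfsg H69
open H73.FD (cj_mul cj_inj Pr)
open H30 (F4)

universe u

variable {G : Type u} [Group G] {V : Type u} [AddCommGroup V] [Module (ZMod 2) V]
  {K : Type*} [Group K] {K0 : Subgroup K}

/-- the standing alternatives -/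
structure E8 (C : Cx G V K0) (W : Subgroup G) (v : G) : Prop where
  E : Ei C W v
  Zd : ∀ w ∈ W, w ≠ 1 → Zp (w * C.z) C.z
  Hv : (∀ w ∈ W, w ≠ 1 → Zp w C.z) ∨ ∀ w ∈ W, w ≠ 1 → ∀ g, g * w = w * g → ∀ u ∈ W, g * u * g⁻¹ ∈ W

theorem E8.conj {C : Cx G V K0} {W : Subgroup G} {v : G} (E : E8 C W v) (g : G) :
    E8 (C.conj g) (W ^ᶜ g) (g * v * g⁻¹) := by
  refine ⟨E.E.conj g, fun w hw w1 => ?_, E.Hv.imp (fun h w hw w1 => ?_) fun h w hw w1 a ha u hu => ?_⟩ <;>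
    obtain ⟨w, hw', rfl⟩ := mem_cj'.1 hw
  · rw [Cx.conj_z, cj_mul]; exact (E.Zd w hw' (by simpa using w1)).conj g
  · exact (h w hw' (by simpa using w1)).conj g
  · have := h w hw' (by simpa using w1) (g⁻¹ * a * g) (by simpa [mul_assoc] using cj_comm (g := g⁻¹) ha) _
      (mem_cj.1 hu)
    rw [mem_cj]; convert this using 1; group

/-- a commuting pair -/
structure P8 (C C' : Cx G V K0) (W W' : Subgroup G) (v v' : G) : Prop where
  E : E8 C W v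
  E' : E8 C' W' v'
  c : C'.z * C.z = C.z * C'.z
  n : C'.z ∉ C.J
  n' : C.z ∉ C'.J
  sp : ∃ w ∈ W, w * C'.z = C'.z * w ∧ w ≠ 1 ∧ ∀ x ∈ C'.J, x * w = w * x → x * C.z = C.z * x
  sp' : ∃ w ∈ W', w * C.z = C.z * w ∧ w ≠ 1 ∧ ∀ x ∈ C.J, x * w = w * x → x * C'.z = C'.z * x
  dis : ∀ u ∈ C.Z, u ∈ C'.Z → u = 1

namespace P8

variable {C C' : Cx G V K0} {W W' : Subgroup G} {v v' : G} (P : P8 C C' W W' v v')
include P

theorem symm : P8 C' C W' W v' v :=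
  ⟨P.E', P.E, P.c.symm, P.n', P.n, P.sp', P.sp, fun u h h' => P.dis u h' h⟩

variable [Finite G]

theorem II {w : G} (hw : w ∈ W') (w1 : w ≠ 1) {x : G} (hx : x ∈ C.J) (h : x * (w * C'.z) = w * C'.z * x) :
    x * C'.z = C'.z * x :=
  C.zp_cent (P.E'.Zd w hw w1) C'.zz C'.z1 (C'.Zc (P.E'.E.dZ hw) C'.zJ) P.c hx h

theorem cent {u : G} (hu : u ∈ C'.Z) : C.z * u = u * C.z := by
  obtain ⟨w, hw, h1, w1, h2⟩ := P.sp
  by_contra c
  have := C'.two (C.Z ⊓ centralizer {C'.z}) (isP_of fun x hx => ⟨1, by rw [pow_one, pow_two, C.Zsq x hx.1]⟩)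
    (fun a ha => mem_cent_iff.1 ha.2) w ⟨P.E.E.WZ hw, mem_cent_iff.2 h1⟩ (w * C.z)
    ⟨P.E.E.dZ hw, mem_cent_iff.2 (comm_mul h1 P.c.symm)⟩ ⟨u, hu, fun e => c (h2 u (C'.ZJ hu) e.symm).symm⟩
    ⟨u, hu, fun e => c (P.symm.II hw w1 (C'.ZJ hu) e.symm).symm⟩ u hu
  rw [← mul_assoc, P.E.E.sq hw, one_mul] at this
  exact c this

theorem hc : ∀ u ∈ C'.Z, ∀ x ∈ C.Z, u * x = x * u := fun u hu x hx => by
  have := P.dis (u * x * u⁻¹ * x⁻¹) (mul_mem (C.nZ (P.cent hu).symm hx) (inv_mem hx)) (by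
    rw [mul_assoc, mul_assoc, ← mul_assoc x]
    exact mul_mem hu (C'.nZ (P.symm.cent hx).symm (inv_mem hu)))
  rwa [mul_inv_eq_one, mul_inv_eq_iff_eq_mul] at this

theorem hJ : ∀ u ∈ C'.Z, u ∈ C.J → u = 1 := fun u hu h => by
  by_contra u1
  have k : ¬ ∀ x ∈ C.J, x * u = u * x → x * C'.z = C'.z * x := fun c =>
    P.n (C.mem_J_of h (C'.Zsq u hu) (C.cA _ (P.hc _ C'.zZ)) c)
  rcases P.E'.E.dec' hu with m | ⟨w, hw, rfl⟩
  · rcases P.E'.Hv with H | H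
    · exact k fun x => C.zp_cent (H u m u1) C'.zz C'.z1 (C'.Zc hu C'.zJ) P.c
    obtain ⟨b, hb, b1, ub⟩ := P.E'.E.other m
    have bb := P.E'.E.sq hb
    rcases C.inner h (fun c => u1 (P.dis u c hu)) (C'.Zsq u hu) (P.hc b (P.E'.E.WZ hb)) bb (fun x hx e =>
      (P.E'.E.act m hb u1 b1 ub (comm_inv e) (H u m u1 _ (comm_inv e) b hb)).imp
        (fun f => cj_of (by simpa using (comm_inv (of_cj f)).symm)) fun f => by
          calc _ = x * (x⁻¹ * b * x⁻¹⁻¹ * b⁻¹) := by group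
            _ = _ := by rw [f, ← P.E'.E.cm m hb, mul_inv_cancel_right])
      fun c h1 h2 h3 => (P.E'.E.act hb m b1 u1 ub.symm h2 (H b hb b1 c h2 u m)).resolve_right fun f =>
        h3 ((mul_mem_cancel_left h).1 (f ▸ C.nH c (h1 _ C.zZ) u h)) with e | e
    · exact b1 (P.dis b e (P.E'.E.WZ hb))
    · have := P.dis _ e (P.E'.E.WZ (mul_mem hb m))
      rw [mul_eq_one_iff_inv_eq, inv_of_sq bb] at this
      exact ub this.symm
  · by_cases w1 : w = 1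
    · exact P.n (by rwa [w1, one_mul] at h)
    · exact k fun x => P.II hw w1

theorem side : Cx.Side C C' (v' * C'.z) C'.z :=
  ⟨P.E'.E.dZ P.E'.E.vW, C'.zZ, P.E'.E.d1 P.E'.E.vW, C'.z1, by simpa using P.E'.E.v1,
    fun _ => P.II P.E'.E.vW P.E'.E.v1, fun _ _ h => h, Or.inl (P.E.E.mem_K0 (P.hc _ (P.E'.E.dZ P.E'.E.vW))),
    Or.inr ⟨rfl, P.E'.Zd _ P.E'.E.vW P.E'.E.v1⟩⟩

theorem false : False := Cx.skew P.hc P.hJ P.symm.hJ P.side P.symm.side

end P8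

namespace E8

variable {C : Cx G V K0} {W : Subgroup G} {v : G} (E : E8 C W v) [Finite G]
include E

theorem pair {g : G} (c : g * C.z * g⁻¹ * C.z = C.z * (g * C.z * g⁻¹))
    (sp : ∃ w ∈ W, w * (g * C.z * g⁻¹) = g * C.z * g⁻¹ * w ∧ w ≠ 1 ∧
      ∀ x ∈ C.J ^ᶜ g, x * w = w * x → x * C.z = C.z * x)
    (sp' : ∃ w ∈ W ^ᶜ g, w * C.z = C.z * w ∧ w ≠ 1 ∧
      ∀ x ∈ C.J, x * w = w * x → x * (g * C.z * g⁻¹) = g * C.z * g⁻¹ * x)
    (dis : ∀ w ∈ W, w ≠ 1 → ∀ a, a * w = w * a → a * C.z * a⁻¹ = g * C.z * g⁻¹ → W ^ᶜ a = W ^ᶜ g →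
      g * C.z * g⁻¹ = C.z) : g * C.z * g⁻¹ = C.z := by
  by_contra ne
  have H := E.E.wc E.Zd
  refine P8.false ⟨E, E.conj g, c, fun m => ne (H g m), H.n ne, sp, sp', fun u hu hu' => ?_⟩
  by_contra u1
  by_cases m : u ∈ W
  · have m' := E.E.inW m (g := g⁻¹) (by simpa using mem_cj.1 hu')
    obtain ⟨a, h1, h2, h3⟩ := E.E.back (g := g) m m' u1 (mt conj_eq_one_iff.1 u1)
    exact ne (dis u m u1 a (of_cj (h2.trans (by group))) h1 h3)
  · exact ne (E.E.backD E.Zd hu hu' m c)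

theorem allZ (h : ∀ w ∈ W, w ≠ 1 → Zp w C.z) : Zp 1 C.z := fun g _ c => by
  obtain ⟨w, hw, w1, e⟩ := E.E.fix1 c.symm (by rw [H73.FD.cj_sq C.zz]; simp)
  obtain ⟨w', hw', w1', e'⟩ := (E.E.conj g).fix1 c (by rw [C.zz]; simp)
  refine E.pair c.symm ⟨w, hw, e.symm, w1, fun x => (C.conj g).zp_cent (h w hw w1) C.zz C.z1 (E.E.cz hw).symm c⟩
    ⟨w', hw', e'.symm, w1', fun x => C.zp_cent ?_ (C.conj g).zz (C.conj g).z1 ((E.E.conj g).cz hw').symm c.symm⟩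
    fun w hw w1 a h1 h2 _ => h2 ▸ h w hw w1 a h1 (h2 ▸ c)
  obtain ⟨w', hw'', rfl⟩ := mem_cj'.1 hw'
  exact (h w' hw'' (by simpa using w1')).conj g

variable (N : ∀ w ∈ W, w ≠ 1 → ∀ g, g * w = w * g → ∀ u ∈ W, g * u * g⁻¹ ∈ W)
include N

theorem inW {w u g : G} (hw : w ∈ W) (hu : u ∈ W) (u1 : u ≠ 1) (c : g * w * g⁻¹ * u = u * (g * w * g⁻¹)) :
    g * w * g⁻¹ ∈ W := by
  by_cases w1 : w = 1
  · simp [w1]
  obtain ⟨g, -, e, -⟩ := E.E.back (g := g) hu hw u1 w1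
  rw [← e] at c ⊢
  obtain ⟨c, h1, e, h2, h3, h4, h5, h6, h7⟩ := C.special (E.E.WZ hu) c
  rw [← h2]
  refine N u hu u1 c h1 _ ?_
  by_contra m
  refine m (E.E.nW e (of_cj (E.pair h3 ⟨u, hu, h5, u1, h7⟩ ⟨_, cj_mem e hu, h4, by simpa using u1, h6⟩
    fun w hw w1 a h1 _ h3 => absurd ?_ m)) u hu)
  obtain ⟨x, hx, f⟩ := mem_cj'.1 (h3.ge (cj_mem e hu))
  exact f ▸ N w hw w1 a h1 x hx

theorem cd {w g : G} (hw : w ∈ W) (w1 : w ≠ 1) (h : g * (w * C.z) = w * C.z * g) : g * C.z = C.z * g := by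
  obtain ⟨O, ho, h1, h2, h3⟩ := (E.Zd w hw w1).odd C.zz C.z1 (C.Zc (E.E.dZ hw) C.zJ)
  have hJ : ∀ x ∈ C.J, ∀ o ∈ O, x * o * x⁻¹ ∈ O := fun x hx => h2 x (C.Zc (E.E.dZ hw) hx)
  have i1 : ∀ o ∈ O, w * o * w⁻¹ = o⁻¹ := fun o m => by
    rw [← C.inverts ho hJ m]
    conv_rhs => rw [← cj_of (h1 o m).symm, cj_cj', E.E.cz hw, ← mul_assoc, C.zz, one_mul]
  have i2 : ∀ b ∈ W, b ≠ 1 → b ≠ w → ∀ o ∈ O, b * o * b⁻¹ = o⁻¹ := fun b hb b1 bw o m =>
    inv_of_fpf (E.E.sq hb) (hJ b (C.ZJ (E.E.WZ hb))) (fun o m c => one_of_inv ho m (by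
      have e : o * o = o * w * o⁻¹ * w⁻¹ := by
        rw [mul_assoc, mul_assoc, ← mul_assoc w, i1 _ (inv_mem m), inv_inv]
      rw [← mul_eq_one_iff_eq_inv]
      exact C.one_of_odd (e ▸ C.ZJ (E.E.WZ (mul_mem (N b hb b1 o c w hw) (inv_mem hw)))) ho
        (pow_card (mul_mem m m)))) m
  obtain ⟨b, hb, b1, wb⟩ := E.E.other hw
  have m := h3 g h
  have := one_of_inv ho m (by
    rw [← i1 _ m]
    conv_rhs => rw [show w = b * (b * w) by rw [← mul_assoc, E.E.sq hb, one_mul], ← cj_cj']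
    rw [i2 _ (mul_mem hb hw) (fun e => wb (by
      rw [mul_eq_one_iff_inv_eq, inv_of_sq (E.E.sq hb)] at e; exact e.symm)) (by simpa using b1) _ m,
      i2 b hb b1 wb.symm _ (inv_mem m), inv_inv])
  rw [mul_eq_one_iff_inv_eq, inv_of_sq C.zz] at this
  exact of_cj this.symm

theorem normal : W.Normal := ⟨fun w hw g => by
  have vW := E.E.vW
  have xx := H73.FD.cj_sq (g := g) (E.E.sq hw)
  have yy := C.Zsq _ (E.E.dZ vW)
  have cv : ∀ x, x * (v * C.z) = v * C.z * x → x * v = v * x := fun x h => by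
    simpa [mul_assoc, C.zz] using (comm_mul h.symm (E.cd N vW E.E.v1 h).symm).symm
  by_cases w1 : w = 1
  · simp [w1]
  rcases Nat.even_or_odd (orderOf (g * w * g⁻¹ * (v * C.z))) with o | o
  swap
  · obtain ⟨n, hn⟩ := H9.exists_pow_conj_of_odd xx yy o
    rw [cj_cj'] at hn
    exact absurd hn (E.E.vd hw vW)
  obtain ⟨u, c, uu, u1, h1, h2, -, ⟨-, h⟩ | h⟩ := H73.FD.dih xx yy o
  · have E' := E.conj g
    have N' := (E8.conj ⟨E.E, E.Zd, Or.inr N⟩ g).Hv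
    have m : u * (g * w * g⁻¹) ∈ W ^ᶜ g := by
      rw [mem_cj, h, show g⁻¹ * (c * (g * w * g⁻¹) * c⁻¹) * g = g⁻¹ * c * g * w * (g⁻¹ * c * g)⁻¹ by group]
      refine E.inW N hw hw w1 ?_
      have := cj_comm (g := g⁻¹) (comm_mul h1.eq rfl)
      rw [h] at this
      simpa [mul_assoc] using this
    obtain ⟨a, ha, rfl⟩ := mem_cj'.1 ((mul_mem_cancel_right (cj_mem g hw)).1 m)
    exact E.inW N hw (E.inW N ha vW E.E.v1 (cv _ h2.eq)) u1 h1.eq.symm
  · rw [cj_cj'] at h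
    have m := E.inW N hw vW E.E.v1 (g := c * g) (cv _ (h ▸ comm_mul h2.eq rfl))
    have e : u = c * g * w * (c * g)⁻¹ * v * C.z := by rw [mul_assoc _ v, ← h, mul_assoc, yy, mul_one]
    have hz : g * w * g⁻¹ * C.z = C.z * (g * w * g⁻¹) := by
      by_cases a1 : c * g * w * (c * g)⁻¹ * v = 1
      · rw [a1, one_mul] at e; exact e ▸ h1.eq.symm
      · exact E.cd N (mul_mem m vW) a1 (e ▸ h1.eq.symm)
    obtain ⟨a, ha, a1, f⟩ := E.E.fix1 hz (by rw [xx]; simp)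
    exact E.inW N hw ha a1 f⟩

end E8

/-- the element of order three -/
structure Cc (C : Cx G V K0) (c : G) : Prop where
  cz : c * C.z = C.z * c
  c3 : c * c * c = 1
  cJ : ∀ j ∈ C.J, c * j = j * c → j = 1 ∨ j = C.z
  cm : ∀ a, (∀ u ∈ C.Z, a * u = u * a) → c * a * c⁻¹ * a⁻¹ ∈ C.J

namespace Cc

variable {C : Cx G V K0} {c : G} (h : Cc C c)
include h

theorem inv : Cc C c⁻¹ := by
  refine ⟨comm_inv h.cz, by rw [← mul_inv_rev, ← mul_inv_rev, ← mul_assoc, h.c3, inv_one],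
    fun j hj e => h.cJ j hj (by simpa using comm_inv e), fun a ha => ?_⟩
  have := C.nH _ (comm_inv h.cz) _ (inv_mem (h.cm a ha))
  convert this using 1
  group

theorem of_sq {x : G} (e : c * c * x = x * (c * c)) : c * x = x * c := by
  rw [show c = (c * c)⁻¹ from eq_inv_of_mul_eq_one_right h.c3]; exact comm_inv e

theorem fpf {W : Subgroup G} {v : G} (E : Ei C W v) {w : G} (hw : w ∈ W) (w1 : w ≠ 1) : c * w * c⁻¹ ≠ w :=
  fun e => (h.cJ w (C.ZJ (E.WZ hw)) (of_cj e)).elim w1 fun f => E.zW (f ▸ hw)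

theorem nontriv (k : ∀ j ∈ C.J, (j⁻¹ * (c * j * c⁻¹)) ∈ C.Z) : False := by
  have := C.form.fin
  obtain ⟨x, -, x0⟩ := exists_ne_zero (B := (⊤ : Submodule (ZMod 2) V)) (by rw [finrank_top, C.form.h8]; norm_num)
  obtain ⟨j, hj, rfl⟩ := C.π_surj x
  have n := C.nH c h.cz
  have p : ∀ j ∈ C.J, C.π (c * j * c⁻¹) = C.π j := fun j hj => ((C.π_eq hj (n j hj)).2 (k j hj)).symm
  have cm : ∀ j ∈ C.J, ∀ i ∈ C.J, C.π i = C.π j → i * j = j * i := fun j hj i hi e =>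
    (C.b_π _ hi _ hj).1 (by rw [e, polar_same])
  have m1 := n j hj
  have m2 := n _ m1
  have m := mul_mem (mul_mem hj m1) m2
  have := (C.π_zero _ m).2 ((h.cJ _ m (of_cj (by
    rw [← cj_mul, ← cj_mul, cj_cj' c c (c * j * c⁻¹), cj_cj' (c * c), h.c3, one_mul, inv_one, mul_one,
      comm_mul (cm j hj _ m1 (p j hj)) (cm j hj _ m2 ((p _ m1).trans (p j hj))), mul_assoc j]))).elim (fun e => e ▸ one_mem _) fun e => e ▸ C.zZ)
  rw [C.π_mul _ (mul_mem hj m1) _ m2, C.π_mul _ hj _ m1, p _ m1, p j hj, aa, zero_add] at this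
  exact x0 this

theorem not_three {W : Subgroup G} {v : G} (E : Ei C W v) {x : G} (xz : x * C.z = C.z * x)
    (hx : ∀ l, (∀ w ∈ W, l * w = w * l) → x * l * x⁻¹ * l⁻¹ ∈ W) (hc : ∀ w ∈ W, c * x * w = w * (c * x)) :
    False := by
  have hZ := E.cZ (comm_mul h.cz xz) hc
  have yA := C.cA _ hZ
  have yJ := (C.μ_one _ yA).1 (C.kd.cent _ fun k hk => by
    obtain ⟨a, ha, rfl⟩ := C.μ_surj k hk
    have aZ := C.h0 a ha hk
    have := mul_mem (C.nH c h.cz _ (C.ZJ (E.WZ (hx a fun w hw => aZ w (E.WZ hw))))) (h.cm a aZ)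
    have m := mul_mem (mul_mem yA ha) (inv_mem yA)
    rw [← mul_inv_eq_iff_eq_mul, ← C.μ_conj yA ha, ← mul_inv_eq_one, ← C.μ_inv ha, ← C.μ_mul _ m _ (inv_mem ha),
      C.μ_one _ (mul_mem m (inv_mem ha))]
    convert this using 1
    group)
  refine h.inv.nontriv fun j hj => ?_
  have m := C.nH _ (comm_inv (comm_mul h.cz xz)) j hj
  have m1 := E.WZ (hx _ fun w hw => C.Zc (E.WZ hw) m)
  have m2 : j⁻¹ * ((c * x)⁻¹ * j * (c * x)⁻¹⁻¹) ∈ C.Z := by
    rcases C.conj' hj (inv_mem yJ) with e | e <;> rw [e]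
    exacts [by simp, by simpa using C.zZ]
  have := mul_mem (C.nZ (C.Jz (inv_mem hj)) m1) m2
  convert this using 1
  group

theorem centW [Finite G] {W : Subgroup G} [hW : W.Normal] {v : G} (E : Ei C W v)
    (U : ∀ g, g * v = v * g → (∀ l, (∀ w ∈ W, l * w = w * l) → g * l * g⁻¹ * l⁻¹ ∈ W) → g ∈ W) {x : G}
    (hx : ∀ l, (∀ w ∈ W, l * w = w * l) → x * l * x⁻¹ * l⁻¹ ∈ W) : x ∈ W := by
  have xz : x * C.z = C.z * x := of_cj (C.f2 ((mul_mem_cancel_right (inv_mem C.zZ)).1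
    (E.WZ (hx _ fun w hw => (E.cz hw).symm))))
  by_cases c1 : ∃ w ∈ W, w ≠ 1 ∧ x * w * x⁻¹ = w
  · obtain ⟨w, hw, w1, e⟩ := c1
    obtain ⟨g, -, rfl⟩ := E.tr w hw w1
    have := U (g⁻¹ * x * g) (by simpa [mul_assoc] using cj_comm (g := g⁻¹) (of_cj e)) fun l hl => by
      have := hW.conj_mem _ (hx (g * l * g⁻¹) fun w hw => by
        simpa [mul_assoc] using cj_comm (g := g) (hl _ (hW.conj_mem w hw g⁻¹))) g⁻¹
      convert this using 1
      group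
    convert hW.conj_mem _ this g using 1
    group
  push Not at c1
  exfalso
  have hb := hW.conj_mem v E.vW c
  have b1 : c * v * c⁻¹ ≠ 1 := by simpa using E.v1
  have vb := (h.fpf E E.vW E.v1).symm
  have e1 : c * (c * v * c⁻¹) * c⁻¹ = v * (c * v * c⁻¹) := by
    rcases E.four v E.vW _ hb E.v1 b1 vb _ (hW.conj_mem _ hb c) with e | e | e | e
    · exact absurd (by simpa using e) E.v1
    · rw [cj_cj'] at e; exact absurd (cj_of (h.of_sq (of_cj e))) vb.symm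
    · exact absurd e (h.fpf E hb b1)
    · exact e
  generalize hb' : c * v * c⁻¹ = b at *
  have n : x * v * x⁻¹ = b → x * b * x⁻¹ ≠ v := fun e f => c1 _ (mul_mem E.vW hb) (fun g => vb (by
    rwa [mul_eq_one_iff_inv_eq, inv_of_sq (E.sq E.vW)] at g)) (by rw [← cj_mul, e, f, E.cm hb E.vW])
  rcases E.four v E.vW _ hb E.v1 b1 vb _ (hW.conj_mem _ E.vW x) with e | e | e | e
  · exact E.v1 (by simpa using e)
  · exact c1 v E.vW E.v1 e
  all_goals rcases E.four v E.vW _ hb E.v1 b1 vb _ (hW.conj_mem _ hb x) with f | f | f | f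
  · exact b1 (by simpa using f)
  · exact n e f
  · exact c1 b hb b1 f
  · exact h.inv.not_three E xz hx (E.cW E.vW hb E.v1 b1 vb (of_cj (by rw [← cj_cj', e, ← hb']; group))
      (of_cj (by rw [← cj_cj', f, ← e1]; group)))
  · exact b1 (by simpa using f)
  · exact h.not_three E xz hx (E.cW E.vW hb E.v1 b1 vb (of_cj (by
      rw [← cj_cj', e, ← cj_mul, hb', e1, E.cm E.vW hb, ← mul_assoc, E.sq hb, one_mul]))
      (of_cj (by rw [← cj_cj', f, hb'])))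
  · exact c1 b hb b1 f
  · exact vb (cj_inj (e.trans f.symm))

theorem aut [Finite G] {W : Subgroup G} [hW : W.Normal] {v : G} (E : Ei C W v) (U : UD (centralizer {v}) W 2) :
    Nonempty (G ⧸ W ≃* MulAut (PSU 6 F4 2)) := by
  obtain ⟨L, f, h1, h2, h3, h4, h5, h6⟩ := U
  obtain ⟨s, hs, b, hb, b1, vb, e⟩ := E.sw'
  have ac : ∀ a ∈ centralizer {v}, a * b * a⁻¹ = b ∨ a * b * a⁻¹ = b * v := fun a ha =>
    E.act E.vW hb E.v1 b1 vb (mem_cent_iff.1 ha) (hW.conj_mem b hb a)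
  have l1 : L ≤ 𝐂(W) := fun g hg => by
    obtain ⟨l, hl, m⟩ := cover quasi_psu.1 f h4 h5 hg
    refine (mul_mem_cancel_left (inv_mem ((commutator_le.2 fun x hx y hy => ?_ : ⁅L, L⁆ ≤ 𝐂(W)) hl))).1
      (mc.2 fun w hw => E.cm m hw)
    have hx' := mem_cent_iff.1 (h1 hx)
    have hy' := mem_cent_iff.1 (h1 hy)
    refine mc.2 (E.cW E.vW hb E.v1 b1 vb (comm_mul (comm_mul (comm_mul hx' hy') (comm_inv hx')) (comm_inv hy'))
      (of_cj ?_))
    have k : ∀ a ∈ centralizer {v}, a⁻¹ * b * a⁻¹⁻¹ = a * b * a⁻¹ := fun a ha => by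
      rcases ac a ha with e | e
      · rw [e, cj_of (comm_inv (of_cj e))]
      · refine cj_inj (g := a) ?_
        rw [e, ← cj_mul a b v, e, cj_of (mem_cent_iff.1 ha), mul_assoc b, E.sq E.vW]; group
    rw [commutatorElement_def, ← cj_cj', ← cj_cj', ← cj_cj', k y (h1 hy)]
    rcases ac x (h1 hx) with e | e <;> rcases ac y (h1 hy) with e' | e' <;>
      simp only [e, e', ← cj_mul, k x (h1 hx), cj_of hx', cj_of hy', cj_of (comm_inv hx'), mul_assoc b,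
        mul_assoc v, E.sq E.vW, mul_one, one_mul]
  have l2 : 𝐂(W) ≤ centralizer {v} := fun g hg => mem_cent_iff.2 (mc.1 hg v E.vW)
  obtain rfl : L = 𝐂(W) := by
    rw [← relIndex_mul_relIndex _ _ _ l1 l2] at h3
    refine le_antisymm l1 (relIndex_eq_one.1 ((Nat.prime_two.eq_one_or_self_of_dvd _
      (Dvd.intro _ h3)).resolve_right fun c => ?_))
    rw [c] at h3
    have := mc.1 (relIndex_eq_one.1 (show (𝐂(W)).relIndex (centralizer {v}) = 1 by omega)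
      (mem_cent_iff.2 (E.Av s hs))) b hb
    exact E.v1 (by simpa [cj_of this] using e)
  let p := (QuotientGroup.mk' W).subgroupMap 𝐂(W)
  have hp := (QuotientGroup.mk' W).subgroupMap_surjective 𝐂(W)
  let ε := (QuotientGroup.quotientKerEquivOfSurjective p hp).symm.trans ((QuotientGroup.quotientMulEquivOfEq
    (show p.ker = f.ker from Subgroup.ext fun x => by
      rw [MonoidHom.mem_ker, MonoidHom.mem_ker, h5, Subtype.ext_iff]; exact QuotientGroup.eq_one_iff _)).trans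
    (QuotientGroup.quotientKerEquivOfSurjective f h4))
  have : ((𝐂(W)).map (QuotientGroup.mk' W)).Normal := Normal.map inferInstance _ (QuotientGroup.mk'_surjective W)
  let Φ := (MulAut.congr ε).toMonoidHom.comp (MulAut.conjNormal (H := (𝐂(W)).map (QuotientGroup.mk' W)))
  have inj : Function.Injective Φ := (MulAut.congr ε).injective.comp ((injective_iff_map_eq_one _).2 fun x hx => by
    obtain ⟨x, rfl⟩ := QuotientGroup.mk'_surjective W x
    refine (QuotientGroup.eq_one_iff _).2 (h.centW E (fun g hg c => h6 g (mem_cent_iff.2 hg) fun l hl =>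
      c l (mc.1 hl)) fun l hl => (QuotientGroup.eq_one_iff _).1 ?_)
    have := congrArg Subtype.val (DFunLike.congr_fun hx ⟨_, l, mc.2 hl, rfl⟩)
    rw [MulAut.conjNormal_apply] at this
    exact mul_inv_eq_one.2 this)
  have c0 := Cfsg.Agent.S0815.result (F := F4) 2 1 le_rfl (q := 2) rfl rfl 6 (by norm_num) (by norm_num)
  have : Finite (PSU 6 F4 2) := Finite.of_surjective f h4
  refine ⟨MulEquiv.ofBijective Φ (inj.bijective_of_nat_card_le ?_)⟩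
  have c1 := card_eq_ker_mul f W h5
  rw [inf_eq_right.2 h2, MonoidHom.range_eq_top.2 h4, card_top] at c1
  have c2 := (𝐂(W)).card_mul_index
  have c3 := W.card_mul_index
  have c4 : 3 ≤ (centralizer ({v} : Set G)).index := by
    have i0 : (centralizer ({v} : Set G)).index ≠ 0 := index_ne_zero_of_finite
    have i1 : (centralizer ({v} : Set G)).index ≠ 1 := fun e =>
      h.fpf E E.vW E.v1 (cj_of (mem_cent_iff.1 ((index_eq_one.1 e).ge (mem_top c))))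
    have i2 : (centralizer ({v} : Set G)).index ≠ 2 := fun e =>
      h.fpf E E.vW E.v1 (cj_of (h.of_sq (mem_cent_iff.1 (mul_self_mem_of_index_two e c))))
    omega
  rw [← relIndex_mul_index l2, h3, c1, ← c3, mul_assoc] at c2
  rw [c0, ← index_eq_card W, ← Nat.eq_of_mul_eq_mul_left Nat.card_pos c2, mul_comm]
  exact Nat.mul_le_mul_left _ (by norm_num; omega)

theorem main [Finite G] {W : Subgroup G} {v : G} (E : Ei C W v) (i2 : K0.relIndex (C.imK ⊤) = 2) :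
    Zp 1 C.z ∨ Spor.IsoFi23 G ∨ ∃ _ : W.Normal, Nonempty (G ⧸ W ≃* MulAut (PSU 6 F4 2)) := by
  rcases E.stepD with Zd | H
  · rcases E.stepV Zd with H | ⟨N, U⟩
    · exact Or.inl (E8.allZ ⟨E, Zd, Or.inl H⟩ H)
    · have := E8.normal ⟨E, Zd, Or.inr N⟩ N
      exact Or.inr (Or.inr ⟨this, h.aut E (i2 ▸ U)⟩)
  · exact Or.inr (Or.inl H)

end Cc

end H94.PF
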