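import Cfsg.Agent.Lib.PF94.Pair

/-!
Passing to sections, and the extraspecial case.
-/

set_option autoImplicit false

namespace H94.PF

open Module H95 H4.LX H9.WC QuadraticMap Subgroup Cfsg H69
open H73.FD (cj_mul cj_inj Pr)
open H30 (F4)

universe u

variable {G : Type u} [Group G] {V : Type u} [AddCommGroup V] [Module (ZMod 2) V]
  {K : Type*} [Group K] {K0 : Subgroup K}

namespace Cx

/-- `C'` is induced by `C` on a section -/
structure Desc {G' : Type u} [Group G'] (C : Cx G V K0) (C' : Cx G' V K0) {M : Subgroup G} (f : M →* G') :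
    Prop where
  σ : C'.σ = C.σ
  q : C'.q = C.q
  z : ∀ h, C'.z = f ⟨C.z, h⟩
  A : ∀ m, f m ∈ C'.A ↔ (m : G) ∈ C.A
  J : ∀ m, f m ∈ C'.J ↔ (m : G) ∈ C.J
  Z : ∀ m, f m ∈ C'.Z ↔ (m : G) ∈ C.Z
  π : ∀ m : M, (m : G) ∈ C.J → C'.π (f m) = C.π m
  μ : ∀ m : M, (m : G) ∈ C.A → C'.μ (f m) = C.μ m

variable (C : Cx G V K0)

theorem exists_desc {G' : Type u} [Group G'] {M : Subgroup G} (f : M →* G') (hf : Function.Surjective f)
    (hk : ∀ x : M, f x = 1 → (x : G) ∈ C.Z) (zM : C.z ∈ M) (z1 : f ⟨C.z, zM⟩ ≠ 1)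
    (hJ : ∀ x ∈ C.J, ∃ u ∈ C.Z, x * u ∈ M) (hK : ∀ k ∈ K0, ∃ a ∈ C.A, a ∈ M ∧ C.μ a = k)
    (hA : ∀ m : M, f m * f ⟨C.z, zM⟩ = f ⟨C.z, zM⟩ * f m → (m : G) ∈ C.A) :
    ∃ C' : Cx G' V K0, Desc C C' f := by
  have eq : ∀ {x y : M}, f x = f y → (x : G)⁻¹ * y ∈ C.Z := fun {x y} e =>
    hk (x⁻¹ * y) (by rw [map_mul, map_inv, e, inv_mul_cancel])
  have mem : ∀ (S : Subgroup G), C.Z ≤ S → ∀ m, f m ∈ (S.subgroupOf M).map f ↔ (m : G) ∈ S := fun S hS m =>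
    ⟨fun ⟨x, hx, e⟩ => by simpa using mul_mem (mem_subgroupOf.1 hx) (hS (eq e)), fun h => ⟨m, h, rfl⟩⟩
  have mA := mem C.A (C.ZJ.trans C.JA)
  have mJ := mem C.J C.ZJ
  have mZ := mem C.Z le_rfl
  let s := Function.surjInv hf
  have hs : ∀ x, f (s x) = x := Function.surjInv_eq hf
  have hπ : ∀ m : M, (m : G) ∈ C.J → C.π (s (f m)) = C.π m := fun m h =>
    (C.π_eq ((mJ _).1 (by rw [hs]; exact (mJ _).2 h)) h).2 (eq (hs _))
  have hμ : ∀ m : M, (m : G) ∈ C.A → C.μ (s (f m)) = C.μ m := fun m h =>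
    (C.μ_eq ((mA _).1 (by rw [hs]; exact (mA _).2 h)) h).2 (C.ZJ (eq (hs _)))
  have cm : ∀ {x y : M}, (x : G) * y = y * x → f x * f y = f y * f x := fun {x y} e => by
    rw [← map_mul, ← map_mul]; exact congrArg f (Subtype.ext e)
  have zo : ∀ x y : M, (x : G) = y ∨ (x : G) = y * C.z → (f x = f y ↔ (x : G) = y) := fun x y h =>
    ⟨fun e => h.resolve_right fun e' => z1 (by
      rwa [show x = y * ⟨C.z, zM⟩ from Subtype.ext e', map_mul, mul_eq_left] at e),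
      fun e => congrArg f (Subtype.ext e)⟩
  refine ⟨{
    A := (C.A.subgroupOf M).map f
    J := (C.J.subgroupOf M).map f
    Z := (C.Z.subgroupOf M).map f
    z := f ⟨C.z, zM⟩
    π := fun x => C.π (s x)
    μ := fun x => C.μ (s x)
    σ := C.σ
    q := C.q
    form := C.form
    kd := C.kd
    z1 := z1
    zZ := (mZ _).2 C.zZ
    ZJ := map_mono (comap_mono C.ZJ)
    JA := map_mono (comap_mono C.JA)
    Az := ?_, Zsq := ?_, sq := ?_, cm := ?_, nH := ?_, π_mul := ?_, π_surj := ?_, π_zero := ?_, q_π := ?_,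
    b_π := ?_, μ_mul := ?_, μ_surj := ?_, μ_one := ?_, act := ?_, h0 := ?_, cA := ?_, ex6 := ?_,
    two := ?_ }, rfl, rfl, fun _ => rfl, mA, mJ, mZ, hπ, hμ⟩
  · rintro _ ⟨a, ha, rfl⟩
    exact cm (C.Az a ha)
  · rintro _ ⟨a, ha, rfl⟩
    rw [← map_mul, ← map_one f]; exact congrArg f (Subtype.ext (C.Zsq a ha))
  · rintro _ ⟨a, ha, rfl⟩
    rw [← map_mul, ← map_one f]
    exact (C.sq a ha).imp (fun e => congrArg f (Subtype.ext e)) fun e => congrArg f (Subtype.ext e)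
  · rintro _ ⟨a, ha, rfl⟩ _ ⟨b, hb, rfl⟩
    rw [← map_mul, ← map_mul, ← map_mul]
    exact (C.cm a ha b hb).imp (fun e => congrArg f (Subtype.ext e)) fun e => congrArg f (Subtype.ext e)
  · rintro h hh _ ⟨a, ha, rfl⟩
    obtain ⟨h, rfl⟩ := hf h
    rw [← map_inv, ← map_mul, ← map_mul]
    exact (mJ _).2 (C.nJ (hA h hh) ha)
  · rintro _ ⟨a, ha, rfl⟩ _ ⟨b, hb, rfl⟩
    rw [← map_mul, hπ _ ha, hπ _ hb, hπ (a * b) (mul_mem ha hb : a * b ∈ C.J.subgroupOf M)]; exact C.π_mul _ ha _ hb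
  · intro v
    obtain ⟨x, hx, rfl⟩ := C.π_surj v
    obtain ⟨u, hu, m⟩ := hJ x hx
    have := mul_mem hx (C.ZJ hu)
    exact ⟨f ⟨_, m⟩, (mJ _).2 this, by rw [hπ _ this, C.π_mulZ hx hu]⟩
  · rintro _ ⟨a, ha, rfl⟩
    rw [hπ _ ha, mZ, C.π_zero a ha]
  · rintro _ ⟨a, ha, rfl⟩
    rw [hπ _ ha, C.q_π a ha, ← map_mul, ← map_one f, zo _ _ (by simpa using C.sq a ha)]; rfl
  · rintro _ ⟨a, ha, rfl⟩ _ ⟨b, hb, rfl⟩
    rw [hπ _ ha, hπ _ hb, C.b_π a ha b hb, ← map_mul, ← map_mul, zo _ _ (C.cm a ha b hb)]; rfl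
  · rintro _ ⟨a, ha, rfl⟩ _ ⟨b, hb, rfl⟩
    rw [← map_mul, hμ _ ha, hμ _ hb, hμ (a * b) (mul_mem ha hb : a * b ∈ C.A.subgroupOf M)]; exact C.μ_mul _ ha _ hb
  · intro k hk
    obtain ⟨a, ha, m, rfl⟩ := hK k hk
    exact ⟨f ⟨a, m⟩, (mA _).2 ha, hμ _ ha⟩
  · rintro _ ⟨a, ha, rfl⟩
    rw [hμ _ ha, mJ, C.μ_one a ha]
  · rintro _ ⟨a, ha, rfl⟩ _ ⟨b, hb, rfl⟩
    rw [← map_inv, ← map_mul, ← map_mul, hμ _ ha, hπ _ hb, hπ (a * b * a⁻¹) (C.nJ ha hb)]; exact C.act _ ha _ hb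
  · rintro _ ⟨a, ha, rfl⟩ m _ ⟨b, hb, rfl⟩
    rw [hμ _ ha] at m
    exact cm (C.h0 a ha m b hb)
  · intro g hg
    obtain ⟨g, rfl⟩ := hf g
    exact (mA _).2 (hA g (hg _ ((mZ _).2 C.zZ)))
  · rintro h hh _ ⟨a, ha, rfl⟩
    obtain ⟨h, rfl⟩ := hf h
    rw [← map_pow]
    exact cm (C.ex6 h (C.Az _ (hA h hh)) a ha)
  · rintro R hR hz a ha b hb ⟨_, ⟨u, hu, rfl⟩, au⟩ ⟨_, ⟨v, hv, rfl⟩, bv⟩ _ ⟨w, hw, rfl⟩
    obtain ⟨a, rfl⟩ := hf a
    obtain ⟨b, rfl⟩ := hf b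
    rw [← map_mul]
    refine cm (C.two ((R.comap f).map M.subtype) (isP_of ?_) ?_ a ⟨a, ha, rfl⟩ b ⟨b, hb, rfl⟩
      ⟨u, hu, fun e => au (cm e)⟩ ⟨v, hv, fun e => bv (cm e)⟩ w hw)
    · rintro _ ⟨x, hx, rfl⟩
      obtain ⟨n, hn⟩ := pow_of_isP hR hx
      have := C.Zsq _ (hk (x ^ 2 ^ n) (by rw [map_pow, hn]))
      exact ⟨n + 1, by rw [pow_succ, pow_mul, pow_two]; exact this⟩
    · rintro _ ⟨x, hx, rfl⟩
      exact C.Az _ (hA x (hz _ hx))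

theorem Desc.imK {G' : Type u} [Group G'] {C : Cx G V K0} {C' : Cx G' V K0} {M : Subgroup G} {f : M →* G'}
    (D : Desc C C' f) (hf : Function.Surjective f) : C'.imK ⊤ = C.imK M := by
  ext k
  constructor
  · rintro ⟨b, -, hb, rfl⟩
    obtain ⟨b, rfl⟩ := hf b
    exact ⟨b, b.2, (D.A b).1 hb, (D.μ b ((D.A b).1 hb)).symm⟩
  · rintro ⟨b, m, hb, rfl⟩
    exact ⟨f ⟨b, m⟩, trivial, (D.A _).2 hb, D.μ _ hb⟩

theorem le_imK : K0 ≤ C.imK ⊤ := fun k hk => by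
  obtain ⟨a, ha, e⟩ := C.μ_surj k hk
  exact ⟨a, trivial, ha, e⟩

theorem form' (S : Subgroup K) : Form (C.σ.comp S.subtype) C.q :=
  ⟨C.form.fin, C.form.nd, C.form.h8, fun k => C.form.qσ k, fun k hk => Subtype.ext (C.form.faith k hk)⟩

theorem pCore_eq [Finite G] (hA : ∀ g, g * C.z = C.z * g → g ∈ C.A) :
    C.J = (pCore 2 (centralizer ({C.z} : Set G))).map (centralizer ({C.z} : Set G)).subtype := by
  refine le_antisymm (H1.le_pCoreOf (fun x hx => mem_cent_iff.2 (C.Jz hx)) (fun g hg => ?_) C.isP) ?_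
  · exact mem_normalizer_of_finite fun x hx => C.nH g (mem_cent_iff.1 hg) x hx
  · refine C.le_J (B := C.A) (by rintro _ ⟨x, -, rfl⟩; exact hA x (mem_cent_iff.1 x.2))
      (fun x hx => pow_of_isP (H1.isPGroup_pCore.map _) hx) (fun k hk => by
        obtain ⟨a, ha, e⟩ := C.μ_surj k hk
        exact ⟨a, ha, ha, e⟩) ?_
    rintro b hb _ ⟨x, hx, rfl⟩
    exact ⟨_, (inferInstance : (pCore 2 (centralizer ({C.z} : Set G))).Normal).conj_mem x hx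
      ⟨b, mem_cent_iff.2 (C.Az b hb)⟩, rfl⟩

section E
variable (hE : ∀ u ∈ C.Z, u = 1 ∨ u = C.z)
include hE

theorem eA {g : G} (h : g * C.z = C.z * g) : g ∈ C.A := C.cA g fun u hu => by
  rcases hE u hu with rfl | rfl
  exacts [by simp, h]

theorem card_Z : Nat.card C.Z = 2 := by
  rw [show C.Z = zpowers C.z from Subgroup.ext fun x => ⟨fun h => (mem_zpowers_iff_of_sq C.zz).2 (hE x h),
    fun h => (zpowers_le.2 C.zZ) h⟩, Nat.card_zpowers, orderOf_eq_two_of C.zz C.z1]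

theorem l3 [Finite G] : L3 C.J C.z := by
  obtain ⟨x, hx, y, hy, e⟩ := C.exists_comm (B := ⊤) fun _ _ _ _ h => absurd trivial h
  exact ⟨⟨C.zJ, C.z1, C.zz, fun x => C.Jz, C.cm, fun x hx h => hE x (C.cZ hx h), x, hx.2, y, hy.2,
    fun c => C.z1 (by rw [c] at e; simpa using e)⟩, fun g hg => hE g (C.cJ fun x hx => (hg x hx).symm),
    fun g hg => mem_normalizer_of_finite fun x hx => C.nH g hg x hx⟩

theorem card9 : Nat.card C.J = 2 ^ 9 := by rw [C.card_J, C.card_Z hE]; norm_num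

theorem exists_ctx (Q : Subgroup G) (hQ : Q = C.J) : ∃ X : Ctx Q C.z V (C.imK ⊤),
    X.π = C.π ∧ X.σ = C.σ.comp (C.imK ⊤).subtype ∧ X.q = C.q ∧ ∀ a ∈ C.A, (X.μ a : K) = C.μ a := by
  classical
  subst hQ
  let m : G → C.imK ⊤ := fun g => if h : g ∈ C.A then ⟨C.μ g, g, trivial, h, rfl⟩ else 1
  have hm : ∀ g ∈ C.A, (m g : K) = C.μ g := fun g hg => by simp only [m, dif_pos hg]
  refine ⟨{
    π := C.π
    μ := m
    σ := C.σ.comp (C.imK ⊤).subtype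
    q := C.q
    form := C.form' _
    π_mul := C.π_mul
    π_surj := C.π_surj
    π_eq := fun x hx y hy => ?_
    q_π := C.q_π
    b_π := C.b_π
    μ_mul := fun a b ha hb => Subtype.ext ?_
    μ_surj := ?_
    μ_one := fun a ha => ?_
    act := fun a ha x hx => ?_
    card := fun B hB hz U hU => ?_ }, rfl, rfl, rfl, hm⟩
  · rw [C.π_eq hx hy]
    refine ⟨fun h => (hE _ h).imp (fun e => (inv_mul_eq_one.1 e).symm) fun e => by rw [← e]; group, ?_⟩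
    rintro (rfl | rfl)
    · simp
    · simpa using C.zZ
  · rw [coe_mul, hm _ (C.eA hE ha), hm _ (C.eA hE hb), hm _ (C.eA hE (comm_mul ha hb)),
      C.μ_mul _ (C.eA hE ha) _ (C.eA hE hb)]
  · rintro ⟨_, a, -, ha, rfl⟩
    exact ⟨a, C.Az a ha, Subtype.ext (hm a ha)⟩
  · rw [Subtype.ext_iff, hm _ (C.eA hE ha), coe_one, C.μ_one _ (C.eA hE ha)]
  · rw [← C.act a (C.eA hE ha) x hx, ← hm _ (C.eA hE ha)]; rfl
  · rw [C.card_img hB, inf_eq_right.2 fun u hu => by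
      rcases hE u hu with rfl | rfl
      exacts [one_mem _, hz], C.card_Z hE, show C.img B = U from Submodule.ext fun v =>
      ⟨fun ⟨a, ha, _, e⟩ => (hU v).2 ⟨a, ha, e⟩, fun h => by
        obtain ⟨a, ha, e⟩ := (hU v).1 h
        exact ⟨a, ha, hB ha, e⟩⟩, pow_succ']

variable [Finite G]

theorem wc (g : G) (hg : g * C.z * g⁻¹ ∈ C.J) : g * C.z * g⁻¹ = C.z := by
  by_contra ne
  obtain ⟨X, -⟩ := C.exists_ctx hE _ rfl
  have D := X.datum (C.l3 hE) (C.card9 hE) (isConj_iff.2 ⟨g, rfl⟩) hg ne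
  rcases (C.kd.sub C.le_imK).cases X.form with ⟨V0, R⟩ | ⟨_, H, N⟩
  exacts [R.no_datum X.form D, N.no_datum X.form D]

theorem core : (∃ L : Subgroup G, L.index = K0.relIndex (C.imK ⊤) ∧ Nonempty (L ≃* PSU 6 F4 2) ∧
    centralizer (L : Set G) = ⊥) ∨ Zp 1 C.z := by
  obtain ⟨X, -⟩ := C.exists_ctx hE _ rfl
  obtain ⟨_, _, _, _, _, _, _, _, g⟩ := (C.kd.sub C.le_imK).gens
  have h := C.l3 hE
  exact (H9.WC.core h (C.card9 hE) (fun hres => Cfsg.Agent.S3300.result hres C.z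
    (orderOf_eq_two_of C.zz C.z1) _ (C.pCore_eq fun g => C.eA hE) h.toES.isExtraspecial
    (by rw [h.centralizer_eq]; exact h.zpowers_le) 4 (by norm_num) (C.card9 hE)) X g
    (C.kd.sub C.le_imK).index).imp_right (zp_of_sup C.zz)

theorem epair {t g : G} (ht : g * C.z * g⁻¹ = t) (tz : t * C.z = C.z * t) (ne : t ≠ C.z) :
    (∀ x, (∀ k ∈ K0, C.σ k x = x) → x = 0) ∧ finrank (ZMod 2) (Mv C.σ (C.μ t)) ≤ 2 ∧
    (∀ x ∈ C.J, C.σ (C.μ t) (C.π x) = C.π x → x * t = t * x) ∧ ∀ g, g * C.z * g⁻¹ ≠ t * C.z := by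
  have := C.form.fin
  have h := C.l3 hE
  have F := fam h (C.wc hE)
  have p : Pr {s | IsConj C.z s} C.z t := ⟨IsConj.refl _, isConj_iff.2 ⟨g, ht⟩, ne.symm, tz.symm⟩
  obtain ⟨X, x1, x2, x3, -⟩ := C.exists_ctx hE _ rfl
  obtain ⟨Y, y1, y2, y3, y4⟩ := C.exists_ctx hE _ (Qof_self h)
  have kd := C.kd.sub C.le_imK
  rcases kd.cases (C.form' _) with ⟨V0, R⟩ | ⟨_, H, N⟩
  · refine (F.red_false (V := V) (K := C.imK ⊤) (fun a ha => ?_) p).elim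
    obtain ⟨k, rfl⟩ := isConj_iff.1 ha
    exact ⟨trans X h k, V0, _, by
      show Red X.σ X.q V0 _
      rw [x2, x3]; exact R⟩
  have hC : ∀ a ∈ {s | IsConj C.z s}, ∃ (X : Ctx (Qof C.J C.z a) a V (C.imK ⊤)) (H : V → V → F4),
      Uni X.σ X.q H := fun a ha => by
    obtain ⟨k, rfl⟩ := isConj_iff.1 ha
    exact ⟨trans X h k, H, by
      show Uni X.σ X.q H
      rw [x2, x3]; exact N⟩
  obtain ⟨v, -, -, h1, h2, -⟩ := F.tvn hC p Y (H := H) (by rw [y2, y3]; exact N)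
  have e : ∀ x, Y.σ (Y.μ t) x = C.σ (C.μ t) x := fun x => by rw [y2, ← y4 t (C.eA hE tz)]; rfl
  refine ⟨fun x hx => no_fix N (C.form' _) kd fun k hk => hx k hk, (Submodule.finrank_mono fun x hx => ?_).trans
    (fr_pt_le v), fun x hx hx' => ?_, fun g c => F.tz hC p (isConj_iff.2 ⟨g, c⟩)⟩
  · obtain ⟨y, rfl⟩ := mem_Mv.1 hx
    rw [← e, h1, aba]; exact smul_mem_sp _ _ _
  · have := h2 _ ((e _).trans hx')
    rw [← y1] at this
    exact (F.mem_Xs p Y ((Qof_self h).ge hx)).1 this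

end E

end Cx

end H94.PF
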