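import Cfsg.Agent.Lib.PF94.Quo

/-!
The centre of order four: commuting pairs.
-/

set_option autoImplicit false

namespace H94.PF

open Module H95 H4.LX H9.WC QuadraticMap Subgroup Cfsg H69
open H73.FD (cj_mul cj_inj Pr)
open H30 (F4)

universe u

variable {G : Type u} [Group G] {V : Type u} [AddCommGroup V] [Module (ZMod 2) V]
  {K : Type*} [Group K] {K0 : Subgroup K}

/-- the centre is a four-group -/
structure Fo (C : Cx G V K0) (d : G) : Prop where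
  dZ : d ∈ C.Z
  d1 : d ≠ 1
  dz : d ≠ C.z
  all : ∀ u ∈ C.Z, u = 1 ∨ u = C.z ∨ u = d ∨ u = d * C.z
  hA : ∀ g, g * C.z = C.z * g → g ∈ C.A

/-- weak closure -/
def WC (C : Cx G V K0) : Prop := ∀ g, g * C.z * g⁻¹ ∈ C.J → g * C.z * g⁻¹ = C.z

theorem eqns_four : True := by
  have := @WC.eq_1.{0, 0}
  trivial

theorem WC.conj {C : Cx G V K0} (W : WC C) (g : G) : WC (C.conj g) := fun h hh => by
  rw [Cx.conj_J, mem_cj, Cx.conj_z] at hh
  have := W (g⁻¹ * h * g) (by convert hh using 1; group)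
  rw [Cx.conj_z]
  conv_rhs => rw [← this]
  group

theorem WC.n {C : Cx G V K0} (W : WC C) {g : G} (ne : g * C.z * g⁻¹ ≠ C.z) : C.z ∉ (C.conj g).J := fun h => by
  have := W.conj g g⁻¹ (by rw [Cx.conj_z]; convert h using 1; group)
  rw [Cx.conj_z] at this
  exact ne (by rw [← this]; group)

namespace Fo

variable {C : Cx G V K0} {d : G} (F : Fo C d)
include F

theorem dd : d * d = 1 := C.Zsq d F.dZ

theorem cz : d * C.z = C.z * d := C.Jz (C.ZJ F.dZ)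

theorem dzz : d * C.z * C.z = d := by rw [mul_assoc, C.zz, mul_one]

theorem swap : Fo C (d * C.z) :=
  ⟨mul_mem F.dZ C.zZ, fun e => F.dz (by rw [← F.dzz, e, one_mul]), fun e => F.d1 (by simpa using e),
    fun u hu => by rw [F.dzz]; have := F.all u hu; tauto, F.hA⟩

theorem of_mem {w : G} (hw : w ∈ C.Z) (w1 : w ≠ 1) (wz : w ≠ C.z) : Fo C w := by
  rcases F.all w hw with e | e | rfl | rfl
  exacts [absurd e w1, absurd e wz, F, F.swap]

theorem conj (g : G) : Fo (C.conj g) (g * d * g⁻¹) := by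
  refine ⟨cj_mem g F.dZ, by simpa using F.d1, fun e => F.dz (cj_inj e), fun u hu => ?_, fun h hh => ?_⟩
  · obtain ⟨u, hu', rfl⟩ := mem_cj'.1 hu
    rw [Cx.conj_z, cj_mul]
    rcases F.all u hu' with rfl | rfl | rfl | rfl <;> simp
  · refine mem_cj.2 (F.hA _ ?_)
    have := cj_comm (g := g⁻¹) hh
    rw [Cx.conj_z] at this
    simpa [mul_assoc] using this

theorem act {h : G} (hh : h * C.z = C.z * h) : h * d * h⁻¹ = d ∨ h * d * h⁻¹ = d * C.z := by
  rcases F.all _ (C.nZ hh F.dZ) with e | e | e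
  · exact absurd (by simpa using e) F.d1
  · exact absurd (cj_inj (e.trans (cj_of hh).symm)) F.dz
  · exact e

theorem cZ {g : G} (h : g * C.z = C.z * g) (h' : g * d = d * g) : ∀ u ∈ C.Z, g * u = u * g := fun u hu => by
  rcases F.all u hu with rfl | rfl | rfl | rfl
  exacts [by simp, h, h', (comm_mul h'.symm h.symm).symm]

theorem mul_sw {a b : G} (ha : a * C.z = C.z * a) (h1 : a * d * a⁻¹ = d * C.z) (h2 : b * d * b⁻¹ = d * C.z) :
    a * b * d = d * (a * b) := of_cj (by rw [← cj_cj', h2, ← cj_mul, h1, cj_of ha, F.dzz])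

theorem sq_c {c : G} (hc : c * C.z = C.z * c) : c * c * d = d * (c * c) :=
  (F.act hc).elim (fun e => comm_mul (of_cj e) (of_cj e)) fun e => F.mul_sw hc e e

theorem comm_c {x y : G} (hx : x * C.z = C.z * x) (hy : y * C.z = C.z * y) :
    x * y * (y * x)⁻¹ * d = d * (x * y * (y * x)⁻¹) := by
  have : x * y * d * (x * y)⁻¹ = y * x * d * (y * x)⁻¹ := by
    rw [← cj_cj', ← cj_cj']
    rcases F.act hx with e | e <;> rcases F.act hy with f | f <;>
      simp only [e, f, ← cj_mul, cj_of hx, cj_of hy]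
  refine of_cj ?_
  rcases F.act (comm_inv (comm_mul hy hx)) with e | e
  · rw [← cj_cj', e, this, cj_of (by simpa using comm_inv (of_cj e))]
  · rw [← cj_cj', e, ← cj_mul, this, cj_of (comm_mul hx hy)]
    have h2 : y * x * (d * C.z) * (y * x)⁻¹ = d := by rw [← e]; group
    rw [← cj_mul, cj_of (comm_mul hy hx)] at h2
    exact h2

theorem hE {G' : Type u} [Group G'] {C' : Cx G' V K0} {f : centralizer ({d} : Set G) →* G'} (Q : Qt d f)
    (D : Cx.Desc C C' f) : ∀ u ∈ C'.Z, u = 1 ∨ u = C'.z := fun u hu => by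
  obtain ⟨u, rfl⟩ := Q.surj u
  rw [D.z (mem_cent_iff.2 F.cz.symm), Q.ker, Q.eq]
  have := F.all u ((D.Z u).1 hu)
  rw [F.cz] at this
  tauto

variable [Finite G]

theorem quot : ∃ C' : Cx (centralizer ({d} : Set G) ⧸ (zpowers d).subgroupOf (centralizer {d})) V K0,
    Cx.Desc C C' (QuotientGroup.mk' _) :=
  C.exists_quot (qt_mk F.dd) F.dZ F.dz fun g h _ => F.hA g h

theorem wcQ {c : G} (hc : c * d = d * c) (h : c * C.z * c⁻¹ ∈ C.J) : c * C.z * c⁻¹ = C.z := by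
  obtain ⟨C', D⟩ := F.quot
  have Q := qt_mk F.dd
  have zM := mem_cent_iff.2 F.cz.symm
  have := C'.wc (F.hE Q D) _ (by rw [D.cj zM ⟨c, mem_cent_iff.2 hc⟩]; exact (D.J _).2 h)
  rw [D.cj zM, D.z zM, Q.eq] at this
  exact C.cj_eq F.dZ this

theorem fus {g : G} (h : g * d * g⁻¹ = d * C.z) : ∃ n, n * C.z = C.z * n ∧ n * d * n⁻¹ = d * C.z := by
  by_contra c
  have k : ∀ n, n * C.z = C.z * n → n * d = d * n := fun n hn =>
    of_cj ((F.act hn).resolve_right fun e => c ⟨n, hn, e⟩)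
  obtain ⟨T, hT, h1, h2⟩ := C.exists_sylow (L := ⊤) le_top
  refine c (h ▸ C.burn hT h1 (fun x hx => k x (mem_cent_iff.1 (h2 hx))) fun x hx => ?_)
  rw [h]
  exact F.cZ (mem_cent_iff.1 (h2 hx)) (k x (mem_cent_iff.1 (h2 hx))) _ F.swap.dZ

theorem inter {w g : G} (hw : w ∈ C.Z) (hw' : w ∈ (C.conj g).Z) (w1 : w ≠ 1) :
    g * C.z * g⁻¹ = C.z ∨ Fo C w ∧ ∃ c, c * w = w * c ∧ c * C.z * c⁻¹ = g * C.z * g⁻¹ := by
  by_cases wz : w = C.z
  · exact Or.inl ((C.conj g).f2' C (wz ▸ hw')).symm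
  have F' := F.of_mem hw w1 wz
  rcases (F'.conj g).all w hw' with e | e | e | e
  · exact absurd e w1
  · exact Or.inl (C.f2 (by rw [← Cx.conj_z, ← e]; exact hw))
  · exact Or.inr ⟨F', g, of_cj e.symm, rfl⟩
  rw [Cx.conj_z, cj_mul] at e
  obtain ⟨n, h1, h2⟩ := F'.fus (g := g⁻¹) (by rw [inv_inv, mul_assoc, inv_mul_eq_iff_eq_mul, ← eq_mul_inv_iff_mul_eq]; exact e)
  exact Or.inr ⟨F', g * n, of_cj (by rw [← cj_cj', h2, ← e]), by rw [← cj_cj', cj_of h1]⟩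

theorem wc (h : (∀ a, a * C.z = C.z * a → a * d = d * a) ∨ Zp d C.z) : WC C := fun g ht => by
  by_contra ne
  have F' := F.conj g
  have tZ : g * C.z * g⁻¹ ∉ C.Z := fun m => ne (C.f2 m)
  have tt := (C.conj g).zz
  have c1 : g * d * g⁻¹ * C.z = C.z * (g * d * g⁻¹) := by
    obtain ⟨x, hx, y, hy, e⟩ := C.exists_comm (B := centralizer {g * C.z * g⁻¹}) fun a ha b hb a' b' => by
      rw [mem_cent_iff] at a' b' ⊢
      refine of_cj ?_
      rw [← cj_cj', (C.conj' ht hb).resolve_left fun e => b' (of_cj e), ← cj_mul,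
        (C.conj' ht ha).resolve_left fun e => a' (of_cj e), cj_of (C.Jz ha), mul_assoc, C.zz, mul_one]
    have := F'.comm_c (mem_cent_iff.1 hx.1) (mem_cent_iff.1 hy.1)
    rw [e, mul_assoc (y * x), ← C.Jz (inv_mem (mul_mem hy.2 hx.2)), mul_inv_cancel_left] at this
    exact this.symm
  have c2 : g * d * g⁻¹ * d = d * (g * d * g⁻¹) := by
    refine of_cj ((F.act c1).resolve_right fun e => ?_)
    rcases F'.act (h := d) (C.Zc F.dZ ht).symm with f | f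
    · rw [cj_of (of_cj f).symm] at e
      exact C.z1 (by simpa using e)
    · refine ne (mul_left_cancel (a := g * d * g⁻¹) (f.symm.trans ?_))
      rw [mul_inv_eq_iff_eq_mul] at e
      rw [mul_inv_eq_iff_eq_mul, mul_assoc _ C.z, ← F.cz, ← mul_assoc _ d, e, mul_assoc d, ← c1,
        mul_assoc d, mul_assoc _ C.z, C.zz, mul_one]
  have k : ∀ x ∈ C.J, x * (g * C.z * g⁻¹) = g * C.z * g⁻¹ * x → g * d * g⁻¹ * x * (g * d * g⁻¹)⁻¹ = x ∨
      g * d * g⁻¹ * x * (g * d * g⁻¹)⁻¹ = x * (g * C.z * g⁻¹) := fun x hx e =>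
    (F'.act (comm_inv e)).imp (fun f => cj_of (by simpa using (comm_inv (of_cj f)).symm)) fun f => by
      calc _ = x * (x⁻¹ * (g * d * g⁻¹) * x⁻¹⁻¹ * (g * d * g⁻¹)⁻¹) := by group
        _ = _ := by rw [f, F'.cz, mul_inv_cancel_right]; rfl
  have key := C.inner ht tZ tt (F.cZ c1 c2) F'.dd k fun c h1 h2 h3 => by
    rcases h with h | h
    · refine absurd (C.mem_J_of ht tt (F.hA _ c1) fun x hx e => ?_) h3
      have := cj_comm (g := g) (h (g⁻¹ * x * g) (by simpa [mul_assoc] using cj_comm (g := g⁻¹) e))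
      simpa [mul_assoc] using this
    · exact C.zp_J (h.conj g) tt (C.conj g).z1 F'.cz.symm h2 (mul_mem ht (C.nH c (h1 _ C.zZ) _ ht))
  obtain ⟨w, h1, h2, h3⟩ : ∃ w ∈ C.Z, w ∈ (C.conj g).Z ∧ w ≠ 1 :=
    key.elim (fun m => ⟨_, m, F'.dZ, F'.d1⟩) fun m => ⟨_, m, F'.swap.dZ, F'.swap.d1⟩
  obtain ⟨F1, c, hc, e⟩ := (F.inter h1 h2 h3).resolve_left ne
  exact ne (e ▸ F1.wcQ hc (e ▸ ht))

end Fo

/-- a commuting pair -/
structure P4 (C C' : Cx G V K0) (d d' : G) : Prop where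
  F : Fo C d
  F' : Fo C' d'
  c : C'.z * C.z = C.z * C'.z
  n : C'.z ∉ C.J
  n' : C.z ∉ C'.J
  W : WC C
  W' : WC C'
  II : ∀ w ∈ C'.Z, w ≠ 1 → ∀ x ∈ C.J, x * w = w * x → x * C'.z = C'.z * x
  II' : ∀ w ∈ C.Z, w ≠ 1 → ∀ x ∈ C'.J, x * w = w * x → x * C.z = C.z * x

namespace P4

variable {C C' : Cx G V K0} {d d' : G} (P : P4 C C' d d')
include P

theorem symm : P4 C' C d' d := ⟨P.F', P.F, P.c.symm, P.n', P.n, P.W', P.W, P.II', P.II⟩

theorem cent (h : C.z * d' = d' * C.z) : C'.z * d = d * C'.z := by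
  refine of_cj ((P.F.act P.c).resolve_right fun e => ?_)
  have k : ∀ w ∈ C'.Z, w ≠ 1 → w * d ≠ d * w := fun w hw w1 c => by
    rw [cj_of (P.II w hw w1 d (C.ZJ P.F.dZ) c.symm).symm] at e
    exact C.z1 (by simpa using e)
  rcases P.F.act h.symm with f | f
  exacts [k _ P.F'.dZ P.F'.d1 (of_cj f), k _ P.F'.swap.dZ P.F'.swap.d1 (P.F.mul_sw h.symm f e)]

theorem hJ {u : G} (hu : u ∈ C'.Z) (h : u ∈ C.J) : u = 1 := by
  by_contra u1
  exact P.n (C.mem_J_of h (C'.Zsq u hu) (P.F.hA _ P.c) (P.II u hu u1))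

theorem side : Cx.Side C C' C'.z d' :=
  ⟨C'.zZ, P.F'.dZ, C'.z1, P.F'.d1, P.F'.dz.symm, fun _ _ h => h, P.II _ P.F'.dZ P.F'.d1,
    Or.inr (Or.inr (P.F'.cz ▸ P.II _ P.F'.swap.dZ P.F'.swap.d1)), Or.inl fun _ h => P.F'.sq_c h⟩

theorem cen [Finite G] (h : C.z * d' = d' * C.z) : False := by
  have hJ' : ∀ u ∈ C.Z, u ∈ C'.J → u = 1 := fun u => P.symm.hJ
  refine Cx.skew (fun u hu v hv => ?_) (fun u => P.hJ) hJ' P.side P.symm.side
  have h1 := P.F'.cZ P.c.symm h u hu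
  have h2 := P.F.cZ P.c (P.cent h) v hv
  have := hJ' (u * v * u⁻¹ * v⁻¹) (mul_mem (C.nZ h1.symm hv) (inv_mem hv)) (by
    rw [mul_assoc, mul_assoc, ← mul_assoc v]
    exact C'.ZJ (mul_mem hu (C'.nZ h2.symm (inv_mem hu))))
  rwa [mul_inv_eq_one, mul_inv_eq_iff_eq_mul] at this

section S
variable (h : C'.z * d * C'.z⁻¹ = d * C.z)
include h

theorem fixZ {u : G} (hu : u ∈ C.Z) (c : C'.z * u * C'.z⁻¹ = u) : u = 1 ∨ u = C.z := by
  rcases P.F.all u hu with e | e | rfl | rfl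
  · exact Or.inl e
  · exact Or.inr e
  · exact absurd (by simpa using h.symm.trans c) C.z1
  · rw [← cj_mul, h, cj_of P.c] at c
    exact absurd (by simpa using c) C.z1

theorem hF {v : V} (hv : C.σ (C.μ C'.z) v = v) : v ∈ C.img (centralizer {C'.z}) := by
  have tA := P.F.hA _ P.c
  obtain ⟨x, hx, rfl⟩ := C.π_surj v
  obtain ⟨u, hu, e⟩ := (C.fix_iff tA hx).1 hv
  have e2 : C'.z * u * C'.z⁻¹ = u := by
    have : x * u * (C'.z * u * C'.z⁻¹) = x := by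
      rw [← e, cj_mul, ← e, cj_cj', C'.zz]; simp
    rw [mul_assoc, mul_eq_left, mul_eq_one_iff_inv_eq, inv_of_sq (C.Zsq u hu)] at this
    exact this.symm
  rcases P.fixZ h hu e2 with rfl | rfl
  · exact C.π_img (mem_cent_iff.2 (of_cj (by simpa using e)).symm) hx
  · rw [← C.π_mulZ hx P.F.dZ]
    refine C.π_img (mem_cent_iff.2 (of_cj ?_).symm) (mul_mem hx (C.ZJ P.F.dZ))
    rw [← cj_mul, e, h, mul_assoc, ← mul_assoc C.z, ← P.F.cz, P.F.dzz]

theorem four : 4 ≤ finrank (ZMod 2) (Fx C.σ (C.μ C'.z)) := by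
  have := C.form.fin
  have := fr_Fx C.form (C.μ C'.z)
  have := Submodule.finrank_mono (Mv_le_Fx (σ := C.σ) (C.μ_sq (P.F.hA _ P.c) C'.zz))
  omega

theorem big [Finite G] : 32 ≤ Nat.card (C.J ⊓ centralizer {C'.z} : Subgroup G) := by
  have := C.form.fin
  have h1 : finrank (ZMod 2) (Fx C.σ (C.μ C'.z)) ≤ finrank (ZMod 2) (C.img (C.J ⊓ centralizer {C'.z})) :=
    Submodule.finrank_mono fun v hv => by
      obtain ⟨x, hx, hx', e⟩ := P.hF h ((mem_Fx _).1 hv)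
      exact ⟨x, ⟨hx', hx⟩, hx', e⟩
  have h2 : Nontrivial (C.J ⊓ centralizer {C'.z} ⊓ C.Z : Subgroup G) :=
    ⟨⟨⟨C.z, ⟨C.zJ, mem_cent_iff.2 P.c.symm⟩, C.zZ⟩, 1, fun e => C.z1 (congrArg Subtype.val e)⟩⟩
  rw [C.card_img inf_le_left]
  exact Nat.mul_le_mul (n₁ := 2) (m₁ := 2 ^ 4) Finite.one_lt_card
    (Nat.pow_le_pow_right (by norm_num) ((P.four h).trans h1))

theorem triv {x : G} (hx : x ∈ C.J) (hx' : x ∈ C'.J) : x = 1 := by
  have tA := P.F.hA _ P.c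
  have xx : x * x = 1 := (C.sq x hx).resolve_right fun e => P.n' (e ▸ mul_mem hx' hx')
  obtain ⟨y, hy⟩ := mem_Mv.1 (mem_Mv_of C.form (k := C.μ C'.z) (x := C.π x) fun v hv => by
    obtain ⟨y, hy, hy', rfl⟩ := P.hF h hv
    refine (C.b_π _ hy' _ hx).2 (of_cj ((C.conj' hx hy').resolve_right fun e => P.n' ?_))
    have := C'.nH y (mem_cent_iff.1 hy) x hx'
    rwa [e, mul_mem_cancel_left hx'] at this)
  obtain ⟨a, ha, rfl⟩ := C.π_surj y
  have m := mul_mem (C.nJ tA ha) (inv_mem ha)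
  rw [← C.π_comm tA ha] at hy
  have yy := (C.q_π _ m).1 (hy ▸ (C.q_π x hx).2 xx)
  have hu := (C.π_eq m hx).1 hy
  have e0 : C'.z * (C'.z * a * C'.z⁻¹ * a⁻¹) * C'.z⁻¹ = C'.z * a * C'.z⁻¹ * a⁻¹ := by
    conv_rhs => rw [← inv_of_sq yy]
    rw [mul_assoc C'.z a, ← mul_assoc C'.z, ← mul_assoc C'.z, C'.zz]
    simp [inv_of_sq C'.zz, mul_assoc]
  have k : ∀ g, C'.z * x = g * C'.z * g⁻¹ → x = 1 := fun g e => by
    rwa [P.W' g (e ▸ mul_mem C'.zJ hx'), mul_eq_left] at e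
  have e1 : C'.z * (C'.z * a * C'.z⁻¹ * a⁻¹) = a * C'.z * a⁻¹ := by
    rw [← mul_assoc, ← mul_assoc, ← mul_assoc, C'.zz, one_mul, inv_of_sq C'.zz]
  rcases P.fixZ h hu (by rw [← cj_mul, cj_of (C'.Jz hx').symm, ← conj_inv, e0]) with e | e
  · exact k a (by rw [← inv_mul_eq_one.1 e, e1])
  · refine k (a * d) ?_
    have e2 : d * C'.z * d⁻¹ = C'.z * C.z := by
      rw [mul_inv_eq_iff_eq_mul] at h ⊢
      rw [mul_assoc, ← P.F.cz, ← mul_assoc, h, mul_assoc, mul_assoc, P.c, ← mul_assoc C.z, C.zz, one_mul]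
    rw [inv_mul_eq_iff_eq_mul.1 e, ← mul_assoc, e1, ← cj_cj', e2, ← cj_mul, cj_of (C.Jz ha)]

end S

theorem false [Finite G] : False := by
  have h := (P.F.act P.c).resolve_left fun e => P.symm.cen (of_cj e)
  have h' := (P.F'.act P.c.symm).resolve_left fun e => P.cen (of_cj e)
  have cm : ∀ x ∈ C.J, x * C'.z = C'.z * x → ∀ y ∈ C'.J, y * C.z = C.z * y → y * x = x * y :=
    fun x hx c y hy c' => by
      have := P.triv h (x := y * x * y⁻¹ * x⁻¹) (mul_mem (C.nH y c' x hx) (inv_mem hx)) (by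
        rw [mul_assoc, mul_assoc, ← mul_assoc x]; exact mul_mem hy (C'.nH x c _ (inv_mem hy)))
      rwa [mul_inv_eq_one, mul_inv_eq_iff_eq_mul] at this
  have hq : ∀ v, C.σ (C.μ C'.z) v = v → C.q v = 0 := fun v hv => by
    obtain ⟨x, hx, hx', rfl⟩ := P.hF h hv
    have xA := P.F'.hA x (mem_cent_iff.1 hx)
    have := sq_of_fix C'.form (P := Fx C'.σ (C'.μ C.z)) (k := C'.μ x) (by
      rw [← pp_Mv C'.form, pp_pp C'.form, pp_Mv C'.form]
      exact Mv_le_Fx (C'.μ_sq (P.F'.hA _ P.c.symm) C.zz)) fun v hv => by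
      obtain ⟨y, hy, hy', rfl⟩ := P.symm.hF h' ((mem_Fx _).1 hv)
      exact C'.fix_of xA hy' (cm x hx' (mem_cent_iff.1 hx) y hy' (mem_cent_iff.1 hy)).symm
    rw [← C'.μ_mul _ xA _ xA, C'.μ_one _ (mul_mem xA xA)] at this
    exact (C.q_π x hx').2 (P.triv h (mul_mem hx' hx') this)
  rcases C.kd.cases C.form with ⟨V0, R⟩ | ⟨_, H, N⟩
  · exact rS R C.form (C.μ_sq (P.F.hA _ P.c) C'.zz) hq
  have h1 := uS N C.form (P.four h) (fun v hv => hq v ((mem_Fx _).1 hv))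
    (Y := C.imK (C'.J ⊓ centralizer {C.z})) (by
      rintro _ ⟨y, hy, hy', rfl⟩ v hv
      obtain ⟨x, hx, hx', rfl⟩ := P.hF h ((mem_Fx _).1 hv)
      exact C.fix_of hy' hx' (cm x hx' (mem_cent_iff.1 hx) y hy.1 (mem_cent_iff.1 hy.2)))
  have h2 := P.symm.big h'
  rw [C.card_imK fun y hy => P.F.hA y (mem_cent_iff.1 (i2 hy)), show C'.J ⊓ centralizer {C.z} ⊓ C.J = ⊥ from
    eq_bot_iff.2 fun x hx => P.triv h hx.2 hx.1.1, card_bot] at h2
  omega

end P4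

end H94.PF
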