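import Cfsg.Agent.Lib.PF94.Four

/-!
The centre of order four: the central case.
-/

set_option autoImplicit false

namespace H94.PF

open Module H95 H4.LX H9.WC QuadraticMap Subgroup Cfsg H69
open H73.FD (cj_mul cj_inj Pr)
open H30 (F4)

universe u

variable {G : Type u} [Group G] {V : Type u} [AddCommGroup V] [Module (ZMod 2) V]
  {K : Type*} [Group K] {K0 : Subgroup K}

/-- a subgroup of index `n` is an extension of `U₆(2)` by `W`, with trivial centraliser modulo `W` -/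
def UD (M W : Subgroup G) (n : ℕ) : Prop := ∃ (L : Subgroup G) (f : L →* PSU 6 F4 2), L ≤ M ∧ W ≤ L ∧
  L.relIndex M = n ∧ Function.Surjective f ∧ (∀ x : L, f x = 1 ↔ (x : G) ∈ W) ∧
  ∀ g ∈ M, (∀ l ∈ L, g * l * g⁻¹ * l⁻¹ ∈ W) → g ∈ W

theorem eqns_fourB : True := by
  have := @UD.eq_1.{0}
  trivial

theorem UD.lift {G' : Type u} [Group G'] {M W : Subgroup G} {W' : Subgroup G'} {n : ℕ} (h : UD ⊤ W' n)
    (p : M →* G') (hp : Function.Surjective p) (hW : W ≤ M) (hk : ∀ x : M, p x ∈ W' ↔ (x : G) ∈ W) :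
    UD M W n := by
  obtain ⟨L, f, -, h1, h2, h3, h4, h5⟩ := h
  let e := ((L.comap p).equivMapOfInjective M.subtype M.subtype_injective).symm
  refine ⟨(L.comap p).map M.subtype, (f.comp (p.subgroupComap L)).comp e.toMonoidHom, map_subtype_le _,
    fun x hx => ⟨⟨x, hW hx⟩, h1 ((hk _).2 hx), rfl⟩, ?_,
    (h3.comp (p.subgroupComap_surjective_of_surjective L hp)).comp e.surjective, fun x => ?_, fun g hg c => ?_⟩
  · rw [relIndex, subgroupOf, comap_map_eq_self_of_injective M.subtype_injective, index_comap_of_surjective _ hp,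
      ← h2, relIndex_top_right]
  · obtain ⟨x, rfl⟩ := e.symm.surjective x
    rw [MonoidHom.comp_apply, MulEquiv.coe_toMonoidHom, e.apply_symm_apply]
    exact (h4 (p.subgroupComap L x)).trans (hk x)
  · refine (hk ⟨g, hg⟩).1 (h5 _ trivial fun l hl => ?_)
    obtain ⟨l, rfl⟩ := hp l
    rw [← map_inv, ← map_inv, ← map_mul, ← map_mul, ← map_mul, hk]
    exact c l ⟨l, hl, rfl⟩

theorem Cx.core' [Finite G] (C : Cx G V K0) (hE : ∀ u ∈ C.Z, u = 1 ∨ u = C.z) :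
    UD (⊤ : Subgroup G) ⊥ (K0.relIndex (C.imK ⊤)) ∨ Zp 1 C.z :=
  (C.core hE).imp_left fun ⟨L, h1, ⟨e⟩, h2⟩ => ⟨L, e.toMonoidHom, le_top, bot_le, by rwa [relIndex_top_right],
    e.surjective, fun x => by simp, fun g _ c => h2.le (mc.2 fun l hl => by
      have := c l hl
      rwa [mem_bot, mul_inv_eq_one, mul_inv_eq_iff_eq_mul] at this)⟩

namespace Fo

variable {C : Cx G V K0} {d : G} (F : Fo C d) [Finite G]
include F

theorem ud (h : ¬ Zp d C.z) : UD (centralizer {d}) (zpowers d) (K0.relIndex (C.imK (centralizer {d}))) := by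
  obtain ⟨C', D⟩ := F.quot
  have Q := qt_mk F.dd
  rw [← D.imK Q.surj]
  exact ((C'.core' (F.hE Q D)).resolve_right fun c => h (D.zp Q F.dZ c)).lift _ Q.surj
    (zpowers_le.2 (mem_cent_iff.2 rfl)) fun x => mem_bot.trans mem_ker_quot

theorem II (C1 : Cx G V K0) (c : C.z * C1.z = C1.z * C.z)
    (h1 : ∀ x ∈ C1.J, x * d = d * x → x * C.z = C.z * x)
    (h2 : Zp (d * C.z) C.z) : ∀ w ∈ C.Z, w ≠ 1 → ∀ x ∈ C1.J, x * w = w * x → x * C.z = C.z * x :=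
  fun w hw w1 x hx h => by
  rcases F.all w hw with f | rfl | rfl | rfl
  · exact absurd f w1
  · exact h
  · exact h1 x hx h
  · exact C1.zp_cent h2 C.zz C.z1 F.swap.cz.symm c hx h

theorem pair (W : WC C) (h2 : Zp (d * C.z) C.z) {g : G} (c : g * C.z * g⁻¹ * C.z = C.z * (g * C.z * g⁻¹))
    (h : ∀ x ∈ C.J, x * (g * d * g⁻¹) = g * d * g⁻¹ * x → x * (g * C.z * g⁻¹) = g * C.z * g⁻¹ * x)
    (h' : ∀ x ∈ C.J ^ᶜ g, x * d = d * x → x * C.z = C.z * x) : g * C.z * g⁻¹ = C.z := by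
  by_contra ne
  exact P4.false ⟨F, F.conj g, c, fun m => ne (W g m), W.n ne, W, W.conj g, (F.conj g).II C c h
    (by rw [Cx.conj_z, cj_mul]; exact h2.conj g), F.II (C.conj g) c.symm h' h2⟩

theorem allZ (h1 : Zp d C.z) (h2 : Zp (d * C.z) C.z) : Zp 1 C.z := fun g _ c =>
  F.pair (F.wc (Or.inr h1)) h2 c.symm
    (fun _ => C.zp_cent (h1.conj g) (C.conj g).zz (C.conj g).z1 (F.conj g).cz.symm c.symm)
    fun _ => (C.conj g).zp_cent h1 C.zz C.z1 F.cz.symm c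

theorem good (h : ¬ Zp d C.z) : (∀ x, (∀ k ∈ K0, C.σ k x = x) → x = 0) ∧ ∃ c, c * d = d * c ∧
    c * C.z * c⁻¹ * C.z = C.z * (c * C.z * c⁻¹) ∧ c * C.z * c⁻¹ ≠ C.z ∧
    finrank (ZMod 2) (Mv C.σ (C.μ (c * C.z * c⁻¹))) ≤ 2 ∧ ∀ x ∈ C.J, C.σ (C.μ (c * C.z * c⁻¹)) (C.π x) = C.π x →
      c * C.z * c⁻¹ * x * (c * C.z * c⁻¹)⁻¹ = x ∨ c * C.z * c⁻¹ * x * (c * C.z * c⁻¹)⁻¹ = x * d := by
  rw [Zp] at h
  push Not at h
  obtain ⟨c, h1, h2, h3⟩ := h
  obtain ⟨C', D⟩ := F.quot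
  have Q := qt_mk F.dd
  have zM := mem_cent_iff.2 F.cz.symm
  obtain ⟨a1, a2, a3, -⟩ := C'.epair (F.hE Q D) (D.cj zM ⟨c, mem_cent_iff.2 h1⟩)
    (by rw [D.z zM, ← map_mul, ← map_mul]; exact congrArg _ (Subtype.ext h2.symm))
    (by rw [D.z zM, Ne, Q.eq]; exact fun e => h3 (C.cj_eq F.dZ e))
  rw [D.μ _ (F.hA _ h2.symm), D.σ] at a2 a3
  rw [D.σ] at a1
  refine ⟨a1, c, h1, h2.symm, h3, a2, fun x hx e => ?_⟩
  have m := mem_cent_iff.2 (C.Zc F.dZ hx)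
  have := cj_of (a3 _ ((D.J ⟨x, m⟩).2 hx) (by rw [D.π _ hx]; exact e)).symm
  rwa [← map_inv, ← map_mul, ← map_mul, Q.eq] at this

theorem good' [Module F4 V] {H : V → V → F4} (N : Uni C.σ C.q H) (h : ¬ Zp d C.z) : ∃ c, c * d = d * c ∧
    c * C.z * c⁻¹ * C.z = C.z * (c * C.z * c⁻¹) ∧ c * C.z * c⁻¹ ≠ C.z ∧
    (∃ v, v ≠ 0 ∧ H v v = 0 ∧ ∀ x, C.σ (C.μ (c * C.z * c⁻¹)) x = x + H x v • v) ∧
    ∀ x ∈ C.J, C.σ (C.μ (c * C.z * c⁻¹)) (C.π x) = C.π x → x * (c * C.z * c⁻¹) = c * C.z * c⁻¹ * x := by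
  obtain ⟨-, c, h1, h2, h3, h4, h5⟩ := F.good h
  have hw := F.cZ h2 (comm_mul (comm_mul h1 F.cz.symm) (comm_inv h1))
  have P := C.pd hw (C.conj c).zz fun m => h3 (F.wcQ h1 m)
  have := fr_Fx C.form (C.μ (c * C.z * c⁻¹))
  obtain ⟨v, v0, vv, hv⟩ := tv_of_le N C.form (lin_of_five N C.form (W := Fx C.σ (C.μ (c * C.z * c⁻¹)))
    (by omega) fun x hx => (mem_Fx _).1 hx) P.ττ P.τ1 (by omega)
  refine ⟨c, h1, h2, h3, ⟨v, v0, vv, hv⟩, fun x hx e => (of_cj ((h5 x hx e).resolve_right fun f => ?_)).symm⟩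
  rcases (C.mem_Ψ hw hx).1 (tv_full N C.form C.kd P v0 vv hv e) with g | g <;> rw [f] at g
  exacts [F.d1 (by simpa using g), F.dz (mul_left_cancel g)]

theorem uni (h : ¬ Zp d C.z) : ∃ (_ : Module F4 V) (H : V → V → F4), Uni C.σ C.q H :=
  (C.kd.cases C.form).resolve_left fun ⟨V0, R⟩ => by
    have := C.form.fin
    obtain ⟨x, hx, x0⟩ := exists_ne_zero (B := V0) (by rw [R.r2]; norm_num)
    exact x0 ((F.good h).1 x fun k hk => R.fix k hk x hx)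

theorem same_tv (h : ¬ Zp d C.z) (h' : ¬ Zp (d * C.z) C.z) : ∃ c c', c * d = d * c ∧
    c' * (d * C.z) = d * C.z * c' ∧ c * C.z * c⁻¹ * C.z = C.z * (c * C.z * c⁻¹) ∧ c * C.z * c⁻¹ ≠ C.z ∧
    c' * C.z * c'⁻¹ = c * C.z * c⁻¹ * C.z := by
  obtain ⟨_, H, N⟩ := F.uni h
  obtain ⟨c, h1, h2, h3, ⟨v, v0, vv, hv⟩, h4⟩ := F.good' N h
  obtain ⟨e, e1, e2, e3, ⟨w, w0, ww, hw⟩, e4⟩ := F.swap.good' N h'
  obtain ⟨k, hk, e5⟩ := tv_cj N C.form C.kd w0 v0 ww vv hw hv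
  obtain ⟨b, hb, rfl⟩ := C.μ_surj k hk
  have tA := F.hA _ e2
  rw [← C.μ_conj hb tA] at e5
  obtain ⟨a, ha, u, hu, e6⟩ := C.same (F.cZ h2 (comm_mul (comm_mul h1 F.cz.symm) (comm_inv h1))) (C.conj c).zz h4
    (mul_mem (mul_mem hb tA) (inv_mem hb)) e5.symm fun x hx f => by
      have m := C.nJ (inv_mem hb) hx
      have := e4 _ m (by
        rw [← C.act _ (inv_mem hb) x hx, ← app_mul, show C.μ (e * C.z * e⁻¹) * C.μ b⁻¹ =
          C.μ b⁻¹ * C.μ (c * C.z * c⁻¹) by rw [← e5, C.μ_conj hb tA, C.μ_inv hb]; group, app_mul,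
          C.fix_of (F.hA _ h2) hx f.symm])
      simpa [mul_assoc] using cj_comm (g := b) this
  rw [cj_cj', cj_cj'] at e6
  have c1 := comm_mul (C.Zc F.dZ ha) h1
  have c2 := comm_mul (C.h0 b hb hk _ F.swap.dZ) e1
  have c3 : a * c * C.z * (a * c)⁻¹ * C.z = C.z * (a * c * C.z * (a * c)⁻¹) := by
    rw [← cj_cj']; simpa only [cj_of (C.Jz ha)] using cj_comm (g := a) h2
  have c4 : a * c * C.z * (a * c)⁻¹ ≠ C.z := fun f => h3 (cj_inj (g := a) (by rw [cj_cj', f, cj_of (C.Jz ha)]))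
  generalize a * c = c at e6 c1 c3 c4
  generalize b * e = e at e6 c2
  have m1 : d ∈ (C.conj c).Z := cj_of c1 ▸ cj_mem c F.dZ
  have m2 : d * C.z ∈ (C.conj e).Z := cj_of c2 ▸ cj_mem e F.swap.dZ
  refine ⟨c, e, c1, c2, c3, c4, ?_⟩
  rcases F.all u hu with rfl | rfl | rfl | rfl
  · rw [mul_one] at e6
    have : c⁻¹ * e * C.z = C.z * (c⁻¹ * e) := of_cj (by rw [← cj_cj', e6]; group)
    have m3 : d * C.z ∈ (C.conj c).Z := by
      have := C.nZ this (mem_cj.1 m2)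
      rw [Cx.conj_Z, mem_cj]
      convert this using 1
      group
    exact absurd ((C.conj c).f2' C ((mul_mem_cancel_left m1).1 m3)).symm c4
  · exact e6
  · have := (C.conj c).f2' (C.conj e) (by rw [Cx.conj_z, e6]; exact mul_mem (C.conj c).zZ m1)
    rw [Cx.conj_z, e6] at this
    exact absurd (mul_eq_left.1 this) F.d1
  · have := (C.conj e).f2' (C.conj c) (by
      have := mul_mem (C.conj e).zZ m2
      rwa [Cx.conj_z, e6, mul_assoc, F.swap.dd, mul_one] at this)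
    rw [Cx.conj_z, Cx.conj_z, e6] at this
    exact absurd (mul_eq_left.1 this.symm) F.swap.d1

section B
variable (hB : ∀ a, a * C.z = C.z * a → a * d = d * a)
include hB

theorem nfus (g : G) : g * d * g⁻¹ ≠ d * C.z := fun e => by
  obtain ⟨n, h1, h2⟩ := F.fus e
  exact C.z1 (by simpa [cj_of (hB n h1)] using h2)

theorem both (h : ¬ Zp d C.z) : Zp (d * C.z) C.z := by
  by_contra h'
  obtain ⟨c, e, h1, h2, h3, -, h4⟩ := F.same_tv h h'
  refine F.nfus hB (c⁻¹ * e) (cj_inj (g := c) ?_)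
  rw [cj_cj', mul_inv_cancel_left, ← cj_mul, cj_of h1]
  conv_lhs => rw [← F.dzz, ← cj_mul, cj_of h2, h4, h3, mul_assoc, ← mul_assoc C.z, C.zz, one_mul]

theorem mixed (h : ¬ Zp d C.z) (g : G) : g * d = d * g := by
  have h2 := F.both hB h
  have W := F.wc (Or.inl hB)
  have k : Zp 1 d := fun g _ c => by
    obtain ⟨c, h1, e, h3, h4, -, -, h5, h6⟩ := C.special F.dZ c.symm
    rw [← h3, cj_of (hB e (of_cj (F.pair W h2 h4 h5 h6))), cj_of h1]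
  obtain ⟨-, c, -, h3, h4, -⟩ := F.good h
  have := zstar F.dd F.d1 k
  rw [C.odd_bot H1.odd_card_oddCore (F.hA _ h3) fun m => h4 (W c m), sup_bot_eq] at this
  exact mem_cent_iff.1 (this.ge (mem_top g))

theorem caseB : Zp 1 C.z ∨ ∃ w, Fo C w ∧ (∀ g, g * w = w * g) ∧
    UD ⊤ (zpowers w) (K0.relIndex (C.imK ⊤)) := by
  have k : ∀ w, Fo C w → (∀ a, a * C.z = C.z * a → a * w = w * a) → ¬ Zp w C.z → ∃ w, Fo C w ∧
      (∀ g, g * w = w * g) ∧ UD ⊤ (zpowers w) (K0.relIndex (C.imK ⊤)) := fun w F hB h => by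
    refine ⟨w, F, F.mixed hB h, ?_⟩
    have := F.ud h
    rwa [show centralizer {w} = ⊤ from eq_top_iff.2 fun g _ => mem_cent_iff.2 (F.mixed hB h g)] at this
  by_cases h : Zp d C.z
  · by_cases h' : Zp (d * C.z) C.z
    exacts [Or.inl (F.allZ h h'), Or.inr (k _ F.swap (fun a ha => F.cZ ha (hB a ha) _ F.swap.dZ) h')]
  · exact Or.inr (k _ F hB h)

end B

end Fo

end H94.PF
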