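import Cfsg.Agent.Lib.WCl9.Main
import Cfsg.Agent.Lib.Orth12.Gen

/-!
Linear algebra for `U₄(2)` and its automorphism group acting on an eight dimensional space.
-/

set_option autoImplicit false

namespace H94.PF

open Module H95 H4.LX H9.WC QuadraticMap Subgroup Cfsg
open H30 (F4)

variable {K : Type*} [Group K]

/-- `K0 ≅ U₄(2)` is normal of index at most two with trivial centraliser -/
structure KD (K0 : Subgroup K) : Prop where
  ex : ∃ ι : SU 4 F4 2 →* K, Function.Injective ι ∧ ι.range = K0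
  nrm : K0.Normal
  idx : ∀ a b, a ∉ K0 → b ∉ K0 → a * b ∈ K0
  cent : ∀ k, (∀ r ∈ K0, k * r = r * k) → k = 1

namespace KD

variable {K0 : Subgroup K} (h : KD K0)
include h

theorem gens : ∃ a b c d s t u y, Gens K0 a b c d s t u y := by
  obtain ⟨ι, hι, rfl⟩ := h.ex
  exact ⟨_, _, _, _, _, _, _, _, gens_of ι hι h.nrm h.idx⟩

theorem card : Nat.card K0 = 25920 := by
  obtain ⟨_, _, _, _, _, _, _, _, g⟩ := h.gens
  exact g.card

theorem normal_le {P : Subgroup K} (hP : ∀ k ∈ K0, ∀ r ∈ K0, r ∈ P → k * r * k⁻¹ ∈ P) {r : K}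
    (hr : r ∈ K0) (hr' : r ∈ P) (r1 : r ≠ 1) : K0 ≤ P := by
  obtain ⟨_, _, _, _, _, _, _, _, g⟩ := h.gens
  exact g.normal_le hP hr hr' r1

theorem cases {V : Type*} [AddCommGroup V] [Module (ZMod 2) V] {σ : K →* Module.End (ZMod 2) V}
    {q : QuadraticForm (ZMod 2) V} (F : Form σ q) :
    (∃ V0, Red σ q V0 K0) ∨ ∃ (_ : Module F4 V) (H : V → V → F4), Uni σ q H := by
  obtain ⟨_, _, _, _, _, _, _, _, g⟩ := h.gens
  exact g.cases F

theorem sq_mem (k : K) : k * k ∈ K0 := by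
  by_cases c : k ∈ K0
  exacts [mul_mem c c, h.idx k k c c]

theorem index : K0.index = 1 ∨ K0.index = 2 := by
  by_cases c : ∀ k, k ∈ K0
  · exact Or.inl (index_eq_one.2 (eq_top_iff.2 fun k _ => c k))
  push Not at c
  obtain ⟨k, hk⟩ := c
  refine Or.inr (index_eq_two_iff.2 ⟨k, fun b => ?_⟩)
  by_cases hb : b ∈ K0
  · exact Or.inr ⟨hb, fun e => hk ((mul_mem_cancel_left hb).1 e)⟩
  · exact Or.inl ⟨h.idx b k hb hk, hb⟩

theorem pow_eq (k : K) : k ^ 51840 = 1 := by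
  have := pow_card_eq_one' (G := K0) (x := ⟨k * k, h.sq_mem k⟩)
  rw [h.card] at this
  have e := congrArg Subtype.val this
  simp only [SubmonoidClass.mk_pow, OneMemClass.coe_one] at e
  rw [show 51840 = 2 * 25920 from rfl, pow_mul, pow_two, e]

theorem odd_mem {k : K} {n : ℕ} (hn : Odd n) (e : k ^ n = 1) : k ∈ K0 := by
  obtain ⟨m, rfl⟩ := hn
  rw [pow_succ, pow_mul, pow_two, mul_eq_one_iff_inv_eq] at e
  exact e ▸ inv_mem (pow_mem (h.sq_mem k) m)

theorem fin0 : Finite K0 := Nat.finite_of_card_ne_zero (by rw [h.card]; norm_num)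

theorem ex5 : ∃ k ∈ K0, k ≠ 1 ∧ k ^ 5 = 1 := by
  have := h.fin0
  have : Fact (Nat.Prime 5) := ⟨by norm_num⟩
  obtain ⟨k, hk⟩ := exists_prime_orderOf_dvd_card' (G := K0) 5 (by rw [h.card]; norm_num)
  refine ⟨k, k.2, fun e => ?_, ?_⟩
  · rw [show k = 1 from Subtype.ext e, orderOf_one] at hk
    omega
  · exact congrArg Subtype.val (hk ▸ pow_orderOf_eq_one k)

/-- a subgroup normalised by `K0` containing all sixth or twelfth powers contains `K0` -/
theorem le_of_pow {P : Subgroup K} (hP : ∀ k ∈ K0, ∀ r ∈ K0, r ∈ P → k * r * k⁻¹ ∈ P) {n : ℕ}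
    (hn : ¬ 5 ∣ n) (hp : ∀ k ∈ K0, k ^ n ∈ P) : K0 ≤ P := by
  obtain ⟨k, hk, k1, k5⟩ := h.ex5
  refine h.normal_le hP (pow_mem hk n) (hp k hk) fun e => k1 ?_
  have := pow_gcd_eq_one.2 ⟨e, k5⟩
  rwa [show Nat.gcd n 5 = 1 from ((Nat.Prime.coprime_iff_not_dvd (by norm_num)).2 hn).symm, pow_one] at this

theorem hom_one {B : Type*} [Group B] (φ : K →* B) (hφ : ∀ k, φ k * φ k = 1) {k : K} (hk : k ∈ K0) :
    φ k = 1 := by
  have := h.le_of_pow (P := φ.ker) (fun k _ r _ hr => (MonoidHom.normal_ker φ).conj_mem r hr k) (n := 2) (by norm_num)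
    fun k _ => by rw [MonoidHom.mem_ker, pow_two, map_mul, hφ]
  exact this hk

/-- a `2`-subgroup normalised by `K0` is trivial -/
theorem two_triv {R : Subgroup K} (hR : ∀ r ∈ R, ∃ n, r ^ 2 ^ n = 1)
    (hn : ∀ k ∈ K0, ∀ r ∈ R, k * r * k⁻¹ ∈ R) : ∀ r ∈ R, r = 1 := by
  have h1 : ∀ r ∈ R, r ∈ K0 → r = 1 := fun r hr hr' => by
    by_contra r1
    obtain ⟨k, hk, k1, k5⟩ := h.ex5
    obtain ⟨n, e⟩ := hR k (h.normal_le (fun k hk r _ m => hn k hk r m) hr' hr r1 hk)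
    have := pow_gcd_eq_one.2 ⟨e, k5⟩
    rw [show Nat.gcd (2 ^ n) 5 = 1 from Nat.Coprime.pow_left n (by norm_num), pow_one] at this
    exact k1 this
  refine fun r hr => h.cent r fun k hk => ?_
  have := h1 (k * r * k⁻¹ * r⁻¹) (mul_mem (hn k hk r hr) (inv_mem hr)) (by
    rw [mul_assoc, mul_assoc, ← mul_assoc r]; exact mul_mem hk (h.nrm.conj_mem _ (inv_mem hk) r))
  rw [mul_inv_eq_one, mul_inv_eq_iff_eq_mul] at this
  exact this.symm

theorem sub {K' : Subgroup K} (hK : K0 ≤ K') : KD (K0.subgroupOf K') := by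
  obtain ⟨ι, hι, rfl⟩ := h.ex
  refine ⟨⟨ι.codRestrict K' fun x => hK ⟨x, rfl⟩, fun a b c => hι (congrArg Subtype.val c), ?_⟩,
    h.nrm.subgroupOf K', fun a b ha hb => h.idx a b ha hb, fun k hk => Subtype.ext (h.cent k fun r hr =>
      congrArg Subtype.val (hk ⟨r, hK hr⟩ hr))⟩
  ext k
  rw [mem_subgroupOf]
  exact ⟨fun ⟨x, hx⟩ => ⟨x, congrArg Subtype.val hx⟩, fun ⟨x, hx⟩ => ⟨x, Subtype.ext hx⟩⟩

theorem card_two_le [Finite K] {R : Subgroup K} (hR : IsPGroup 2 R) : Nat.card R ≤ 128 := by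
  obtain ⟨n, hn⟩ := hR.exists_card_eq
  have h1 := R.card_subgroup_dvd_card
  have h2 := K0.card_mul_index
  rw [h.card] at h2
  have h3 : 2 ^ n ∣ 51840 := by
    rw [← hn]
    rcases h.index with e | e <;> rw [e] at h2 <;> rw [← h2] at h1
    · exact h1.trans (by norm_num)
    · exact h1
  rw [hn]
  by_contra c
  have : 8 ≤ n := by
    by_contra c'
    exact c (Nat.pow_le_pow_right (n := 2) (by norm_num) (show n ≤ 7 by omega))
  exact absurd ((pow_dvd_pow 2 this).trans h3) (by norm_num)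

end KD

variable {V : Type*} [AddCommGroup V] [Module (ZMod 2) V] {σ : K →* Module.End (ZMod 2) V}
  {q : QuadraticForm (ZMod 2) V}

variable (σ) in
/-- the pointwise stabiliser -/
def Fixr (P : Submodule (ZMod 2) V) : Subgroup K where
  carrier := {k | ∀ x ∈ P, σ k x = x}
  mul_mem' := fun {a b} ha hb x hx => by rw [app_mul, hb x hx, ha x hx]
  one_mem' := fun x _ => app_one σ x
  inv_mem' := fun {a} ha x hx => by conv_lhs => rw [← ha x hx, app_inv]

theorem eqns_lin : True := by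
  have := @Fixr.eq_1.{0, 0}
  trivial

theorem eq_of_le_two [Finite K] {Y : Subgroup K} (h : Nat.card Y ≤ 2) {a b : K} (ha : a ∈ Y) (hb : b ∈ Y)
    (a1 : a ≠ 1) (b1 : b ≠ 1) : a = b := by
  refine eq_of_card_two (le_antisymm h ?_) hb ha b1 a1
  have : Nontrivial Y := ⟨⟨⟨a, ha⟩, 1, fun e => a1 (congrArg Subtype.val e)⟩⟩
  exact Finite.one_lt_card

section form
variable (F : Form σ q)
include F

theorem hyper {v : V} (hv : q v = 0) {k : K} (hk : ∀ x, polar q v x = 0 → σ k x = x) : k = 1 := by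
  have := finK F
  have := card_le_choose F 1 (Submodule.span (ZMod 2) {v}) (Fixr σ (p1 q v)) (finrank_span1 v)
    (fun u hu => by rcases mem_span1.1 hu with rfl | rfl; exacts [map_zero q, hv]) fun y hy => hy
  have h1 : Fixr σ (p1 q v) = ⊥ := (Subgroup.eq_bot_iff_card _).2 (le_antisymm this Nat.card_pos)
  exact (mem_bot.1 (h1 ▸ fun x hx => hk x (mem_p1.1 hx)))

theorem choose2 {U : Submodule (ZMod 2) V} (h2 : finrank (ZMod 2) U ≤ 2) (hU : ∀ u ∈ U, q u = 0) {a b : K}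
    (ha : ∀ x ∈ pp q U, σ a x = x) (hb : ∀ x ∈ pp q U, σ b x = x) (a1 : a ≠ 1) (b1 : b ≠ 1) : a = b := by
  have := finK F
  exact eq_of_le_two (card_le_choose F 2 U (Fixr σ (pp q U)) h2 hU fun y hy => hy) ha hb a1 b1

theorem card_hyper {P : Submodule (ZMod 2) V} (h7 : 7 ≤ finrank (ZMod 2) P) {Y : Subgroup K}
    (hY : ∀ y ∈ Y, ∀ x ∈ P, σ y x = x) : Nat.card Y ≤ 2 := by
  have := F.fin
  have := finK F
  obtain ⟨c, hc⟩ := exists_gen (A := pp q P) (by have := fr_pp F P; omega)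
  have key : ∀ y ∈ Y, y ≠ 1 → ∀ x, x ∉ P → σ y x = x + c := fun y hy y1 x hx => by
    rcases hc _ (mv_pp F (hY y hy) x) with e | e
    · refine absurd (F.faith y fun w => ?_) y1
      rcases mem_sup1.1 (mem_of_eight F (E := P ⊔ Submodule.span (ZMod 2) {x})
        (by rw [finrank_sup1 hx]; omega) w) with m | m
      · exact hY y hy w m
      · have := hY y hy _ m
        rw [map_add, az.1 e] at this
        exact add_right_cancel this
    · rw [← e, add_comm, abb]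
  refine card_le_two_of fun a ha b hb a1 b1 => fext F fun x => ?_
  by_cases m : x ∈ P
  · rw [hY a ha x m, hY b hb x m]
  · rw [key a ha a1 x m, key b hb b1 x m]

theorem sq_of_fix {P : Submodule (ZMod 2) V} (hP : pp q P ≤ P) {k : K} (hk : ∀ x ∈ P, σ k x = x) :
    k * k = 1 := F.faith _ fun x => by
  have := hk _ (hP (mv_pp F hk x))
  rw [map_add, add_comm (σ k x) x, add_left_inj] at this
  rw [app_mul, this]

theorem one_of_odd {P : Submodule (ZMod 2) V} (hP : pp q P ≤ P) {k : K} (hk : ∀ x ∈ P, σ k x = x) {n : ℕ}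
    (hn : Odd n) (e : k ^ n = 1) : k = 1 := by
  obtain ⟨m, rfl⟩ := hn
  rwa [pow_succ, pow_mul, pow_two, sq_of_fix F hP hk, one_pow, one_mul] at e

theorem comm_of_norm {U : Submodule (ZMod 2) V} (h2 : finrank (ZMod 2) U ≤ 2) (hU : ∀ u ∈ U, q u = 0)
    {τ k : K} (hτ : ∀ x ∈ pp q U, σ τ x = x) (hk : ∀ x ∈ U, σ k x ∈ U) : k * τ = τ * k := by
  by_cases t1 : τ = 1
  · simp [t1]
  refine of_cj (choose2 F h2 hU (fun x hx => ?_) hτ (by simpa using t1) t1)
  rw [app_mul, app_mul, hτ _ (app_pp F k⁻¹ (by simpa using hk) hx), app_inv']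

theorem even_Mv {K0 : Subgroup K} (h : KD K0) {k : K} (hk : k ∈ K0) : Even (finrank (ZMod 2) (Mv σ k)) := by
  have := F.fin
  have nd := H12.nondeg_iff.2 F.nd
  let ψ : K →* H12.O q := MonoidHom.mk' (fun k => H12.mkO q (σ k) (σ k⁻¹) (F.qσ k) (app_inv' σ k) (app_inv σ k))
    fun a b => Subtype.ext (LinearEquiv.ext fun x => app_mul σ a b x)
  have := h.hom_one ((H12.dk nd (H12.good_of_finrank_ne nd (by rw [F.h8]; norm_num))).comp ψ)
    (fun k => Int.units_mul_self _) hk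
  rw [MonoidHom.comp_apply, H12.dk_apply, neg_one_pow_eq_one_iff_even (by decide)] at this
  have e : H12.mov (ψ k) = Mv σ k := by
    ext x
    rw [H12.mem_mov, mem_Mv]
    refine exists_congr fun y => ?_
    rw [sub_eq_add_neg, vec2_neg, add_comm]
    rfl
  rw [e] at this
  exact this

theorem ex_mv {k : K} (k1 : k ≠ 1) : ∃ v ∈ Mv σ k, v ≠ 0 := by
  by_contra c
  push Not at c
  exact k1 (F.faith k fun x => az.1 (c _ (mv_mem k x)))

end form

/-- the linear datum of an involution centralising the centre -/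
structure PD (σ : K →* Module.End (ZMod 2) V) (q : QuadraticForm (ZMod 2) V) (K0 : Subgroup K) (τ : K)
    (Xs Φ : Submodule (ZMod 2) V) : Prop where
  ττ : τ * τ = 1
  τ1 : τ ≠ 1
  XΦ : Xs ≤ Φ
  ΦF : ∀ x ∈ Φ, σ τ x = x
  X2 : ∀ x ∈ Φ, ∀ y ∈ Φ, x ∉ Xs → y ∉ Xs → x + y ∈ Xs
  MΦ : ∀ x, σ τ x + x ∈ Φ
  XU : ∀ x, σ τ x + x ∈ Xs ↔ q (σ τ x + x) = 0
  inv : ∀ k ∈ K0, k * τ = τ * k → ∀ x, σ τ x = x → σ k x + x ∈ Φ
  v0 : τ ∈ K0 → ∀ x, (∀ k ∈ K0, σ k x = x) → x ∈ Φ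

namespace PD

variable {K0 : Subgroup K} {τ : K} {Xs Φ : Submodule (ZMod 2) V} (P : PD σ q K0 τ Xs Φ)
include P

theorem XF {x : V} (hx : x ∈ Xs) : σ τ x = x := P.ΦF x (P.XΦ hx)

theorem M_le : Mv σ τ ≤ Φ := by rintro _ ⟨y, rfl⟩; exact P.MΦ y

theorem M_iff {m : V} (hm : m ∈ Mv σ τ) : m ∈ Xs ↔ q m = 0 := by
  obtain ⟨y, rfl⟩ := mem_Mv.1 hm
  exact P.XU y

theorem fr (F : Form σ q) (h : ∀ x, σ τ x = x → x ∈ Φ) :
    finrank (ZMod 2) (Fx σ τ) ≤ finrank (ZMod 2) Xs + 1 := by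
  have := F.fin
  exact finrank_le_succ fun x hx y hy => P.X2 x (h x ((mem_Fx σ).1 hx)) y (h y ((mem_Fx σ).1 hy))

end PD

end H94.PF
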