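import Cfsg.Agent.Lib.PF94.Lin

/-!
The reducible module.
-/

set_option autoImplicit false

namespace H94.PF

open Module H95 H4.LX H9.WC QuadraticMap Subgroup Cfsg

variable {K : Type*} [Group K] {V : Type*} [AddCommGroup V] [Module (ZMod 2) V]
  {σ : K →* Module.End (ZMod 2) V} {q : QuadraticForm (ZMod 2) V} {V0 : Submodule (ZMod 2) V}
  {K0 : Subgroup K} (R : Red σ q V0 K0) (F : Form σ q)
include R F

theorem rfix0 {τ : K} (hq : ∀ u ∈ Mv σ τ, q u = 0) : ∀ x ∈ V0, σ τ x = x := fun x hx => by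
  have := F.fin
  by_contra c
  have m := add_mem (R.inv τ x hx) hx
  have n0 : σ τ x + x ≠ 0 := fun e => c (az.1 e)
  have b0 : polar q x (σ τ x + x) = 0 := by rw [← q_mv F, hq _ (mv_mem τ x)]
  have x0 : x ≠ 0 := fun e => c (by rw [e, map_zero])
  refine n0 (R.nd _ m (mem_perp.2 fun e he => ?_))
  rcases mem_four R.r2.le hx m he x0 n0 (fun e => x0 ((app_eq_zero σ).1 (add_eq_right.1 e.symm))) with
    rfl | rfl | rfl | rfl
  · simp
  · exact b0
  · exact polar_same q _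
  · rw [polar_add_left, b0, polar_same, add_zero]

theorem rMv_le {τ : K} (h : ∀ x ∈ V0, σ τ x = x) : Mv σ τ ≤ pp q V0 := by
  rintro _ ⟨y, rfl⟩
  exact mv_pp F h y

theorem rdual {A : Submodule (ZMod 2) V} (hA : A ≤ pp q V0) {x : V} (hx : x ∈ pp q V0) (hx' : x ∉ A) :
    ∃ f ∈ pp q V0, (∀ a ∈ A, polar q a f = 0) ∧ polar q x f = 1 := by
  obtain ⟨e, he, he'⟩ := exists_pp F (E := V0 ⊔ A) (x := x) fun c => by
    obtain ⟨a, ha, b, hb, rfl⟩ := Submodule.mem_sup.1 c
    have := R.nd a ha ((Submodule.add_mem_iff_left _ (hA hb)).1 hx)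
    exact hx' (by rwa [this, zero_add])
  exact ⟨e, pp_anti le_sup_left he, fun a ha => mem_perp.1 he a (Submodule.mem_sup_right ha),
    by rwa [polar_comm]⟩

/-- an Eichler transformation acting as a transvection on a totally singular subspace -/
theorem reich {U A : Submodule (ZMod 2) V} (hU : U ≤ pp q V0) (hq : ∀ u ∈ U, q u = 0) (hA : A ≤ U) {s x : V}
    (hs : s ∈ A) (hx : x ∈ U) (hx' : x ∉ A) :
    ∃ k, (∀ a ∈ A, σ k a = a) ∧ σ k x = x + s ∧ ∀ u ∈ U, σ k u ∈ U := by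
  obtain ⟨f, hf, h1, h2⟩ := rdual R F (hA.trans hU) (hU hx) hx'
  obtain ⟨k, hk⟩ := R.eich s (hU (hA hs)) f hf (hq s (hA hs)) (h1 s hs)
  have key : ∀ u ∈ U, σ k u = u + polar q u f • s := fun u hu => by
    rw [hk, mem_perp.1 (le_perp hq (hA hs)) u hu]; simp
  refine ⟨k, fun a ha => by rw [key a (hA ha), h1 a ha]; simp, by rw [key x hx, h2, one_smul], fun u hu => ?_⟩
  rw [key u hu]
  exact add_mem hu (U.smul_mem _ (hA hs))

theorem minus (h : KD K0) {U : Submodule (ZMod 2) V} (hU : U ≤ pp q V0) (hq : ∀ u ∈ U, q u = 0) :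
    finrank (ZMod 2) U ≤ 2 := by
  have := F.fin
  by_contra c
  obtain ⟨a, ha, a0⟩ := exists_ne_zero (B := U) (by omega)
  obtain ⟨b, hb, b0⟩ := exists_not_mem (A := Submodule.span (ZMod 2) {a}) (B := U) (by
    have := finrank_span1 a; omega)
  obtain ⟨c, hc, c0⟩ := exists_not_mem (A := Submodule.span (ZMod 2) {a} ⊔ Submodule.span (ZMod 2) {b})
    (B := U) (by have := finrank_span1 a; have := finrank_sup1_le (Submodule.span (ZMod 2) {a}) b; omega)
  simp only [mem_sup1, mem_span1, not_or] at b0 c0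
  have le : ∀ {x y}, x ∈ U → y ∈ U → Submodule.span (ZMod 2) {x} ⊔ Submodule.span (ZMod 2) {y} ≤ U :=
    fun hx hy => sup_le ((Submodule.span_singleton_le_iff_mem _ _).2 hx)
      ((Submodule.span_singleton_le_iff_mem _ _).2 hy)
  have m1 : ∀ x y : V, x ∈ Submodule.span (ZMod 2) {x} ⊔ Submodule.span (ZMod 2) {y} := fun x y =>
    Submodule.mem_sup_left (Submodule.mem_span_singleton_self x)
  have m2 : ∀ x y : V, y ∈ Submodule.span (ZMod 2) {x} ⊔ Submodule.span (ZMod 2) {y} := fun x y =>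
    Submodule.mem_sup_right (Submodule.mem_span_singleton_self y)
  obtain ⟨k1, p1, p2, -⟩ := reich R F hU hq (le ha hc) (m1 a c) hb (by
    simp only [mem_sup1, mem_span1, not_or]
    refine ⟨b0, fun e => c0.2.1 (by rwa [add_comm]), fun e => c0.2.2 (by rwa [add_comm])⟩)
  obtain ⟨k2, q1, q2, -⟩ := reich R F hU hq (le ha hb) (m2 a b) hc (by
    simp only [mem_sup1, mem_span1, not_or]; exact c0)
  obtain ⟨k3, r1, r2, -⟩ := reich R F hU hq (le hc hb) (m1 c b) ha (by
    simp only [mem_sup1, mem_span1, not_or]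
    refine ⟨⟨a0, fun e => c0.1.2 e.symm⟩, fun e => b0.2 (az.1 e).symm, fun e => c0.2.2 ?_⟩
    rw [← e, abb])
  have ga : σ (k1 * k2 * k3) a = b + c := by
    simp only [app_mul, r2, map_add, q1 a (m1 a b), q2, p1 a (m1 a c), p1 c (m2 a c), p2]
    apply c2; match_scalars <;> decide
  have gb : σ (k1 * k2 * k3) b = a + b := by
    simp only [app_mul, r1 b (m2 c b), q1 b (m2 a b), p2, add_comm]
  have gc : σ (k1 * k2 * k3) c = a + b + c := by
    simp only [app_mul, r1 c (m1 c b), q2, map_add, p1 c (m2 a c), p2]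
    apply c2; match_scalars <;> decide
  have e0 := h.pow_eq (k1 * k2 * k3)
  generalize k1 * k2 * k3 = g at ga gb gc e0
  have g2 : σ g (σ g a) = c := by
    rw [ga, map_add, gb, gc]; apply c2; match_scalars <;> decide
  have g4 : σ g (σ g c) = b := by
    rw [gc, map_add, map_add, ga, gb, gc]; apply c2; match_scalars <;> decide
  have g5 : σ (g ^ 5) a = a + b := by
    simp only [pow_succ, pow_zero, one_mul, app_mul, g2, g4, gb]
  have g7 : σ (g ^ 7) a = a := by
    rw [show 7 = 2 + 5 from rfl, pow_add, app_mul, g5, pow_two, app_mul, map_add, map_add, g2, gb, map_add,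
      ga, gb]
    apply c2; match_scalars <;> decide
  have gn : ∀ n, σ ((g ^ 7) ^ n) a = a := fun n => by
    induction n with
    | zero => rw [pow_zero, app_one]
    | succ n ih => rw [pow_succ, app_mul, g7, ih]
  have := gn 7405
  rw [← pow_mul] at this
  rw [← this, ← app_mul, ← pow_add, e0, app_one, this] at g5
  exact b0.1 (left_eq_add.1 g5)

theorem rrot {τ : K} (τ1 : τ ≠ 1) (h2 : finrank (ZMod 2) (Mv σ τ) ≤ 2) (hq : ∀ u ∈ Mv σ τ, q u = 0) {v : V}
    (hv : v ∈ Mv σ τ) (v0 : v ≠ 0) : ∃ k, k * τ = τ * k ∧ σ (k ^ 4) v ≠ v := by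
  have := F.fin
  have hU := rMv_le R F (rfix0 R F hq)
  have fx : ∀ x ∈ pp q (Mv σ τ), σ τ x = x := fun x hx => by rwa [pp_Mv F, mem_Fx] at hx
  obtain ⟨w, hw, w0⟩ : ∃ w ∈ Mv σ τ, w ∉ Submodule.span (ZMod 2) {v} := by
    by_contra c
    push Not at c
    exact τ1 (hyper F (hq v hv) fun x hx => fx x (pp_anti c (mem_p1.2 hx)))
  rw [mem_span1, not_or] at w0
  obtain ⟨k1, p1, p2, p3⟩ := reich R F hU hq ((Submodule.span_singleton_le_iff_mem _ _).2 hv)
    (Submodule.mem_span_singleton_self v) hw (by rw [mem_span1, not_or]; exact w0)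
  obtain ⟨k2, q1, q2, q3⟩ := reich R F hU hq ((Submodule.span_singleton_le_iff_mem _ _).2 hw)
    (Submodule.mem_span_singleton_self w) hv (by rw [mem_span1, not_or]; exact ⟨v0, Ne.symm w0.2⟩)
  replace p1 := p1 v (Submodule.mem_span_singleton_self v)
  replace q1 := q1 w (Submodule.mem_span_singleton_self w)
  have e1 : σ (k1 * k2) v = w := by rw [app_mul, q2, map_add, p1, p2, add_comm w, aab]
  have e2 : σ (k1 * k2) w = w + v := by rw [app_mul, q1, p2]
  refine ⟨k1 * k2, comm_of_norm F h2 hq fx fun x hx => by rw [app_mul]; exact p3 _ (q3 x hx), ?_⟩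
  generalize k1 * k2 = k at e1 e2
  simp only [pow_succ, pow_zero, one_mul, app_mul, e1, e2, map_add]
  rw [aba]
  exact w0.2

theorem rS {τ : K} (hτ : τ * τ = 1) (hq : ∀ x, σ τ x = x → q x = 0) : False := by
  have := F.fin
  have h1 := rfix0 R F (τ := τ) fun u hu => hq u ((mem_Fx σ).1 (Mv_le_Fx hτ hu))
  obtain ⟨x, hx, x0⟩ := exists_ne_zero (B := V0) (by rw [R.r2]; norm_num)
  exact x0 (R.nd x hx (le_perp (fun e he => hq e (h1 e he)) hx))

variable (h : KD K0) {τ : K} {Xs Φ : Submodule (ZMod 2) V} (P : PD σ q K0 τ Xs Φ) (hτ : τ ∈ K0)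
include h P hτ

theorem rM2 : finrank (ZMod 2) (Mv σ τ) = 2 := by
  have := F.fin
  have hU := rMv_le R F (R.fix τ hτ)
  have h1 := finrank_add_le (Mv_le_Fx (σ := σ) P.ττ) (show V0 ≤ Fx σ τ from fun x hx =>
    (mem_Fx σ).2 (R.fix τ hτ x hx)) fun x hx hx' => R.nd x hx' (hU hx)
  have h2 := fr_Fx F τ
  have h3 := R.r2
  obtain ⟨v, hv, v0⟩ := ex_mv F P.τ1
  have h4 : 0 < finrank (ZMod 2) (Mv σ τ) := by
    simpa using finrank_lt_of (A := ⊥) bot_le hv (by simpa using v0)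
  obtain ⟨n, hn⟩ := even_Mv F h hτ
  omega

theorem rfull {x : V} (hx : σ τ x = x) : x ∈ Φ := by
  have := F.fin
  have hU := rMv_le R F (R.fix τ hτ)
  have MF : ∀ m ∈ Mv σ τ, σ τ m = m := fun m hm => (mem_Fx σ).1 (Mv_le_Fx P.ττ hm)
  have bM : ∀ m ∈ Mv σ τ, ∀ y, σ τ y = y → polar q y m = 0 := by
    rintro _ ⟨w, rfl⟩ y hy
    exact b_mv F hy w
  have adj : ∀ y ∈ pp q V0, σ τ y = y → y ∉ Mv σ τ → ∃ m ∈ Mv σ τ, q (y + m) = 1 := fun y hy hy' n => by
    by_contra c
    push Not at c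
    have q0 : q y = 0 := by simpa using z2_ne1.1 (c 0 (zero_mem _))
    have := minus R F h (U := Mv σ τ ⊔ Submodule.span (ZMod 2) {y})
      (sup_le hU ((Submodule.span_singleton_le_iff_mem _ _).2 hy)) fun u hu => by
        rcases mem_sup1.1 hu with m | m
        · have := z2_ne1.1 (c u m)
          rwa [q_add, q0, bM u m y hy', zero_add, add_zero] at this
        · have := z2_ne1.1 (c _ m)
          rwa [add_comm u, aab] at this
    rw [finrank_sup1 n, rM2 R F h P hτ] at this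
    omega
  obtain ⟨a, ha, ha'⟩ := R.dec F x
  suffices x + a ∈ Φ from (Φ.add_mem_iff_left (P.v0 hτ a fun k hk => R.fix k hk a ha)).1 this
  have hy : σ τ (x + a) = x + a := by rw [map_add, hx, R.fix τ hτ a ha]
  generalize x + a = y at ha' hy
  by_cases n : y ∈ Mv σ τ
  · exact P.M_le n
  obtain ⟨e, he, e1, e2⟩ := rdual R F hU ha' n
  have eF : σ τ e = e := by
    rw [← mem_Fx, ← pp_Mv F]; exact mem_perp.2 e1
  obtain ⟨m, hm, qm⟩ := adj y ha' hy n
  obtain ⟨m', hm', qm'⟩ := adj e he eF fun c => by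
    rw [bM e c y hy] at e2; exact absurd e2 (by decide)
  suffices y + m ∈ Φ from (Φ.add_mem_iff_left (P.M_le hm)).1 this
  have f1 : σ τ (y + m) = y + m := by rw [map_add, hy, MF m hm]
  have f2 : σ τ (e + m') = e + m' := by rw [map_add, eF, MF m' hm']
  have b1 : polar q (y + m) (e + m') = 1 := by
    rw [polar_add_right, bM m' hm' _ f1, polar_add_left, e2, e1 m hm]; decide
  obtain ⟨k, hk⟩ := R.refl _ (add_mem he (hU hm')) _ (add_mem ha' (hU hm)) qm' qm
  generalize y + m = u at *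
  generalize e + m' = w at *
  have c : k * τ = τ * k := fext F fun x => by
    rw [app_mul, app_mul, hk, hk, F.polar' P.ττ, f1]
    simp only [map_add, map_smul, f1, f2, polar_add_left, polar_smul_left, F.polar' P.ττ]
  have k1 : σ k u = u + w := by rw [hk, polar_same]; simp [b1]
  have k2 : σ k w = u := by
    rw [hk, polar_comm, b1, one_smul, polar_add_left, polar_same, b1, zero_add, one_smul, aba]
  have := P.inv (k * k) (h.sq_mem k) (by rw [mul_assoc, c, ← mul_assoc, c, mul_assoc]) w f2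
  rwa [app_mul, k2, k1, abb] at this

theorem rfive : 5 ≤ finrank (ZMod 2) Xs := by
  have h1 := P.fr F fun x hx => rfull R F h P hτ hx
  have h2 := fr_Fx F τ
  have h3 := rM2 R F h P hτ
  omega

theorem rC {τ' : K} {Φ' : Submodule (ZMod 2) V} (P' : PD σ q K0 τ' Xs Φ') (ne : τ ≠ τ')
    {Is : Submodule (ZMod 2) V} (hI : Is ≤ Xs) (hI' : ∀ i ∈ Is, ∀ x ∈ Xs, polar q x i = 0) {Y : Subgroup K}
    (Yc : ∀ y ∈ Y, y * τ = τ * y) (YX : ∀ y ∈ Y, ∀ x ∈ Xs, σ y x + x ∈ Is) :
    Nat.card Y * 2 ^ finrank (ZMod 2) Is ≤ 64 := by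
  have := F.fin
  have := finK F
  have : Finite V := Module.finite_of_finite (ZMod 2)
  have hU := rMv_le R F (R.fix τ hτ)
  have M2 := rM2 R F h P hτ
  have f8 := fr_Fx F τ
  have MF : ∀ m ∈ Mv σ τ, σ τ m = m := fun m hm => (mem_Fx σ).1 (Mv_le_Fx P.ττ hm)
  have bM : ∀ m ∈ Mv σ τ, ∀ y, σ τ y = y → polar q y m = 0 := by
    rintro _ ⟨w, rfl⟩ y hy
    exact b_mv F hy w
  have toM : ∀ n, σ τ n = n → n ∉ Xs → ∀ i, polar q n i = 0 → (∀ x ∈ Xs, polar q x i = 0) → i ∈ Mv σ τ :=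
    fun n hn n' i h1 h2 => mem_Mv_of F fun e he => by
      by_cases m : e ∈ Xs
      · exact h2 e m
      · have := h2 _ (P.X2 e (rfull R F h P hτ he) n (rfull R F h P hτ hn) m n')
        rwa [polar_add_left, h1, add_zero] at this
  by_cases hM : Mv σ τ ≤ Xs
  · exfalso
    have N1 : Mv σ τ' ≤ pp q Xs := by rintro _ ⟨y, rfl⟩; exact mv_pp F (fun x hx => P'.XF hx) y
    have N2 : pp q Xs ≤ Xs := fun n hn => by
      by_contra n'
      have nF : σ τ n = n := by rw [← mem_Fx, ← pp_Mv F]; exact pp_anti hM hn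
      exact n' (hM (toM n nF n' n (polar_same q n) (mem_perp.1 hn)))
    have q1 : ∀ u ∈ Mv σ τ, q u = 0 := fun u hu => (P.M_iff hu).1 (hM hu)
    have q2 : ∀ u ∈ Mv σ τ', q u = 0 := fun u hu => (P'.M_iff hu).1 (N2 (N1 hu))
    have q3 : ∀ u ∈ Mv σ τ ⊔ Mv σ τ', q u = 0 := fun u hu => by
      obtain ⟨a, ha, b, hb, rfl⟩ := Submodule.mem_sup.1 hu
      rw [q_add, q1 a ha, q2 b hb, mem_perp.1 (N1 hb) a (hM ha)]; decide
    refine ne (choose2 F (minus R F h (sup_le hU (rMv_le R F (rfix0 R F q2))) q3) q3 (fun x hx => ?_)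
      (fun x hx => ?_) P.τ1 P'.τ1)
    · rw [← mem_Fx, ← pp_Mv F]; exact pp_anti le_sup_left hx
    · rw [← mem_Fx, ← pp_Mv F]; exact pp_anti le_sup_right hx
  obtain ⟨n, hn, n'⟩ := SetLike.not_le_iff_exists.1 hM
  have S1 : finrank (ZMod 2) (Mv σ τ ⊓ Xs : Submodule (ZMod 2) V) ≤ 1 := by
    have := finrank_lt_of (A := Mv σ τ ⊓ Xs) inf_le_left hn fun c => n' c.2
    omega
  have IS : Is ≤ Mv σ τ ⊓ Xs := fun i hi =>
    ⟨toM n (MF n hn) n' i (by rw [polar_comm]; exact bM n hn i (P.XF (hI hi))) (hI' i hi), hI hi⟩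
  obtain ⟨s, hs, s0⟩ : ∃ s ∈ Mv σ τ ⊓ Xs, s ≠ 0 := by
    obtain ⟨m, hm, m'⟩ := exists_not_mem (A := Submodule.span (ZMod 2) {n}) (B := Mv σ τ) (by
      have := finrank_span1 n; omega)
    rw [mem_span1, not_or] at m'
    by_cases c : m ∈ Xs
    · exact ⟨m, ⟨hm, c⟩, m'.1⟩
    · exact ⟨m + n, ⟨add_mem hm hn, P.X2 m (P.M_le hm) n (P.M_le hn) c n'⟩, fun e => m'.2 (az.1 e)⟩
  have hS : ∀ x ∈ Mv σ τ ⊓ Xs, x = 0 ∨ x = s := fun x hx => by
    by_contra c
    rw [not_or] at c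
    have := two_le_finrank hx hs c.1 s0 c.2
    omega
  have qs := (P.M_iff hs.1).1 hs.2
  have YF : ∀ y ∈ Y, ∀ x, σ τ x = x → σ y x + x = 0 ∨ σ y x + x = s := fun y hy x hx => by
    refine hS _ ?_
    by_cases m : x ∈ Xs
    · exact IS (YX y hy x m)
    have m1 := IS (YX y hy _ (P.X2 x (rfull R F h P hτ hx) n (P.M_le hn) m n'))
    have m2 : σ y n + n ∈ Mv σ τ := by
      obtain ⟨w, rfl⟩ := mem_Mv.1 hn
      exact add_mem ⟨σ y w, by rw [map_add, app_eq σ (Yc y hy)]; rfl⟩ hn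
    have := add_mem m1 (⟨m2, (P.M_iff m2).2 (by rw [q_mv F, bM _ m2 n (MF n hn)])⟩ : _ ∈ Mv σ τ ⊓ Xs)
    rwa [map_add, add_add_add_comm (σ y x), abb] at this
  have Ys : ∀ y ∈ Y, σ y s = s := fun y hy => az.1 ((YF y hy s (MF s hs.1)).resolve_right fun e =>
    s0 ((app_eq_zero σ).1 (add_eq_right.1 e)))
  have Y0 : ∀ y ∈ Y, ∀ a ∈ V0, σ y a = a := fun y hy a ha =>
    az.1 ((YF y hy a (R.fix τ hτ a ha)).resolve_right fun e =>
      s0 (R.nd s (e ▸ add_mem (R.inv y a ha) ha) (hU hs.1)))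
  obtain ⟨f, hf, -, sf⟩ := rdual R F (A := ⊥) bot_le (hU hs.1) (by simpa using s0)
  have fs : polar q f s = 1 := by rwa [polar_comm]
  have T4 : finrank (ZMod 2) (pp q V0 ⊓ p1 q s ⊓ p1 q f : Submodule (ZMod 2) V) ≤ 4 := by
    have h1 := finrank_lt_of (A := pp q V0 ⊓ p1 q s) inf_le_left hf fun c => by
      have := mem_p1.1 c.2
      rw [sf] at this; exact absurd this (by decide)
    have h2 := finrank_lt_of (A := pp q V0 ⊓ p1 q s ⊓ p1 q f) inf_le_left
      (⟨hU hs.1, mem_p1.2 (polar_same q s)⟩ : s ∈ pp q V0 ⊓ p1 q s) fun c => by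
        have := mem_p1.1 c.2
        rw [fs] at this; exact absurd this (by decide)
    have := fr_pp F V0
    have := R.r2
    omega
  have h1 := card_le_of_fun Y (stab σ f) (fun y => (⟨σ y f + f + polar q f (σ y f + f) • s,
    ⟨add_mem (mv_pp F (Y0 y y.2) f) (Submodule.smul_mem _ _ (hU hs.1)), mem_p1.2 (by
      rw [polar_add_right, b_mv F (Ys y y.2), polar_smul_right, polar_same]; simp)⟩, mem_p1.2 (by
      rw [polar_add_right, polar_smul_right, fs, smul_eq_mul, mul_one, zmod2_add_self])⟩ :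
      (pp q V0 ⊓ p1 q s ⊓ p1 q f : Submodule (ZMod 2) V))) fun a b e => by
    have e' : σ a f + f + polar q f (σ a f + f) • s = σ b f + f + polar q f (σ b f + f) • s :=
      congrArg Subtype.val e
    have qq : ∀ y ∈ Y, q (σ y f + f + polar q f (σ y f + f) • s) = polar q f (σ y f + f) := fun y hy => by
      rw [q_add, q_mv F, QuadraticMap.map_smul, qs, polar_smul_right, polar_comm q _ s, b_mv F (Ys y hy)]
      simp
    have := qq a a.2
    rw [e', qq b b.2] at this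
    rw [this, add_left_inj, add_left_inj] at e'
    rw [mem_stab, app_mul, ← e', app_inv]
  have h2 := card_hyper F (P := Fx σ τ ⊔ Submodule.span (ZMod 2) {f}) (Y := Y ⊓ stab σ f) (by
    rw [finrank_sup1 fun c => by
      rw [bM s hs.1 f ((mem_Fx σ).1 c)] at fs; exact absurd fs (by decide)]
    omega) fun y hy x hx => by
      have key : ∀ x, σ τ x = x → σ y x = x := fun x hx => az.1 ((YF y hy.1 x hx).resolve_right fun e => by
        have := b_mv F (mem_stab.1 hy.2) x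
        rw [e, fs] at this; exact absurd this (by decide))
      rcases mem_sup1.1 hx with m | m
      · exact key x ((mem_Fx σ).1 m)
      · have := key _ ((mem_Fx σ).1 m)
        rw [map_add, mem_stab.1 hy.2] at this
        exact add_right_cancel this
  rw [card_sub] at h1
  have h3 : 2 ^ finrank (ZMod 2) (pp q V0 ⊓ p1 q s ⊓ p1 q f : Submodule (ZMod 2) V) ≤ 2 ^ 4 :=
    Nat.pow_le_pow_right (by norm_num) T4
  have h4 := h1.trans (Nat.mul_le_mul h3 h2)
  have h5 : 2 ^ finrank (ZMod 2) Is ≤ 2 ^ 1 :=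
    Nat.pow_le_pow_right (by norm_num) ((Submodule.finrank_mono IS).trans S1)
  exact (Nat.mul_le_mul h4 h5).trans (by norm_num)

end H94.PF
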