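import Cfsg.Agent.Lib.PF94.LinR

/-!
The unitary module.
-/

set_option autoImplicit false

namespace H94.PF

open Module H95 H4.LX H9.WC QuadraticMap Subgroup Cfsg
open H30 (F4)

variable {K : Type*} [Group K] {V : Type*} [AddCommGroup V] [Module (ZMod 2) V] [Module F4 V]
  {σ : K →* Module.End (ZMod 2) V} {q : QuadraticForm (ZMod 2) V} {H : V → V → F4} {K0 : Subgroup K}

theorem inv_six [Module.Finite (ZMod 2) V] {W : Submodule (ZMod 2) V} (hW : H9.WC.Inv W)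
    (h5 : 5 ≤ finrank (ZMod 2) W) : 6 ≤ finrank (ZMod 2) W := by
  obtain ⟨a, ha, a0⟩ := exists_ne_zero (B := W) (by omega)
  have h1 := inv_bot.fr_sp (A := (⊥ : Submodule (ZMod 2) V)) (x := a) (by simpa using a0)
  rw [finrank_bot] at h1
  obtain ⟨b, hb, b0⟩ := exists_not_mem (A := sp ⊥ a) (B := W) (by omega)
  have h2 := (inv_bot.sp a).fr_sp b0
  obtain ⟨c, hc, c0⟩ := exists_not_mem (A := sp (sp ⊥ a) b) (B := W) (by omega)
  have := ((inv_bot.sp a).sp b).jump hW (sp_le hW (sp_le hW bot_le ha) hb) hc c0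
  omega

/-- multiplication by a primitive element -/
def om : V →ₗ[ZMod 2] V := (DistribSMul.toAddMonoidHom V F4.w).toZModLinearMap 2

theorem om_apply (x : V) : (om : V →ₗ[ZMod 2] V) x = F4.w • x := rfl

theorem eqns_linU : True := by
  have := @om.eq_1.{0}
  trivial

variable (N : Uni σ q H) (F : Form σ q)
include F

theorem ex_pair {W : Submodule (ZMod 2) V} (h5 : 5 ≤ finrank (ZMod 2) W) :
    ∃ x, x ≠ 0 ∧ x ∈ W ∧ F4.w • x ∈ W := by
  have := F.fin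
  have h1 : finrank (ZMod 2) W ≤ finrank (ZMod 2) (W.comap om) :=
    LinearMap.finrank_le_finrank_of_injective (f := (om ∘ₗ om).restrict (p := W) (q := W.comap om)
      fun x hx => by
        show F4.w • F4.w • F4.w • x ∈ W
        rwa [smul_smul, smul_smul, show F4.w * F4.w * F4.w = 1 by decide, one_smul]) fun x y e => by
      have e' : F4.w • F4.w • (x : V) = F4.w • F4.w • (y : V) := congrArg Subtype.val e
      exact Subtype.ext (smul_right_injective V (by decide) (smul_right_injective V (by decide) e'))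
  have h2 := finrank_inf_ge W (W.comap om) ⊤ le_top le_top
  rw [finrank_top, F.h8] at h2
  obtain ⟨x, hx, x0⟩ := exists_ne_zero (B := W ⊓ W.comap om) (by omega)
  exact ⟨x, x0, hx.1, hx.2⟩

include N

omit F in
theorem lin_of_pair {k : K} {x : V} (x0 : x ≠ 0) (h1 : σ k x = x) (h2 : σ k (F4.w • x) = F4.w • x) :
    k ∈ Lin σ := by
  by_contra c
  rw [N.semi c, h1] at h2
  exact absurd (smul_inj x0 h2) (by decide)

theorem lin_of_five {W : Submodule (ZMod 2) V} (h5 : 5 ≤ finrank (ZMod 2) W) {k : K}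
    (hk : ∀ x ∈ W, σ k x = x) : k ∈ Lin σ := by
  obtain ⟨x, x0, h1, h2⟩ := ex_pair F h5
  exact lin_of_pair N x0 (hk x h1) (hk _ h2)

theorem one_of_seven {W : Submodule (ZMod 2) V} (h7 : 7 ≤ finrank (ZMod 2) W) {k : K}
    (hk : ∀ x ∈ W, σ k x = x) : k = 1 := by
  have := F.fin
  by_contra k1
  obtain ⟨v, hv, v0⟩ := ex_mv F k1
  have h1 := inv_bot.jump (inv_Mv (lin_of_five N F (by omega) hk)) bot_le hv (by simpa using v0)
  have h2 := fr_Fx F k
  have h3 := Submodule.finrank_mono (show W ≤ Fx σ k from fun x hx => (mem_Fx σ).2 (hk x hx))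
  omega

theorem ex_link {a b : V} (a0 : a ≠ 0) (b0 : b ≠ 0) (ha : H a a = 0) (ab : H a b = 0) :
    ∃ c, H c c = 0 ∧ H a c ≠ 0 ∧ H c b ≠ 0 := by
  obtain ⟨x, xa, xy⟩ : ∃ x, H x a = 1 ∧ H x b ≠ 0 := by
    obtain ⟨x, hx⟩ := N.ex_H F b0 1
    obtain ⟨x', hx'⟩ := N.ex_H F a0 1
    by_cases c : H x' b = 0
    · refine ⟨(1 + H x a) • x' + x, ?_, ?_⟩
      · rw [N.addl, N.smull, hx', mul_one, add_assoc, CharTwo.add_self_eq_zero, add_zero]
      · rw [N.addl, N.smull, c, hx]; simp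
    · exact ⟨x', hx', c⟩
  obtain ⟨s, hs⟩ := N.sing_adj ha (N.s1 xa)
  refine ⟨_, hs, ?_, ?_⟩
  · rw [N.addr, N.smulr, ha, N.s1 xa]; simp
  · rwa [N.addl, N.smull, ab, mul_zero, add_zero]

variable (h : KD K0)
include h

/-- all transvections are conjugate under `K0` -/
theorem tv_cj {a b : V} {k l : K} (a0 : a ≠ 0) (b0 : b ≠ 0) (ha : H a a = 0) (hb : H b b = 0)
    (hk : ∀ x, σ k x = x + H x a • a) (hl : ∀ x, σ l x = x + H x b • b) : ∃ g ∈ K0, g * k * g⁻¹ = l := by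
  have key : ∀ {a b : V} {k l : K}, H a a = 0 → H b b = 0 → (∀ x, σ k x = x + H x a • a) →
      (∀ x, σ l x = x + H x b • b) → H a b ≠ 0 → ∃ g ∈ K0, g * k * g⁻¹ = l := by
    intro a b k l ha hb hk hl ab
    have e := N.tv_cube F ha hb hk hl ab
    refine ⟨k * l, h.odd_mem (by decide) e, ?_⟩
    have e1 := N.tv_sq F ha hk
    have e2 := N.tv_sq F hb hl
    rw [mul_inv_rev, inv_eq_of_mul_eq_one_right e1, inv_eq_of_mul_eq_one_right e2]
    calc k * l * k * (l * k) = k * l * k * (l * k) * (l * l) := by rw [e2, mul_one]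
      _ = (k * l) ^ 3 * l := by simp only [pow_succ, pow_zero, one_mul, mul_assoc]
      _ = l := by rw [e, one_mul]
  by_cases ab : H a b = 0
  · obtain ⟨c, hc, c1, c2⟩ := ex_link N F a0 b0 ha ab
    obtain ⟨m, hm⟩ := N.tv c hc
    obtain ⟨g, hg, rfl⟩ := key ha hc hk hm c1
    obtain ⟨g', hg', rfl⟩ := key hc hb hm hl c2
    exact ⟨g' * g, mul_mem hg' hg, by group⟩
  · exact key ha hb hk hl ab

theorem tv_mem {a : V} {k : K} (ha : H a a = 0) (hk : ∀ x, σ k x = x + H x a • a) : k ∈ K0 := by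
  have := F.fin
  by_cases a0 : a = 0
  · rw [F.faith k fun x => by rw [hk, a0, smul_zero, add_zero]]; exact one_mem _
  by_contra c
  obtain ⟨f, ff, af⟩ := N.hyp F a0 ha
  obtain ⟨b, hb, b0, bb⟩ := N.ex_sing F (P := pp q (sp ⊥ a) ⊓ pp q (sp ⊥ f)) (by
    have := finrank_inf_ge (pp q (sp ⊥ a)) (pp q (sp ⊥ f)) ⊤ le_top le_top
    have := Uni.fr_pp_pt F a
    have := Uni.fr_pp_pt F f
    rw [finrank_top, F.h8] at *
    omega)
  have ab := N.mem_pp_pt.1 hb.1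
  have bf := N.s0 (N.mem_pp_pt.1 hb.2)
  have out : ∀ p, p ≠ 0 → H p p = 0 → ∃ l, l ∉ K0 ∧ ∀ x, σ l x = x + H x p • p := fun p p0 hp => by
    obtain ⟨l, hl⟩ := N.tv p hp
    obtain ⟨g, -, e⟩ := tv_cj N F h p0 a0 hp ha hl hk
    exact ⟨l, fun m => c (e ▸ h.nrm.conj_mem l m g), hl⟩
  have o2 : ∀ s : F4, ∃ l, l ∉ K0 ∧ ∀ x, σ l x = x + H x (a + s • b) • (a + s • b) := fun s =>
    out _ (fun e => by
      have := congrArg (H · f) e
      simp only [N.addl, N.smull, af, bf, N.zl] at this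
      simp at this) (by simp [N.addl, N.addr, N.smull, N.smulr, ha, bb, ab, N.s0 ab])
  obtain ⟨l1, m1, e1⟩ := out b b0 bb
  obtain ⟨l2, m2, e2⟩ := o2 1
  obtain ⟨l3, m3, e3⟩ := o2 F4.w
  obtain ⟨l4, m4, e4⟩ := o2 F4.v
  have : k * (l1 * l2 * (l3 * l4)) = 1 := F.faith _ fun x => by
    simp only [app_mul, hk, e1, e2, e3, e4, N.addl, N.addr, N.smull, N.smulr, ha, bb, ab, N.s0 ab]
    generalize H x a = s, H x b = t
    match_scalars <;> (revert s t; decide)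
  exact c (eq_inv_of_mul_eq_one_left this ▸ inv_mem (mul_mem (h.idx _ _ m1 m2) (h.idx _ _ m3 m4)))

theorem no_fix {x : V} (hx : ∀ k ∈ K0, σ k x = x) : x = 0 := by
  have := F.fin
  obtain ⟨a, -, a0, ha⟩ := N.ex_sing F (P := ⊤) (by rw [finrank_top, F.h8]; norm_num)
  refine N.span F a0 ha fun k hk => ?_
  have e : H (σ k a) (σ k a) = 0 := by rw [N.iso F hk, ha]
  obtain ⟨l, hl⟩ := N.tv _ e
  have := hx l (tv_mem N F h e hl)
  rw [hl, add_eq_left, smul_eq_zero] at this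
  exact this.resolve_right fun c => a0 ((app_eq_zero σ).1 c)

omit h

theorem tv_of_le {τ : K} (hτ : τ ∈ Lin σ) (ττ : τ * τ = 1) (τ1 : τ ≠ 1) (h3 : finrank (ZMod 2) (Mv σ τ) ≤ 3) :
    ∃ v, v ≠ 0 ∧ H v v = 0 ∧ ∀ x, σ τ x = x + H x v • v := by
  have := F.fin
  obtain ⟨v, hv, v0⟩ := ex_mv F τ1
  have vv : H v v = 0 := by
    have := (mem_Fx σ).1 (Mv_le_Fx ττ hv)
    obtain ⟨y, rfl⟩ := mem_Mv.1 hv
    exact N.H_mv F hτ this y
  refine ⟨v, v0, vv, (N.tv_of F v0 vv hτ fun x hx => fix_of F fun y => ?_).resolve_left τ1⟩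
  obtain ⟨c, e⟩ := (inv_Mv hτ).mem_pt h3 hv v0 (mv_mem τ y)
  exact N.b_of (by rw [e, N.smulr, hx, mul_zero])

theorem swap {a b : V} (ha : H a a = 0) (hb : H b b = 0) (ab : H a b = 1) : ∃ k ∈ Lin σ, σ k a = b := by
  obtain ⟨k, hk⟩ := N.tv (a + b) (by rw [N.addl, N.addr, N.addr, ha, hb, ab, N.s1 ab]; decide)
  exact ⟨k, N.lin_of hk, by rw [hk, N.addr, ha, ab, zero_add, one_smul, aab]⟩

theorem urot {τ : K} (h2 : finrank (ZMod 2) (Mv σ τ) ≤ 2) (hq : ∀ u ∈ Mv σ τ, q u = 0) {v : V}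
    (hv : v ∈ Mv σ τ) (v0 : v ≠ 0) : ∃ k, k * τ = τ * k ∧ σ (k ^ 4) v ≠ v := by
  have := F.fin
  have hτ : τ ∈ Lin σ := lin_of_five N F (W := Fx σ τ) (by have := fr_Fx F τ; omega) fun x => (mem_Fx σ).1
  have vv := (N.q0 v).1 (hq v hv)
  obtain ⟨f, ff, vf⟩ := N.hyp F v0 vv
  obtain ⟨a, ha, a0, aa'⟩ := N.ex_sing F (P := pp q (sp ⊥ v) ⊓ pp q (sp ⊥ f)) (by
    have := finrank_inf_ge (pp q (sp ⊥ v)) (pp q (sp ⊥ f)) ⊤ le_top le_top
    have := Uni.fr_pp_pt F v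
    have := Uni.fr_pp_pt F f
    rw [finrank_top, F.h8] at *
    omega)
  have av := N.s0 (N.mem_pp_pt.1 ha.1)
  have af := N.s0 (N.mem_pp_pt.1 ha.2)
  obtain ⟨b, bb, bv, bf, ab⟩ := N.hyp2 F vv ff vf a0 aa' av af
  have gg : H (v + F4.w • f + (a + F4.w • b)) (v + F4.w • f + (a + F4.w • b)) = 0 := by
    simp only [N.addl, N.addr, N.smull, N.smulr, vv, ff, vf, N.s1 vf, av, af, bv, bf, N.s0 av, N.s0 af,
      N.s0 bv, N.s0 bf, aa', bb, ab, N.s1 ab]
    decide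
  obtain ⟨k1, l1, e1⟩ := swap N F vv ff vf
  obtain ⟨k2, l2, e2⟩ := swap N F ff gg (by
    simp only [N.addr, N.smulr, ff, N.s1 vf, N.s0 af, N.s0 bf]; decide)
  obtain ⟨k3, l3, e3⟩ := swap N F gg (b := F4.w • v) (by rw [N.smull, N.smulr, vv]; simp) (by
    simp only [N.addl, N.smull, N.smulr, vv, N.s1 vf, av, bv]; decide)
  have l := mul_mem (mul_mem l3 l2) l1
  have e : σ (k3 * k2 * k1) v = F4.w • v := by rw [app_mul, app_mul, e1, e2, e3]
  generalize k3 * k2 * k1 = k at l e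
  refine ⟨k, comm_of_norm F h2 hq (fun x hx => by rwa [pp_Mv F, mem_Fx] at hx) fun x hx => ?_, fun c => ?_⟩
  · obtain ⟨c, rfl⟩ := (inv_Mv hτ).mem_pt (by omega) hv v0 hx
    rw [lin_smul l, e]
    exact (inv_Mv hτ).smul c (inv_Mv hτ v hv)
  · simp only [pow_succ, pow_zero, one_mul, app_mul, e, lin_smul l, smul_smul] at c
    exact absurd (smul_inj v0 (c.trans (one_smul F4 v).symm)) (by decide)

theorem uS {P : Submodule (ZMod 2) V} (h4 : 4 ≤ finrank (ZMod 2) P) (hq : ∀ x ∈ P, q x = 0) {Y : Subgroup K}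
    (hY : ∀ y ∈ Y, ∀ x ∈ P, σ y x = x) : Nat.card Y ≤ 16 := by
  have := F.fin
  have := finK F
  have f8 := fr_pp F P
  have pP : pp q P ≤ P := fun x hx => mem_of_le (le_perp hq) (by change finrank (ZMod 2) (pp q P) ≤ _; omega) hx
  have h4' := sing_le_four F.nd F.h8 hq
  by_cases hP : H9.WC.Inv P
  · have hL : Y ≤ Lin σ := fun y hy => by
      obtain ⟨x, hx, x0⟩ := exists_ne_zero (B := P) (by omega)
      exact lin_of_pair N x0 (hY y hy x hx) (hY y hy _ (hP x hx))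
    obtain ⟨x, -, hx⟩ := exists_not_mem (A := P) (B := ⊤) (by rw [finrank_top, F.h8]; omega)
    have h1 := card_le_stab (σ := σ) Y x (P ⊓ p1 q x) fun y hy => by
      have : σ y x + x ∈ P := pP (mv_pp F (hY y hy) x)
      exact ⟨this, mem_p1.2 (by rw [← q_mv F, hq _ this])⟩
    have h2 : finrank (ZMod 2) (P ⊓ p1 q x : Submodule (ZMod 2) V) < finrank (ZMod 2) P := by
      obtain ⟨e, he, he'⟩ := exists_pp F hx
      exact finrank_lt_of inf_le_left (pP he) fun c => by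
        rw [polar_comm, mem_p1.1 c.2] at he'
        exact absurd he' (by decide)
    have h3 := N.card_two F (hP.sp x) (by rw [hP.fr_sp hx]; omega)
      (fun e he => hq e (pP (pp_anti (le_sp _ _) he)))
      (Y := Y ⊓ stab σ x) (inf_le_left.trans hL) fun y hy a ha => by
        obtain ⟨c, hc⟩ := mem_sp.1 ha
        have := hY y hy.1 _ hc
        rw [map_add, lin_smul (hL hy.1), mem_stab.1 hy.2] at this
        exact add_right_cancel this
    have h6 : 2 ^ finrank (ZMod 2) (P ⊓ p1 q x : Submodule (ZMod 2) V) ≤ 2 ^ 3 :=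
      Nat.pow_le_pow_right (by norm_num) (by omega)
    exact h1.trans (Nat.mul_le_mul h6 h3)
  · have iW : H9.WC.Inv (P ⊔ P.map om) := fun x hx => by
      obtain ⟨a, ha, _, ⟨b, hb, rfl⟩, rfl⟩ := Submodule.mem_sup.1 hx
      rw [smul_add, om_apply, ww_smul]
      exact add_mem (Submodule.mem_sup_right ⟨a, ha, rfl⟩)
        (add_mem (Submodule.mem_sup_right ⟨b, hb, rfl⟩) (Submodule.mem_sup_left hb))
    simp only [H9.WC.Inv, not_forall] at hP
    obtain ⟨x, hx, hx'⟩ := hP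
    have h1 := finrank_lt_of (A := P) (B := P ⊔ P.map om) le_sup_left (Submodule.mem_sup_right ⟨x, hx, rfl⟩) hx'
    have h2 := N.card_two F iW (inv_six iW (by omega)) (fun e he => hq e (pP (pp_anti le_sup_left he)))
      (Y := Y ⊓ Lin σ) inf_le_right fun y hy x hx => by
        obtain ⟨a, ha, _, ⟨b, hb, rfl⟩, rfl⟩ := Submodule.mem_sup.1 hx
        rw [map_add, om_apply, hy.2 b, hY y hy.1 a ha, hY y hy.1 b hb]
    have h3 := card_le_idx2 Y (Lin σ) N.idx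
    omega

include h in
theorem tv_full {τ : K} {Xs Φ : Submodule (ZMod 2) V} (P : PD σ q K0 τ Xs Φ) {v : V} (v0 : v ≠ 0)
    (vv : H v v = 0) (hv : ∀ x, σ τ x = x + H x v • v) {x : V} (hx : σ τ x = x) : x ∈ Φ := by
  have fx : ∀ x, σ τ x = x ↔ H x v = 0 := fun x => by
    rw [hv, add_eq_left, smul_eq_zero, or_iff_left v0]
  have pt : ∀ c : F4, c • v ∈ Φ := fun c => by
    obtain ⟨y, hy⟩ := N.ex_H F v0 c
    have := P.MΦ y
    rwa [hv, aba, hy] at this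
  have dual : ∀ a, (¬ ∃ c : F4, a = c • v) → ∃ y, H y v = 0 ∧ H y a = 1 := fun a ha => by
    by_contra c
    push Not at c
    refine ha (N.pt_of F v0 fun y hy => ?_)
    by_contra n
    exact c ((H y a)⁻¹ • y) (by rw [N.smull, hy, mul_zero]) (by rw [N.smull, inv_mul_cancel₀ n])
  have iso : ∀ a, H a v = 0 → H a a = 0 → a ∈ Φ := fun a av ha => by
    by_cases c : ∃ c : F4, a = c • v
    · obtain ⟨c, rfl⟩ := c
      exact pt c
    obtain ⟨y, yv, ya⟩ := dual a c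
    obtain ⟨k, hk⟩ := N.tv a ha
    have := P.inv k (tv_mem N F h ha hk) (N.tv_comm F hk hv av) y ((fx y).2 yv)
    rwa [hk, aba, ya, one_smul] at this
  rw [fx] at hx
  rcases N.self x with e | e
  · exact iso x hx e
  obtain ⟨y, yv, yx⟩ := dual x fun ⟨c, hc⟩ => by
    rw [hc, N.smull, N.smulr, vv] at e; simp at e
  have := F.fin
  obtain ⟨b, hb, b'⟩ : ∃ b ∈ pp q (sp ⊥ v) ⊓ pp q (sp ⊥ x), b ∉ sp ⊥ v := exists_not_mem (by
    have := finrank_inf_ge (pp q (sp ⊥ v)) (pp q (sp ⊥ x)) ⊤ le_top le_top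
    have := Uni.fr_pp_pt F v
    have := Uni.fr_pp_pt F x
    have := fr_pt_le v
    rw [finrank_top, F.h8] at *
    omega)
  have bv := N.s0 (N.mem_pp_pt.1 hb.1)
  have xb := N.mem_pp_pt.1 hb.2
  have two : ∀ u, H u v = 0 → H x u = 0 → H u u = 1 → x ∈ Φ := fun u uv xu uu => by
    have k : ∀ c : F4, c ≠ 0 → x + c • u ∈ Φ := fun c hc => iso _
      (by rw [N.addl, N.smull, hx, uv]; simp) (by
        rw [N.addl, N.addr, N.addr, N.smull, N.smull, N.smulr, N.smulr, e, xu, N.s0 xu, uu]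
        revert c; decide)
    have := add_mem (add_mem (k 1 (by decide)) (k F4.w (by decide))) (k F4.v (by decide))
    convert this using 1
    match_scalars <;> decide
  rcases N.self b with e' | e'
  swap
  · exact two b bv xb e'
  obtain ⟨c, cv, cb⟩ := dual b fun ⟨c, hc⟩ => b' (mem_pt.2 ⟨c, hc⟩)
  have c1 : H (c + H c x • x) v = 0 := by rw [N.addl, N.smull, cv, hx]; simp
  have c2 : H (c + H c x • x) x = 0 := by rw [N.addl, N.smull, e, mul_one, CharTwo.add_self_eq_zero]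
  have c3 : H (c + H c x • x) b = 1 := by rw [N.addl, N.smull, xb, cb]; simp
  generalize c + H c x • x = d at c1 c2 c3
  rcases N.self d with e2 | e2
  · refine two (d + F4.w • b) (by rw [N.addl, N.smull, c1, bv]; simp)
      (by rw [N.addr, N.smulr, N.s0 c2, xb]; simp) ?_
    rw [N.addl, N.addr, N.addr, N.smull, N.smull, N.smulr, N.smulr, e2, c3, N.s1 c3, e']
    decide
  · exact two d c1 (N.s0 c2) e2

include h in
theorem tv_false {τ τ' : K} {Xs Φ Φ' : Submodule (ZMod 2) V} (P : PD σ q K0 τ Xs Φ) (P' : PD σ q K0 τ' Xs Φ')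
    (ne : τ ≠ τ') (hτ : τ ∈ Lin σ) : 4 ≤ finrank (ZMod 2) (Mv σ τ) := by
  have := F.fin
  by_contra c
  obtain ⟨v, v0, vv, hv⟩ := tv_of_le N F hτ P.ττ P.τ1 (by omega)
  have h1 := P.fr F fun x hx => tv_full N F h P v0 vv hv hx
  have h2 := fr_Fx F τ
  have h3 : finrank (ZMod 2) (Mv σ τ) ≤ 2 := (Submodule.finrank_mono fun x hx => by
    obtain ⟨y, rfl⟩ := mem_Mv.1 hx
    rw [hv, aba]; exact smul_mem_sp _ _ _).trans (fr_pt_le v)
  have h4 : 2 ≤ finrank (ZMod 2) (Mv σ τ) := by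
    obtain ⟨u, hu, u0⟩ := ex_mv F P.τ1
    simpa using inv_bot.jump (inv_Mv hτ) bot_le hu (by simpa using u0)
  have l' : τ' ∈ Lin σ := lin_of_five N F (W := Xs) (by omega) fun x => P'.XF
  have h5 := inv_six ((inv_Fx hτ).inf (inv_Fx l')) (le_trans (by omega) (Submodule.finrank_mono
    (show Xs ≤ Fx σ τ ⊓ Fx σ τ' from fun x hx => ⟨(mem_Fx σ).2 (P.XF hx), (mem_Fx σ).2 (P'.XF hx)⟩)))
  refine ne (fext F fun x => ?_)
  rw [hv, (N.tv_of F v0 vv l' fun x hx => (mem_Fx σ).1 (mem_of_le (A := Fx σ τ ⊓ Fx σ τ') inf_le_left (by omega)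
    ((mem_Fx σ).2 (by rw [hv, hx, zero_smul, add_zero]))).2).resolve_left P'.τ1]

section four
variable {τ : K} (hτ : τ ∈ Lin σ) (ττ : τ * τ = 1) (h4 : 4 ≤ finrank (ZMod 2) (Mv σ τ))
include hτ ττ h4

omit N hτ in
theorem FM {x : V} (hx : σ τ x = x) : x ∈ Mv σ τ := by
  have := F.fin
  have f8 := fr_Fx F τ
  exact mem_of_le (Mv_le_Fx ττ) (by omega) ((mem_Fx σ).2 hx)

theorem HF {x y : V} (hx : σ τ x = x) (hy : σ τ y = y) : H x y = 0 := by
  obtain ⟨w, rfl⟩ := mem_Mv.1 (FM F ττ h4 hy)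
  exact N.H_mv F hτ hx w

omit h4 in
theorem βc (x y : V) : H y (σ τ x + x) = H x (σ τ y + y) * H x (σ τ y + y) := by
  rw [← N.conj, N.addr, N.addl, N.H_symm F hτ ττ]

theorem ex_iso {u : V} (uF : σ τ u = u) (u0 : u ≠ 0) : ∃ a, H a a = 0 ∧ H a (σ τ a) = 0 ∧ H a u = 1 := by
  have := F.fin
  have f8 := fr_Fx F τ
  have f4 := four_le_Fx F ττ
  have βc := βc N F hτ ττ
  obtain ⟨a0, h0, h0'⟩ : ∃ a, H a (σ τ a + a) = 0 ∧ H a u ≠ 0 := by
    obtain ⟨a, ha⟩ := N.ex_H F u0 1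
    by_cases c : H a (σ τ a + a) = 0
    · exact ⟨a, c, by rw [ha]; exact one_ne_zero⟩
    have c1 : H a (σ τ a + a) = 1 := by
      have := βc a a
      revert this c; generalize H a (σ τ a + a) = s; revert s; decide
    have aF : a ∉ Fx σ τ := fun m => by
      rw [HF N F hτ ττ h4 ((mem_Fx σ).1 m) uF] at ha; exact zero_ne_one ha
    obtain ⟨b, hb, hb'⟩ : ∃ b ∈ pp q (sp ⊥ (σ τ a + a)), b ∉ sp (Fx σ τ) a := by
      by_contra n
      push Not at n
      have := N.mem_pp_pt.1 (mem_of_le (show pp q (sp ⊥ (σ τ a + a)) ≤ _ from n) (by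
        have := Uni.fr_pp_pt F (σ τ a + a)
        have := fr_sp_le (Fx σ τ) a
        omega) (self_mem_sp _ a))
      rw [N.s1 c1] at this
      exact one_ne_zero this
    have ba := N.s0 (N.mem_pp_pt.1 hb)
    have ab : H a (σ τ b + b) = 0 := by rw [βc, ba, mul_zero]
    have c2 : H b (σ τ b + b) = 1 := by
      refine (show H b (σ τ b + b) = 0 ∨ _ by
        have := βc b b
        revert this; generalize H b (σ τ b + b) = s; revert s; decide).resolve_left fun e => ?_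
      refine hb' (le_sp _ _ ((mem_Fx σ).2 (az.1 (N.nd F fun x => ?_))))
      obtain ⟨s, hs⟩ := mem_sp.1 (mem_of_eight F (E := sp (sp (Fx σ τ) a) b) (by
        rw [((inv_Fx hτ).sp a).fr_sp hb', (inv_Fx hτ).fr_sp aF]; omega) x)
      obtain ⟨t, ht⟩ := mem_sp.1 hs
      have := N.H_mv F hτ ((mem_Fx σ).1 ht) b
      simpa [N.addl, N.smull, e, ab] using this
    obtain ⟨s, s0, hs⟩ : ∃ s : F4, s ≠ 0 ∧ 1 + s * H b u ≠ 0 := by
      generalize H b u = t; revert t; decide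
    refine ⟨a + s • b, ?_, by rwa [N.addl, N.smull, ha]⟩
    rw [map_add, lin_smul hτ, add_add_add_comm, ← smul_add, N.addl, N.smull, N.addr _ (σ τ a + a),
      N.addr _ (σ τ a + a), N.smulr, N.smulr, c1, ab, ba, c2]
    revert s0; generalize s = t; revert t; decide
  obtain ⟨a1, h1, h1'⟩ : ∃ a, H a (σ τ a + a) = 0 ∧ H a u = 1 :=
    ⟨(H a0 u)⁻¹ • a0, by rw [lin_smul hτ, ← smul_add, N.smull, N.smulr, h0]; simp, by
      rw [N.smull, inv_mul_cancel₀ h0']⟩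
  have uu := HF N F hτ ττ h4 uF uF
  obtain ⟨s, hs⟩ := N.sing_adj uu (N.s1 h1')
  have h2 : H (a1 + s • u) (σ τ (a1 + s • u) + (a1 + s • u)) = 0 := by
    rw [map_add, lin_smul hτ, uF, add_add_add_comm, aa, add_zero, N.addl, N.smull, h1, N.H_mv F hτ uF]; simp
  exact ⟨_, hs, by rwa [N.addr, hs, add_zero] at h2, by rw [N.addl, N.smull, h1', uu]; simp⟩

include h in
omit h4 in
theorem ex_dbl {a : V} (ha : H a a = 0) (ha' : H a (σ τ a) = 0) : ∃ k ∈ K0, k ∈ Lin σ ∧ k * τ = τ * k ∧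
    ∀ x, σ k x + (x + H x (σ τ a + a) • a) ∈ Fx σ τ := by
  have hb : H (σ τ a) (σ τ a) = 0 := by rw [N.iso F hτ, ha]
  obtain ⟨k, hk⟩ := N.tv a ha
  obtain ⟨l, hl⟩ := N.tv _ hb
  have hg : ∀ x, σ (k * l) x = x + H x (σ τ a) • σ τ a + H x a • a := fun x => by
    rw [app_mul, hl, hk, N.addl, N.smull, N.s0 ha', mul_zero, add_zero]
  refine ⟨k * l, mul_mem (tv_mem N F h ha hk) (tv_mem N F h hb hl), mul_mem (N.lin_of hk) (N.lin_of hl),
    fext F fun x => ?_, fun x => ?_⟩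
  · rw [app_mul, app_mul σ τ, hg, hg, map_add, map_add, lin_smul hτ, lin_smul hτ, app_two σ ττ,
      N.iso F hτ, ← N.H_symm F hτ ττ, add_right_comm]
  · convert (inv_Fx hτ).smul (H x (σ τ a)) (Mv_le_Fx ττ (mv_mem τ a)) using 1
    rw [hg, N.addr]
    generalize H x (σ τ a) = s, H x a = t
    match_scalars <;> (revert s t; decide)

include h in
theorem four_false {τ' : K} (hτ' : τ' ∈ Lin σ) (hF : ∀ x, σ τ' x = x ↔ σ τ x = x) (ne : τ ≠ τ')
    (st : ∀ k ∈ K0, k * τ = τ * k → k ^ 4 * τ' = τ' * k ^ 4) : False := by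
  have := F.fin
  have f8 := fr_Fx F τ
  have f4 := four_le_Fx F ττ
  have βc := βc N F hτ ττ
  obtain ⟨u, hu, u0⟩ := exists_ne_zero (B := Fx σ τ) (by omega)
  obtain ⟨a, a1, a2, a3⟩ := ex_iso N F hτ ττ h4 ((mem_Fx σ).1 hu) u0
  have aF : a ∉ Fx σ τ := fun m => by
    rw [HF N F hτ ττ h4 ((mem_Fx σ).1 m) ((mem_Fx σ).1 hu)] at a3; exact zero_ne_one a3
  obtain ⟨b, b1, b2, ba⟩ := ex_iso N F hτ ττ h4 ((mem_Fx σ).1 (Mv_le_Fx ττ (mv_mem τ a)))
    fun e => aF ((mem_Fx σ).2 (az.1 e))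
  have aa' : H a (σ τ a + a) = 0 := by rw [N.addr, a1, a2, add_zero]
  have bb : H b (σ τ b + b) = 0 := by rw [N.addr, b1, b2, add_zero]
  have ab : H a (σ τ b + b) = 1 := by rw [βc, ba, mul_one]
  have ττ' : τ' * τ' = 1 := sq_of_fix F (P := Fx σ τ) (by rw [pp_Fx F]; exact Mv_le_Fx ττ)
    fun x hx => (hF x).2 ((mem_Fx σ).1 hx)
  have mF : ∀ y, σ τ (σ τ' y + y) = σ τ' y + y := fun y => (hF _).1 ((mem_Fx σ).1 (Mv_le_Fx ττ' (mv_mem τ' y)))
  have nd : ∀ y, σ τ y = y → H a y = 0 → H b y = 0 → y = 0 := fun y hy ya yb => N.nd F fun x => by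
    have bF : b ∉ sp (Fx σ τ) a := fun m => by
      obtain ⟨c, hc⟩ := mem_sp.1 m
      have := N.H_mv F hτ ((mem_Fx σ).1 hc) a
      rw [N.addl, N.smull, ba, aa'] at this
      simp at this
    obtain ⟨s, hs⟩ := mem_sp.1 (mem_of_eight F (E := sp (sp (Fx σ τ) a) b) (by
      rw [((inv_Fx hτ).sp a).fr_sp bF, (inv_Fx hτ).fr_sp aF]; omega) x)
    obtain ⟨t, ht⟩ := mem_sp.1 hs
    have := HF N F hτ ττ h4 ((mem_Fx σ).1 ht) hy
    simpa [N.addl, N.smull, ya, yb] using this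
  obtain ⟨k1, m1, l1, c1, e1⟩ := ex_dbl N F h hτ ττ a1 a2
  obtain ⟨k2, m2, l2, c2', e2⟩ := ex_dbl N F h hτ ττ b1 b2
  have step : ∀ {k : K}, k * τ = τ * k → ∀ {x y z}, x + y ∈ Fx σ τ → σ k y + z ∈ Fx σ τ →
      σ k x + z ∈ Fx σ τ := fun {k} c x y z h1 h2 => by
    have h3 : σ k (x + y) ∈ Fx σ τ := by
      rw [mem_Fx] at h1 ⊢; rw [← app_eq σ c, h1]
    have := add_mem h3 h2
    rwa [map_add, add_assoc, aab] at this
  have p1 := e1 a
  have p2 := e1 b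
  have p3 := e2 a
  have p4 := e2 b
  rw [aa', zero_smul, add_zero] at p1
  rw [ba, one_smul] at p2
  rw [ab, one_smul] at p3
  rw [bb, zero_smul, add_zero] at p4
  have c : k1 * k2 * τ = τ * (k1 * k2) := by rw [mul_assoc, c2', ← mul_assoc, c1, mul_assoc]
  have ka : σ (k1 * k2) a + b ∈ Fx σ τ := by
    rw [app_mul]
    refine step c1 p3 ?_
    convert add_mem p1 p2 using 1
    rw [map_add]; apply c2; match_scalars <;> decide
  have kb : σ (k1 * k2) b + (a + b) ∈ Fx σ τ := by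
    rw [app_mul, add_comm a]; exact step c1 p4 p2
  have l := pow_mem (mul_mem l1 l2) 4
  have cm := st _ (mul_mem m1 m2) c
  generalize k1 * k2 = k at c ka kb l cm
  have kab : σ k (a + b) + a ∈ Fx σ τ := by
    convert add_mem ka kb using 1
    rw [map_add]; apply c2; match_scalars <;> decide
  have ga : σ (k ^ 4) a + b ∈ Fx σ τ := by
    simp only [pow_succ, pow_zero, one_mul, app_mul]
    exact step c (step c (step c ka kb) kab) ka
  have gb : σ (k ^ 4) b + (a + b) ∈ Fx σ τ := by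
    simp only [pow_succ, pow_zero, one_mul, app_mul]
    exact step c (step c (step c kb kab) ka) kb
  generalize k ^ 4 = g at l cm ga gb
  have iv : ∀ {x y x' y'}, σ g x + x' ∈ Fx σ τ → σ g y + y' ∈ Fx σ τ →
      H x' (σ τ' y' + y') = H x (σ τ' y + y) := fun {x y x' y'} hx hy => by
    rw [← N.iso F l x, map_add (σ g), app_eq σ cm]
    have e1 := HF N F hτ ττ h4 ((mem_Fx σ).1 hx) (mF y')
    have e2 := (hF _).2 ((mem_Fx σ).1 hy)
    rw [N.addl, add_eq_zero_iff_eq_neg, CharTwo.neg_eq] at e1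
    rw [← e1]
    congr 1
    rw [← az, add_add_add_comm, ← map_add, add_comm y', e2, aa]
  have r1 := iv ga ga
  have r2 := iv ga gb
  have r3 := _root_.H94.PF.βc N F hτ' ττ' a b
  have r4 := _root_.H94.PF.βc N F hτ' ττ' a a
  rw [map_add, add_add_add_comm, N.addr] at r2
  have cs : (H a (σ τ' a + a) = 0 ∧ H b (σ τ' a + a) = 0) ∨
      (H a (σ τ' a + a) = 0 ∧ H b (σ τ' a + a) = 1 ∧ H a (σ τ' b + b) = 1) ∨ ∃ c : F4,
      H a (σ τ' a + a) + c * c * H a (σ τ' b + b) = 0 ∧ H b (σ τ' a + a) + c * c * H b (σ τ' b + b) = 0 := by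
    revert r1 r2 r3 r4
    generalize H a (σ τ' a + a) = s, H b (σ τ' a + a) = r, H a (σ τ' b + b) = r', H b (σ τ' b + b) = s'
    revert s r r' s'; decide
  rcases cs with ⟨s1, s2⟩ | ⟨s1, s2, s3⟩ | ⟨c, s1, s2⟩
  · exact aF ((mem_Fx σ).2 ((hF a).1 (az.1 (nd _ (mF a) s1 s2))))
  · have key : ∀ y, H a (σ τ' y + y) = H a (σ τ y + y) → H b (σ τ' y + y) = H b (σ τ y + y) →
        σ τ y = σ τ' y := fun y h1 h2 => by
      have := nd (σ τ' y + y + (σ τ y + y)) (by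
        rw [map_add, mF, (mem_Fx σ).1 (Mv_le_Fx ττ (mv_mem τ y))])
        (by rw [N.addr, h1, CharTwo.add_self_eq_zero]) (by rw [N.addr, h2, CharTwo.add_self_eq_zero])
      exact (add_right_cancel (az.1 this)).symm
    have ea := key a (by rw [s1, aa']) (by rw [s2, ba])
    have eb := key b (by rw [s3, ab]) (by rw [r1, s1, bb])
    refine ne (fext F fun x => az.1 (nd _ ?_ ?_ ?_))
    · have := add_mem (Mv_le_Fx ττ (mv_mem (σ := σ) τ x)) ((mem_Fx σ).2 (mF x))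
      rwa [add_add_add_comm, aa, add_zero, mem_Fx] at this
    · rw [N.addr, N.H_symm F hτ ττ, N.H_symm F hτ' ττ', ea, CharTwo.add_self_eq_zero]
    · rw [N.addr, N.H_symm F hτ ττ, N.H_symm F hτ' ττ', eb, CharTwo.add_self_eq_zero]
  · have e : σ τ' (a + c • b) + (a + c • b) = σ τ' a + a + c • (σ τ' b + b) := by
      rw [map_add, lin_smul hτ', smul_add, add_add_add_comm]
    have := (hF _).1 (az.1 (nd _ (mF (a + c • b)) (by rw [e, N.addr, N.smulr, s1]) (by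
      rw [e, N.addr, N.smulr, s2])))
    have := N.H_mv F hτ this b
    rw [N.addl, N.smull, ab, bb] at this
    simp at this

end four

include h in
theorem uC {τ τ' : K} {Xs Φ Φ' : Submodule (ZMod 2) V} (P : PD σ q K0 τ Xs Φ) (P' : PD σ q K0 τ' Xs Φ')
    (ne : τ ≠ τ') (h3 : τ ∈ K0 ∨ τ' ∈ K0 ∨ ∃ Φ'', PD σ q K0 (τ * τ') Xs Φ'')
    (st : ∀ k ∈ K0, k * τ = τ * k → (∀ x, σ τ x = x → x ∈ Xs) → ∃ n, Odd n ∧
      (τ' * (k ^ 4 * τ' * (k ^ 4)⁻¹)) ^ n = 1 ∧ ∀ x ∈ Xs, σ (k ^ 4 * τ' * (k ^ 4)⁻¹) x = x) : False := by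
  have := F.fin
  have K0L : K0 ≤ Lin σ := h.le_of_pow (n := 2) (fun k _ r _ hr => by
    by_cases c : k ∈ Lin σ
    · exact mul_mem (mul_mem c hr) (inv_mem c)
    · exact N.idx _ _ (fun m => c ((mul_mem_cancel_right hr).1 m)) fun m => c (inv_mem_iff.1 m))
    (by norm_num) fun k _ => by
      rw [pow_two]
      by_cases c : k ∈ Lin σ
      exacts [mul_mem c c, N.idx _ _ c c]
  have full : ∀ {τ Φ}, PD σ q K0 τ Xs Φ → τ ∈ Lin σ → 4 ≤ finrank (ZMod 2) (Mv σ τ) →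
      ∀ x, σ τ x = x → x ∈ Xs := fun P l h4 x hx =>
    (P.M_iff (FM F P.ττ h4 hx)).2 ((N.q0 x).2 (HF N F l P.ττ h4 hx hx))
  have lin : ∀ {τ Φ}, PD σ q K0 τ Xs Φ → τ ∈ Lin σ → 4 ≤ finrank (ZMod 2) (Mv σ τ) →
      ∀ {τ' Φ'}, PD σ q K0 τ' Xs Φ' → τ' ∈ Lin σ := fun {τ _} P l h4 _ _ P' => by
    obtain ⟨x, hx, x0⟩ := exists_ne_zero (B := Fx σ τ) (by have := four_le_Fx F P.ττ; omega)
    exact lin_of_pair N x0 (P'.XF (full P l h4 x ((mem_Fx σ).1 hx)))
      (P'.XF (full P l h4 _ ((mem_Fx σ).1 (inv_Fx l x hx))))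
  have l : τ ∈ Lin σ ∧ τ' ∈ Lin σ := by
    rcases h3 with m | m | ⟨Φ'', P''⟩
    · exact ⟨K0L m, lin P (K0L m) (tv_false N F h P P' ne (K0L m)) P'⟩
    · exact ⟨lin P' (K0L m) (tv_false N F h P' P ne.symm (K0L m)) P, K0L m⟩
    by_cases c : τ ∈ Lin σ
    · exact ⟨c, lin P c (tv_false N F h P P' ne c) P'⟩
    by_cases c' : τ' ∈ Lin σ
    · exact ⟨lin P' c' (tv_false N F h P' P ne.symm c') P, c'⟩
    have l := N.idx _ _ c c'
    exact absurd (lin P'' l (tv_false N F h P'' P (by simpa using P'.τ1) l) P) c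
  have h4 := tv_false N F h P P' ne l.1
  have h4' := tv_false N F h P' P ne.symm l.2
  refine four_false N F h l.1 P.ττ h4 l.2 (fun x => ⟨fun hx => P.XF (full P' l.2 h4' x hx),
    fun hx => P'.XF (full P l.1 h4 x hx)⟩) ne fun k hk c => ?_
  obtain ⟨n, hn, e, hx⟩ := st k hk c (full P l.1 h4)
  have := one_of_odd F (P := Xs) (fun x hx => full P l.1 h4 x ((mem_Fx σ).1 (Mv_le_Fx P.ττ (by
    rw [← pp_Fx F]; exact pp_anti (fun y hy => full P l.1 h4 y ((mem_Fx σ).1 hy)) hx))))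
    (fun x hx' => by rw [app_mul, hx x hx', P'.XF hx']) hn e
  rw [mul_eq_one_iff_inv_eq, inv_eq_of_mul_eq_one_right P'.ττ] at this
  exact of_cj this.symm

end H94.PF
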