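import Cfsg.Agent.Lib.PF94.Split
import Cfsg.Agent.Lib.Comp.Quasisimple
import Cfsg.Agent.Lib.Fischer.LocQuot
import Cfsg.Agent.S1713

/-!
The centre of order four: the fused case, and the construction of the linearised setting.
-/

set_option autoImplicit false

namespace H94.PF

open Module H95 H4.LX H9.WC QuadraticMap Subgroup Cfsg H69
open H73.FD (cj_mul cj_inj Pr)
open H30 (F4)

universe u

variable {G : Type u} [Group G] {V : Type u} [AddCommGroup V] [Module (ZMod 2) V]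
  {K : Type*} [Group K] {K0 : Subgroup K}

theorem cover {M W : Subgroup G} {X : Type*} [Group X] (hX : Group.IsPerfect X) (f : M →* X)
    (hf : Function.Surjective f) (hk : ∀ x : M, f x = 1 ↔ (x : G) ∈ W) {g : G} (hg : g ∈ M) :
    ∃ l ∈ ⁅M, M⁆, l⁻¹ * g ∈ W := by
  have : f ⟨g, hg⟩ ∈ (commutator M).map f := by
    rw [commutator_def, map_commutator, map_top_of_surjective f hf, ← commutator_def, hX.commutator_eq_top]; trivial
  obtain ⟨l, hl, e⟩ := this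
  refine ⟨l, ?_, (hk (l⁻¹ * ⟨g, hg⟩)).1 (by rw [map_mul, map_inv, e, inv_mul_cancel])⟩
  rw [← map_subtype_commutator]
  exact ⟨l, hl, rfl⟩

theorem quasi {d : G} {X : Type*} [Group X] (hX : IsQuasisimple X) (f : centralizer ({d} : Set G) →* X)
    (hf : Function.Surjective f) (hk : ∀ x, f x = 1 ↔ (x : G) ∈ zpowers d)
    (hd : d ∈ ⁅centralizer ({d} : Set G), centralizer ({d} : Set G)⁆) : IsQuasisimple (centralizer ({d} : Set G)) := by
  refine H23.IsQuasisimple.of_ker_le_center hf (fun x hx => mem_center_iff.2 fun g => Subtype.ext ?_) ?_ hX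
  · obtain ⟨k, e⟩ := (hk x).1 hx
    rw [coe_mul, coe_mul, ← e]
    exact ((Commute.zpow_right (mem_cent_iff.1 g.2) k)).eq
  · refine isPerfect_iff.2 (le_antisymm (commutator_le_self _) fun g hg => ?_)
    obtain ⟨l, hl, m⟩ := cover hX.1 f hf hk hg
    exact (mul_mem_cancel_left (inv_mem hl)).1 (zpowers_le.2 hd m)

theorem quasi_psu : IsQuasisimple (PSU 6 F4 2) := by
  obtain ⟨_, a, b, h⟩ := H56.psu_not_comm (F := F4) rfl
  exact H23.isQuasisimple_of_isSimpleGroup fun c => h (c.is_comm.comm a b)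

theorem Fo.caseA [Finite G] {C : Cx G V K0} {d : G} (F : Fo C d) {s : G} (hs : s * C.z = C.z * s)
    (hs' : s * d * s⁻¹ = d * C.z) : Zp 1 C.z ∨ Spor.IsoFi22 G := by
  by_cases h : Zp d C.z
  · refine Or.inl (F.allZ h ?_)
    have := h.conj s
    rwa [hs', cj_of hs] at this
  obtain ⟨L, f, h1, -, h2, h3, h4, -⟩ := F.ud h
  rw [(relIndex_eq_one (H := K0)).2 (by
    rintro _ ⟨a, ha, ha', rfl⟩
    exact F.mem_K0 hs hs' (C.Az a ha') (mem_cent_iff.1 ha)), relIndex_eq_one] at h2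
  obtain rfl := le_antisymm h1 h2
  by_cases c : d ∈ ⁅centralizer ({d} : Set G), centralizer ({d} : Set G)⁆
  · exact Or.inr (Cfsg.Agent.S1713.result d (orderOf_eq_two_of F.dd F.d1) (quasi quasi_psu f h3 h4 c) F4 rfl
      ((QuotientGroup.quotientMulEquivOfEq (Subgroup.ext fun x => (h4 x).symm)).trans
        (QuotientGroup.quotientKerEquivOfSurjective f h3))
      ⟨s, by rw [hs']; exact mem_cent_iff.2 (C.Zc F.dZ (C.ZJ F.swap.dZ)), by simpa [hs'] using C.z1⟩)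
  refine (F.split (L := ⁅centralizer ({d} : Set G), centralizer ({d} : Set G)⁆) ⟨fun g hg l hl => ?_, c,
    fun g hg => ?_, fun a b ha hb => commutator_mem_commutator (mem_cent_iff.2 ha) (mem_cent_iff.2 hb),
    fun l hl => mem_cent_iff.1 (commutator_le_self _ hl)⟩ (fun N hN => commutator_le.2 fun a _ b _ => hN a b)
    hs hs' h).elim
  · have := cj_mem g hl
    rwa [cj_commutator, cj_eq_of_mem (mem_cent_iff.2 hg)] at this
  · obtain ⟨l, hl, m⟩ := cover (W := zpowers d) quasi_psu.1 f h3 h4 (g := g) (mem_cent_iff.2 hg)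
    refine ((mem_zpowers_iff_of_sq F.dd).1 m).imp (fun e => by rwa [← inv_mul_eq_one.1 e]) fun e => ?_
    rwa [inv_mul_eq_iff_eq_mul.1 e, mul_assoc, F.dd, mul_one]

theorem exists_cx [Finite G] {A J Z E : Subgroup G} {z : G} (hE : ES E z) (h9 : Nat.card E = 2 ^ 9)
    (EJ : E ≤ J) (ZJ : Z ≤ J) (zZ : z ∈ Z) (hJ : ∀ x ∈ J, ∃ e ∈ E, ∃ u ∈ Z, x = e * u)
    (Zsq : ∀ u ∈ Z, u * u = 1) (Zc : ∀ u ∈ Z, ∀ x ∈ J, x * u = u * x) (JA : J ≤ A)
    (Az : ∀ a ∈ A, a * z = z * a) (nH : ∀ h, h * z = z * h → ∀ x ∈ J, h * x * h⁻¹ ∈ J) (φ : A →* K)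
    (hφ : Function.Surjective φ) (hk : ∀ a, φ a = 1 ↔ (a : G) ∈ J) (kd : KD K0)
    (cA : ∀ g, (∀ u ∈ Z, g * u = u * g) → g ∈ A) (cJ : ∀ g, (∀ x ∈ J, g * x = x * g) → g ∈ J)
    (ex6 : ∀ h, h * z = z * h → ∀ u ∈ Z, h ^ 6 * u = u * h ^ 6)
    (two : ∀ R : Subgroup G, IsPGroup 2 R → (∀ a ∈ R, a * z = z * a) → ∀ a ∈ R, ∀ b ∈ R,
      (∃ u ∈ Z, a * u ≠ u * a) → (∃ u ∈ Z, b * u ≠ u * b) → ∀ u ∈ Z, a * b * u = u * (a * b)) :
    ∃ (V : Type u) (_ : AddCommGroup V) (_ : Module (ZMod 2) V) (C : Cx G V K0),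
      C.A = A ∧ C.J = J ∧ C.Z = Z ∧ C.z = z ∧ C.imK ⊤ = ⊤ := by
  classical
  obtain ⟨V, _, _, ⟨P⟩⟩ := hE.top.exists_pres
  have := P.finite_space
  have hJ' : ∀ x, ∃ e : E, x ∈ J → ∃ u ∈ Z, x = e * u := fun x => by
    by_cases h : x ∈ J
    · obtain ⟨e, he, h⟩ := hJ x h
      exact ⟨⟨e, he⟩, fun _ => h⟩
    · exact ⟨1, fun c => absurd c h⟩
  choose s hs using hJ'
  let π : G → V := fun x => P.π (s x)
  have mJ : ∀ (e : E) u, u ∈ Z → e * u ∈ J := fun e u hu => mul_mem (EJ e.2) (ZJ hu)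
  have k0 : ∀ e : E, P.π e = 0 ↔ (e : G) ∈ Z := fun e => by
    rw [P.ker, Subtype.ext_iff, Subtype.ext_iff]
    exact ⟨fun h => h.elim (fun e' => e' ▸ one_mem _) fun e' => e' ▸ zZ,
      fun h => hE.nondeg e e.2 fun y hy => (Zc e h y (EJ hy)).symm⟩
  have hπ : ∀ (e : E) u, u ∈ Z → π (e * u) = P.π e := fun e u hu => by
    obtain ⟨v, hv, h⟩ := hs _ (mJ e u hu)
    have : P.π ((s (e * u))⁻¹ * e) = 0 := (k0 _).2 (by
      have : ((s (e * u) : G))⁻¹ * e = v * u⁻¹ := by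
        rw [inv_mul_eq_iff_eq_mul, ← mul_assoc, ← h, mul_inv_cancel_right]
      rw [coe_mul, coe_inv, this]; exact mul_mem hv (inv_mem hu))
    rwa [P.π_mul, P.π_inv, az] at this
  have sw : ∀ (a b : E) u v, u ∈ Z → a * u * (b * v) = (a * b : E) * (u * v) := fun a b u v hu => by
    rw [coe_mul, mul_assoc, ← mul_assoc u, ← Zc u hu b (EJ b.2)]; group
  have π_mul : ∀ x ∈ J, ∀ y ∈ J, π (x * y) = π x + π y := fun x hx y hy => by
    obtain ⟨a, ha, u, hu, rfl⟩ := hJ x hx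
    obtain ⟨b, hb, v, hv, rfl⟩ := hJ y hy
    rw [sw ⟨a, ha⟩ ⟨b, hb⟩ u v hu, hπ _ _ (mul_mem hu hv), hπ ⟨a, ha⟩ _ hu, hπ ⟨b, hb⟩ _ hv, P.π_mul]
  have π_surj : ∀ v, ∃ x ∈ J, π x = v := fun v => by
    obtain ⟨e, rfl⟩ := P.surj v
    exact ⟨_, mJ e 1 (one_mem _), hπ e 1 (one_mem _)⟩
  have π_zero : ∀ x ∈ J, (π x = 0 ↔ x ∈ Z) := fun x hx => by
    obtain ⟨a, ha, u, hu, rfl⟩ := hJ x hx
    rw [hπ ⟨a, ha⟩ _ hu, k0, mul_mem_cancel_right hu]
  have sq : ∀ (a : E) u, u ∈ Z → a * u * (a * u) = a * a := fun a u hu => by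
    rw [sw a a u u hu, Zsq u hu, mul_one, coe_mul]
  have cm : ∀ (a b : E) u v, u ∈ Z → v ∈ Z → ∀ w : G, a * u * (b * v) = b * v * (a * u) * w ↔
      (a : G) * b * (u * v) = b * a * (u * v) * w := fun a b u v hu hv w => by
    rw [sw a b u v hu, sw b a v u hv, Zc u hu v (ZJ hv)]; rfl
  have q_π : ∀ x ∈ J, (P.q (π x) = 0 ↔ x * x = 1) := fun x hx => by
    obtain ⟨a, ha, u, hu, rfl⟩ := hJ x hx
    rw [hπ ⟨a, ha⟩ _ hu, sq ⟨a, ha⟩ u hu, ← P.sq_eq_one_iff, Subtype.ext_iff]; rfl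
  have b_π : ∀ x ∈ J, ∀ y ∈ J, (polar P.q (π x) (π y) = 0 ↔ x * y = y * x) := fun x hx y hy => by
    obtain ⟨a, ha, u, hu, rfl⟩ := hJ x hx
    obtain ⟨b, hb, v, hv, rfl⟩ := hJ y hy
    have := cm ⟨a, ha⟩ ⟨b, hb⟩ u v hu hv 1
    rw [mul_one, mul_one, mul_left_inj] at this
    rw [hπ ⟨a, ha⟩ _ hu, hπ ⟨b, hb⟩ _ hv, this, ← P.commute_iff, Subtype.ext_iff]; rfl
  have cm' : ∀ x ∈ J, ∀ y ∈ J, x * y = y * x ∨ x * y = y * x * z := fun x hx y hy => by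
    obtain ⟨a, ha, u, hu, rfl⟩ := hJ x hx
    obtain ⟨b, hb, v, hv, rfl⟩ := hJ y hy
    have := cm ⟨a, ha⟩ ⟨b, hb⟩ u v hu hv 1
    rw [mul_one, mul_one, mul_left_inj] at this
    rw [this, cm ⟨a, ha⟩ ⟨b, hb⟩ u v hu hv, mul_assoc _ _ z, Zc z zZ _ (ZJ (mul_mem hu hv)), ← mul_assoc _ z,
      mul_left_inj]
    exact hE.comm a ha b hb
  have π_eq : ∀ x ∈ J, ∀ y ∈ J, (π x = π y ↔ x⁻¹ * y ∈ Z) := fun x hx y hy => by
    have h1 := π_mul _ hx _ (mul_mem (inv_mem hx) hy)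
    rw [mul_inv_cancel_left] at h1
    rw [← π_zero _ (mul_mem (inv_mem hx) hy), h1, left_eq_add]
  have cZ : ∀ x ∈ J, (∀ y ∈ J, x * y = y * x) → x ∈ Z := fun x hx h =>
    (π_zero x hx).1 (P.nondeg_of_ES hE.top _ fun v => by
      obtain ⟨y, hy, rfl⟩ := π_surj v
      exact (b_π _ hx _ hy).2 (h y hy))
  have nZ : ∀ h, h * z = z * h → ∀ u ∈ Z, h * u * h⁻¹ ∈ Z := fun h hh u hu =>
    cZ _ (nH h hh u (ZJ hu)) fun y hy => by
      simpa [mul_assoc] using cj_comm (g := h) (Zc u hu _ (nH h⁻¹ (comm_inv hh) y hy)).symm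
  choose r hr hr' using π_surj
  have wd : ∀ a ∈ A, ∀ x ∈ J, π (a * r (π x) * a⁻¹) = π (a * x * a⁻¹) := fun a ha x hx => by
    rw [π_eq _ (nH a (Az a ha) _ (hr _)) _ (nH a (Az a ha) _ hx), conj_inv, cj_mul]
    exact nZ a (Az a ha) _ ((π_eq _ (hr _) _ hx).1 (hr' _))
  let T : A → Module.End (ZMod 2) V := fun a => (AddMonoidHom.mk' (fun v => π (a * r v * (a : G)⁻¹)) fun v w => by
    rw [← π_mul _ (nH a (Az a a.2) _ (hr _)) _ (nH a (Az a a.2) _ (hr _)), cj_mul,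
      ← wd a a.2 _ (mul_mem (hr v) (hr w)), π_mul _ (hr v) _ (hr w), hr', hr']).toZModLinearMap 2
  have hT : ∀ (a : A), ∀ x ∈ J, T a (π x) = π (a * x * (a : G)⁻¹) := fun a x hx => wd a a.2 x hx
  have ext : ∀ {f g : Module.End (ZMod 2) V}, (∀ x ∈ J, f (π x) = g (π x)) → f = g := fun h =>
    LinearMap.ext fun v => hr' v ▸ h _ (hr v)
  have hT' : ∀ a b : A, φ a = φ b → T a = T b := fun a b e => ext fun x hx => by
    have j := (hk (b⁻¹ * a)).1 (by rw [map_mul, map_inv, e, inv_mul_cancel])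
    rw [hT a x hx, hT b x hx, show (a : G) = b * (b⁻¹ * a : A) by simp, ← cj_cj', ← hT b _ (nH _ (Az _ (JA j)) x hx),
      ← hT b x hx, π_mul _ (mul_mem j hx) _ (inv_mem j), π_mul _ j _ hx, add_right_comm, ← π_mul _ j _ (inv_mem j),
      mul_inv_cancel, (π_zero 1 (one_mem _)).2 (one_mem _), zero_add]
  let t := Function.surjInv hφ
  have ht : ∀ k, φ (t k) = k := Function.surjInv_eq hφ
  let σ : K →* Module.End (ZMod 2) V :=
    { toFun := fun k => T (t k)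
      map_one' := (hT' _ 1 (by rw [ht, map_one])).trans (ext fun x hx => by rw [hT _ x hx]; simp)
      map_mul' := fun k l => (hT' _ (t k * t l) (by rw [map_mul, ht, ht, ht])).trans (ext fun x hx => by
        rw [Module.End.mul_apply, hT _ x hx, hT _ x hx, hT _ _ (nH _ (Az _ (t l).2) x hx), cj_cj', coe_mul]) }
  have hσ : ∀ (a : A), ∀ x ∈ J, σ (φ a) (π x) = π (a * x * (a : G)⁻¹) := fun a x hx => by
    rw [← hT a x hx, ← hT' _ a (ht _)]; rfl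
  let μ : G → K := fun g => if h : g ∈ A then φ ⟨g, h⟩ else 1
  have hμ : ∀ g (h : g ∈ A), μ g = φ ⟨g, h⟩ := fun g h => dif_pos h
  have h0 : ∀ a : A, φ a ∈ K0 → ∀ u ∈ Z, a * u = u * a := fun a ha => by
    obtain ⟨b, hb, e⟩ := kd.le_of_pow (P := ((𝐂(Z)).subgroupOf A).map φ) (n := 6) (fun k _ => by
      rintro _ - ⟨b, hb, rfl⟩
      obtain ⟨a, rfl⟩ := hφ k
      refine ⟨a * b * a⁻¹, mc.2 fun u hu => ?_, by simp⟩
      simpa [mul_assoc] using cj_comm (g := (a : G)) (mc.1 hb _ (nZ _ (comm_inv (Az a a.2)) u hu))) (by norm_num)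
      (fun k _ => by
        obtain ⟨a, rfl⟩ := hφ k
        exact ⟨a ^ 6, mc.2 (ex6 a (Az a a.2)), map_pow _ _ _⟩) ha
    have j := (hk (b⁻¹ * a)).1 (by rw [map_mul, map_inv, e, inv_mul_cancel])
    intro u hu
    simpa using comm_mul (mc.1 hb u hu) (Zc u hu _ j)
  have sq' : ∀ x ∈ J, x * x = 1 ∨ x * x = z := fun x hx => by
    obtain ⟨a, ha, u, hu, rfl⟩ := hJ x hx
    rw [sq ⟨a, ha⟩ u hu]; exact hE.sq_mem ha
  refine ⟨V, inferInstance, inferInstance, {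
    A := A, J := J, Z := Z, z := z, π := π, μ := μ, σ := σ, q := P.q
    form := ⟨inferInstance, P.nondegenerate_of_ES hE.top, P.finrank_eq h9, fun k v => ?_, fun k hk' => ?_⟩
    kd := kd, z1 := hE.ne_one, zZ := zZ, ZJ := ZJ, JA := JA, Az := Az, Zsq := Zsq, sq := sq', cm := cm', nH := nH
    π_mul := π_mul, π_surj := fun v => ⟨_, hr v, hr' v⟩, π_zero := π_zero, q_π := q_π, b_π := b_π
    μ_mul := fun a ha b hb => by rw [hμ _ ha, hμ _ hb, hμ _ (mul_mem ha hb), ← map_mul]; rfl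
    μ_surj := fun k _ => ⟨t k, (t k).2, by rw [hμ _ (t k).2, ht]⟩
    μ_one := fun a ha => by rw [hμ _ ha, hk]
    act := fun a ha x hx => by rw [hμ _ ha, hσ _ x hx]
    h0 := fun a ha m => h0 ⟨a, ha⟩ (hμ a ha ▸ m), cA := cA, ex6 := ex6, two := two }, rfl, rfl, rfl, rfl,
    eq_top_iff.2 fun k _ => ⟨t k, trivial, (t k).2, by show μ _ = _; rw [hμ _ (t k).2, ht]⟩⟩
  · obtain ⟨a, rfl⟩ := hφ k
    rw [← hr' v, hσ a _ (hr v)]
    have : ∀ a b : ZMod 2, (a = 0 ↔ b = 0) → a = b := by decide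
    refine this _ _ ?_
    rw [q_π _ (nH _ (Az a a.2) _ (hr v)), q_π _ (hr v), cj_mul, conj_eq_one_iff]
  · refine kd.two_triv (R := Fixr σ ⊤) (fun k hk' => ⟨2, ?_⟩) (fun g _ k hk' v _ => by
      rw [app_mul, app_mul, hk' _ trivial, app_inv']) k fun v _ => hk' v
    obtain ⟨a, rfl⟩ := hφ k
    have m := h0 (a * a) (by rw [map_mul]; exact kd.sq_mem _)
    rw [← map_pow, hk]
    refine cJ _ fun x hx => of_cj ?_
    have := (π_eq _ hx _ (nH _ (Az _ (a * a).2) x hx)).1 (by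
      rw [← hσ _ x hx, map_mul, app_mul, hk' _ trivial, hk' _ trivial])
    have e : ((a * a : A) : G) * x * ((a * a : A) : G)⁻¹ = x * (x⁻¹ * ((a * a : A) * x * ((a * a : A) : G)⁻¹)) := by
      group
    rw [show ((a ^ 2 ^ 2 : A) : G) = (a * a : A) * (a * a : A) by
      simp only [coe_pow, coe_mul, pow_succ, pow_zero, one_mul, mul_assoc]; norm_num [pow_succ, mul_assoc], ← cj_cj']
    generalize x⁻¹ * ((a * a : A) * x * ((a * a : A) : G)⁻¹) = u at this e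
    rw [e, ← cj_mul, e, cj_of (m u this), mul_assoc, Zsq u this, mul_one]

end H94.PF
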