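import Cfsg.Agent.Lib.PF94.Cx
import Cfsg.Agent.Lib.TwoFusion.ZStarIso
import Cfsg.Agent.Lib.Core.PCore

/-!
Commuting pairs.
-/

set_option autoImplicit false

namespace H94.PF

open Module H95 H4.LX H9.WC QuadraticMap Subgroup Cfsg H69
open H73.FD (cj_mul cj_inj)

universe u

variable {G : Type u} [Group G] {V : Type u} [AddCommGroup V] [Module (ZMod 2) V]
  {K : Type*} [Group K] {K0 : Subgroup K}

/-- `t` is isolated in the centraliser of `w` -/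
def Zp (w t : G) : Prop := ∀ c, c * w = w * c → t * (c * t * c⁻¹) = c * t * c⁻¹ * t → c * t * c⁻¹ = t

theorem eqns_pair : True := by
  have := @Zp.eq_1.{0}
  trivial

theorem Zp.conj {w t : G} (h : Zp w t) (g : G) : Zp (g * w * g⁻¹) (g * t * g⁻¹) := fun c h1 h2 => by
  have := h (g⁻¹ * c * g) (by
    calc g⁻¹ * c * g * w = g⁻¹ * (c * (g * w * g⁻¹)) * g := by group
      _ = _ := by rw [h1]; group) (by
    calc t * (g⁻¹ * c * g * t * (g⁻¹ * c * g)⁻¹) = g⁻¹ * (g * t * g⁻¹ * (c * (g * t * g⁻¹) * c⁻¹)) * g := by group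
      _ = _ := by rw [h2]; group)
  conv_rhs => rw [← this]
  group

theorem Zp.odd [Finite G] {w t : G} (h : Zp w t) (tt : t * t = 1) (t1 : t ≠ 1) (tw : t * w = w * t) :
    ∃ O : Subgroup G, Odd (Nat.card O) ∧ (∀ o ∈ O, o * w = w * o) ∧
      (∀ c, c * w = w * c → ∀ o ∈ O, c * o * c⁻¹ ∈ O) ∧ ∀ c, c * w = w * c → t * (c * t * c⁻¹) ∈ O := by
  obtain ⟨N, hN, ho, hg⟩ := H41.Isolated.zstar_exists (G := centralizer {w}) (z := ⟨t, mem_cent_iff.2 tw⟩)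
    ⟨orderOf_eq_two_of (Subtype.ext tt) fun e => t1 (congrArg Subtype.val e), fun g hg =>
      Subtype.ext (h g (mem_cent_iff.1 g.2) (congrArg Subtype.val hg))⟩
  refine ⟨N.map (centralizer {w}).subtype, by rwa [card_map_subtype], ?_, ?_, fun c hc => ?_⟩
  · rintro _ ⟨o, -, rfl⟩; exact mem_cent_iff.1 o.2
  · rintro c hc _ ⟨o, ho, rfl⟩
    exact ⟨_, hN.conj_mem o ho ⟨c, mem_cent_iff.2 hc⟩, rfl⟩
  · exact ⟨_, hg ⟨c, mem_cent_iff.2 hc⟩, by simp [inv_of_sq tt, mul_assoc]⟩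

theorem pow_card {O : Subgroup G} {o : G} (ho : o ∈ O) : o ^ Nat.card O = 1 :=
  congrArg Subtype.val (pow_card_eq_one' (G := O) (x := ⟨o, ho⟩))

/-- Glauberman's theorem -/
theorem zstar [Finite G] {z : G} (zz : z * z = 1) (z1 : z ≠ 1) (h : Zp 1 z) :
    centralizer {z} ⊔ oddCore G = ⊤ := by
  rw [eq_top_iff]
  intro g _
  have m : z * (g * z * g⁻¹) ∈ oddCore G := by
    simpa [inv_of_sq zz, mul_assoc] using H41.Isolated.zstar (z := z) ⟨orderOf_eq_two_of zz z1, fun g hg =>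
      h g (by simp) hg⟩ g
  obtain ⟨n, hn⟩ := H9.exists_pow_conj_of_odd zz (H73.FD.cj_sq zz)
    (H1.odd_card_oddCore.of_dvd_nat (orderOf_dvd_natCard _ m))
  have m' := pow_mem m n
  generalize (z * (g * z * g⁻¹)) ^ n = y at hn m'
  rw [show g = y * (y⁻¹ * g) by group]
  refine mul_mem (mem_sup_right m') (mem_sup_left (mem_cent_iff.2 ?_))
  calc y⁻¹ * g * z = y⁻¹ * (g * z * g⁻¹) * g := by group
    _ = _ := by rw [← hn]; group

theorem zp_of_sup [Finite G] {z : G} (zz : z * z = 1) (h : centralizer {z} ⊔ oddCore G = ⊤) : Zp 1 z := by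
  intro g _ hg
  have : (oddCore G).Normal := inferInstance
  obtain ⟨o, ho, c, hc, rfl⟩ : ∃ o ∈ oddCore G, ∃ c ∈ centralizer {z}, g = o * c := by
    have : g ∈ ((oddCore G ⊔ centralizer {z} : Subgroup G) : Set G) := by rw [sup_comm, h]; trivial
    rw [normal_mul] at this
    obtain ⟨o, ho, c, hc, e⟩ := this
    exact ⟨o, ho, c, hc, e.symm⟩
  rw [show o * c * z * (o * c)⁻¹ = o * (c * z * c⁻¹) * o⁻¹ by group, cj_of (mem_cent_iff.1 hc)] at hg ⊢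
  have m : z * (o * z * o⁻¹) ∈ oddCore G := by
    have := mul_mem (this.conj_mem o ho z) (inv_mem ho)
    rwa [inv_of_sq zz, mul_assoc, mul_assoc, ← mul_assoc o] at this
  have e2 : (z * (o * z * o⁻¹)) ^ 2 = 1 := by
    rw [Commute.mul_pow hg, pow_two, pow_two, zz, H73.FD.cj_sq zz, one_mul]
  have := pow_gcd_eq_one.2 ⟨e2, pow_card m⟩
  rw [show Nat.gcd 2 _ = 1 from Nat.coprime_two_left.2 H1.odd_card_oddCore, pow_one,
    mul_eq_one_iff_inv_eq, inv_of_sq zz] at this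
  exact this.symm

namespace Cx

variable (C : Cx G V K0)

theorem comm_of_odd {O : Subgroup G} (hO : Odd (Nat.card O)) {o x : G} (ho : o ∈ O) (oz : o * C.z = C.z * o)
    (hx : x ∈ C.J) (h : x * o * x⁻¹ ∈ O) : x * o = o * x := by
  have := C.one_of_odd (x := x * o * x⁻¹ * o⁻¹) (by
    rw [mul_assoc, mul_assoc, ← mul_assoc o]; exact mul_mem hx (C.nH o oz _ (inv_mem hx))) hO
    (pow_card (mul_mem h (inv_mem ho)))
  rwa [mul_inv_eq_one, mul_inv_eq_iff_eq_mul] at this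

theorem zp_cent [Finite G] {w t : G} (h : Zp w t) (tt : t * t = 1) (t1 : t ≠ 1) (tw : t * w = w * t)
    (tz : t * C.z = C.z * t) {x : G} (hx : x ∈ C.J) (xw : x * w = w * x) : x * t = t * x := by
  obtain ⟨O, ho, -, -, h3⟩ := h.odd tt t1 tw
  have := C.one_of_odd (x := t * (x * t * x⁻¹)) (by
    have := mul_mem (C.nH t tz x hx) (inv_mem hx)
    rwa [inv_of_sq tt, mul_assoc, mul_assoc, ← mul_assoc x] at this) ho (pow_card (h3 x xw))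
  rw [mul_eq_one_iff_inv_eq, inv_of_sq tt] at this
  exact of_cj this.symm

section w
variable {w : G} (hw : ∀ u ∈ C.Z, w * u = u * w)
include hw

theorem mem_X {x : G} (hx : x ∈ C.J) : C.π x ∈ C.img (centralizer {w}) ↔ x * w = w * x :=
  ⟨fun h => mem_cent_iff.1 (C.mem_of_π_img (fun u hu => mem_cent_iff.2 (hw u hu).symm) hx h),
    fun h => C.π_img (mem_cent_iff.2 h) hx⟩

theorem mem_Ψ {x : G} (hx : x ∈ C.J) :
    C.π x ∈ C.img (C.Ψ w) ↔ w * x * w⁻¹ = x ∨ w * x * w⁻¹ = x * C.z :=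
  ⟨fun h => (C.mem_of_π_img (B := C.Ψ w) (fun u hu => ⟨C.ZJ hu, Or.inl (cj_of (hw u hu))⟩) hx h).2,
    fun h => C.π_img (B := C.Ψ w) ⟨hx, h⟩ hx⟩

theorem pd (ww : w * w = 1) (wJ : w ∉ C.J) :
    PD C.σ C.q K0 (C.μ w) (C.img (centralizer {w})) (C.img (C.Ψ w)) := by
  have wA := C.cA w hw
  have e0 : ∀ a, w * (w * a * w⁻¹ * a⁻¹) * w⁻¹ = (w * a * w⁻¹ * a⁻¹)⁻¹ := fun a => by
    rw [mul_assoc w a, ← mul_assoc w, ← mul_assoc w, ww]; simp [inv_of_sq ww, mul_assoc]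
  refine ⟨C.μ_sq wA ww, fun e => wJ ((C.μ_one w wA).1 e), ?_, ?_, ?_, fun x => ?_, fun x => ?_, ?_, ?_⟩
  · rintro _ ⟨x, hx, hx', rfl⟩
    exact (C.mem_Ψ hw hx').2 (Or.inl (cj_of (mem_cent_iff.1 hx).symm))
  · rintro _ ⟨x, hx, hx', rfl⟩
    refine (C.fix_iff wA hx').2 ?_
    rcases hx.2 with e | e
    exacts [⟨1, one_mem _, by rw [e, mul_one]⟩, ⟨_, C.zZ, e⟩]
  · rintro _ ⟨x, hx, hx', rfl⟩ _ ⟨y, hy, hy', rfl⟩ x' y'
    rw [C.mem_X hw hx'] at x'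
    rw [C.mem_X hw hy'] at y'
    rw [← C.π_mul _ hx' _ hy', C.mem_X hw (mul_mem hx' hy')]
    refine (of_cj ?_).symm
    rw [← cj_mul, hx.2.resolve_left fun e => x' (of_cj e).symm, hy.2.resolve_left fun e => y' (of_cj e).symm,
      mul_assoc, ← mul_assoc C.z, ← C.Jz hy', mul_assoc y, C.zz, mul_one]
  · obtain ⟨a, ha, rfl⟩ := C.π_surj x
    have m := mul_mem (C.nJ wA ha) (inv_mem ha)
    rw [← C.π_comm wA ha, C.mem_Ψ hw m, e0]
    refine (C.sq _ m).imp inv_of_sq fun e => ?_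
    rw [inv_eq_iff_mul_eq_one, ← mul_assoc, e, C.zz]
  · obtain ⟨a, ha, rfl⟩ := C.π_surj x
    have m := mul_mem (C.nJ wA ha) (inv_mem ha)
    rw [← C.π_comm wA ha, C.mem_X hw m, C.q_π _ m]
    have e := e0 a
    generalize w * a * w⁻¹ * a⁻¹ = y at e
    exact ⟨fun h => by rw [cj_of h.symm] at e; exact mul_eq_one_iff_eq_inv.2 e,
      fun h => by rw [inv_of_sq h] at e; exact (of_cj e).symm⟩
  · intro k hk c x hx
    obtain ⟨a, ha, rfl⟩ := C.π_surj x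
    obtain ⟨b, hb, rfl⟩ := C.μ_surj k hk
    obtain ⟨u, hu, e⟩ := (C.fix_iff wA ha).1 hx
    have j : w⁻¹ * (b⁻¹ * w * b⁻¹⁻¹) ∈ C.J := by
      rw [← C.μ_eq wA (mul_mem (mul_mem (inv_mem hb) wA) (inv_mem (inv_mem hb))), C.μ_conj (inv_mem hb) wA,
        C.μ_inv hb, cj_of (comm_inv c)]
    rw [← C.π_comm hb ha, C.mem_Ψ hw (mul_mem (C.nJ hb ha) (inv_mem ha))]
    have e1 : w * (b * a * b⁻¹ * a⁻¹) * w⁻¹ = b * (w * (w⁻¹ * (b⁻¹ * w * b⁻¹⁻¹) * a *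
      (w⁻¹ * (b⁻¹ * w * b⁻¹⁻¹))⁻¹) * w⁻¹) * b⁻¹ * (w * a * w⁻¹)⁻¹ := by group
    have bu := cj_of (C.h0 b hb hk u hu)
    have e2 : b * (a * u) * b⁻¹ * (a * u)⁻¹ = b * a * b⁻¹ * a⁻¹ := by rw [← cj_mul, bu]; group
    rw [e1]
    rcases C.conj' ha j with f | f <;> rw [f]
    · left; rw [e, e2]
    · right
      rw [← cj_mul w, cj_of (C.Az w wA), e, ← cj_mul b, cj_of (C.Az b hb), mul_assoc _ C.z,
        ← C.Jz (inv_mem (mul_mem ha (C.ZJ hu))), ← mul_assoc, e2]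
  · intro hk x hx
    obtain ⟨a, ha, rfl⟩ := C.π_surj x
    have key : ∀ b ∈ C.A, C.μ b ∈ K0 → ∃ u ∈ C.Z, b * a * b⁻¹ = a * u := fun b hb m =>
      (C.fix_iff hb ha).1 (hx _ m)
    obtain ⟨c, hc, hc', e⟩ := C.kd.le_of_pow (P := C.imK (C.Sz a)) (n := 2) (fun k hk => by
      rintro _ m ⟨b, hb, hb', rfl⟩
      obtain ⟨c, hc, rfl⟩ := C.μ_surj k hk
      refine ⟨_, ⟨comm_mul (comm_mul (C.Az c hc) hb.1) (comm_inv (C.Az c hc)), ?_⟩,
        mul_mem (mul_mem hc hb') (inv_mem hc), C.μ_conj hc hb'⟩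
      obtain ⟨u, hu, e⟩ := key c⁻¹ (inv_mem hc) (by rw [C.μ_inv hc]; exact inv_mem hk)
      have e1 : c * (a * u) * c⁻¹ = a := by rw [← e]; group
      rw [show c * b * c⁻¹ * a * (c * b * c⁻¹)⁻¹ = c * (b * (c⁻¹ * a * c⁻¹⁻¹) * b⁻¹) * c⁻¹ by group, e,
        ← cj_mul b, cj_of (C.h0 b hb' m u hu)]
      rcases hb.2 with f | f <;> rw [f]
      · exact Or.inl e1
      · right; rw [mul_assoc a, ← C.Jz (C.ZJ hu), ← mul_assoc a, ← cj_mul c, e1, cj_of (C.Az c hc)])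
      (by norm_num) (fun k hk => by
        obtain ⟨c, hc, rfl⟩ := C.μ_surj k hk
        obtain ⟨u, hu, e⟩ := key c hc hk
        refine ⟨c ^ 2, ⟨(Commute.pow_left (C.Az c hc) 2).eq, Or.inl ?_⟩, pow_mem hc 2, C.μ_pow hc 2⟩
        rw [show c ^ 2 * a * (c ^ 2)⁻¹ = c * (c * a * c⁻¹) * c⁻¹ by rw [pow_two]; group, e, ← cj_mul, e,
          cj_of (C.h0 c hc hk u hu), mul_assoc, C.Zsq u hu, mul_one]) hk
    have j := (C.μ_eq hc' wA).1 e
    have := (mul_mem hc (⟨C.Jz j, C.conj' ha j⟩ : c⁻¹ * w ∈ C.Sz a)).2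
    rw [mul_inv_cancel_left] at this
    exact (C.mem_Ψ hw ha).2 this

theorem same (ww : w * w = 1) (hF : ∀ x ∈ C.J, C.σ (C.μ w) (C.π x) = C.π x → x * w = w * x) {w' : G}
    (hw' : w' ∈ C.A) (e : C.μ w = C.μ w') (hF' : ∀ x ∈ C.J, x * w = w * x → x * w' = w' * x) :
    ∃ a ∈ C.J, ∃ u ∈ C.Z, w' = a * w * a⁻¹ * u := by
  have wA := C.cA w hw
  have j := (C.μ_eq wA hw').1 e
  obtain ⟨y, hy⟩ := mem_Mv.1 (mem_Mv_of C.form (k := C.μ w) (x := C.π (w⁻¹ * w')) fun v hv => by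
    obtain ⟨x, hx, rfl⟩ := C.π_surj v
    exact (C.b_π _ hx _ j).2 (comm_mul (comm_inv (hF x hx hv).symm) (hF' x hx (hF x hx hv)).symm).symm)
  obtain ⟨a, ha, rfl⟩ := C.π_surj y
  rw [← C.π_comm wA ha, C.π_eq (mul_mem (C.nJ wA ha) (inv_mem ha)) j] at hy
  refine ⟨a, ha, _, hy, ?_⟩
  calc w' = a * (w * w) * a⁻¹ * ((w * w)⁻¹ * w') := by rw [ww]; group
    _ = _ := by group

theorem lift (ww : w * w = 1) (hF : ∀ x ∈ C.J, C.σ (C.μ w) (C.π x) = C.π x → x * w = w * x) {k : K}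
    (hk : k ∈ K0) (c : k * C.μ w = C.μ w * k) :
    ∃ b, (∀ u ∈ C.Z, b * u = u * b) ∧ b * w = w * b ∧ ∃ b', b = b' * b' ∧ b' ∈ C.A ∧ C.μ b' = k := by
  have wA := C.cA w hw
  obtain ⟨b, hb, rfl⟩ := C.μ_surj k hk
  obtain ⟨a, ha, u, hu, e⟩ := C.same hw ww hF (w' := b * w * b⁻¹) (mul_mem (mul_mem hb wA) (inv_mem hb))
    (by rw [C.μ_conj hb wA, cj_of c]) fun x hx h => by
      have m := C.nJ (inv_mem hb) hx
      have := hF _ m (by rw [← C.act _ (inv_mem hb) x hx, C.μ_inv hb, ← app_eq _ (comm_inv c),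
        C.fix_of wA hx h.symm])
      calc x * (b * w * b⁻¹) = b * (b⁻¹ * x * b⁻¹⁻¹ * w) * b⁻¹ := by group
        _ = _ := by rw [this]; group
  have m := mul_mem (C.JA (inv_mem ha)) hb
  have e1 : C.μ (a⁻¹ * b) = C.μ b := by rw [C.μ_mul _ (C.JA (inv_mem ha)) _ hb, C.μJ (inv_mem ha), one_mul]
  have e2 : a⁻¹ * b * w * (a⁻¹ * b)⁻¹ = w * u := by
    calc a⁻¹ * b * w * (a⁻¹ * b)⁻¹ = a⁻¹ * (b * w * b⁻¹) * a := by group
      _ = w * (a⁻¹ * u * a⁻¹⁻¹) := by rw [e]; group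
      _ = _ := by rw [cj_of (C.Zc hu (inv_mem ha))]
  have h1 := C.h0 _ m (e1 ▸ hk)
  generalize a⁻¹ * b = d at m e1 e2 h1
  refine ⟨d * d, fun v hv => comm_mul (h1 v hv) (h1 v hv), of_cj ?_, d, rfl, m, e1⟩
  rw [show d * d * w * (d * d)⁻¹ = d * (d * w * d⁻¹) * d⁻¹ by group, e2, ← cj_mul, e2, cj_of (h1 u hu),
    mul_assoc, C.Zsq u hu, mul_one]

end w

theorem q_inv {w : G} (hw : w ∈ C.J) (ww : w * w = 1) : C.q (C.π w) = 0 := (C.q_π w hw).2 ww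

theorem mem_J_of {w a : G} (hw : w ∈ C.J) (ww : w * w = 1) (ha : a ∈ C.A)
    (h : ∀ x ∈ C.J, x * w = w * x → x * a = a * x) : a ∈ C.J :=
  (C.μ_one a ha).1 (hyper C.form (C.q_inv hw ww) fun v hv => by
    obtain ⟨x, hx, rfl⟩ := C.π_surj v
    exact C.fix_of ha hx (h x hx ((C.b_π _ hw _ hx).1 hv).symm).symm)

theorem inner {w u : G} (hw : w ∈ C.J) (wZ : w ∉ C.Z) (ww : w * w = 1) (hu : ∀ v ∈ C.Z, u * v = v * u)
    (uu : u * u = 1) (h : ∀ x ∈ C.J, x * w = w * x → u * x * u⁻¹ = x ∨ u * x * u⁻¹ = x * w)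
    (hc : ∀ c, (∀ v ∈ C.Z, c * v = v * c) → c * u = u * c → u ∉ C.J → c * w * c⁻¹ = w) :
    u ∈ C.Z ∨ u * w ∈ C.Z := by
  have := C.form.fin
  have uA := C.cA u hu
  have v0 : C.π w ≠ 0 := fun e => wZ ((C.π_zero w hw).1 e)
  by_cases c : ∀ x ∈ C.J, x * w = w * x → x * u = u * x
  · have uJ := C.mem_J_of hw ww uA c
    rw [← C.π_zero _ uJ, ← C.π_zero _ (mul_mem uJ hw), C.π_mul _ uJ _ hw, az, ← mem_span1]
    refine mem_of_pp C.form fun v hv => ?_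
    obtain ⟨x, hx, rfl⟩ := C.π_surj v
    exact (C.b_π _ hx _ uJ).2 (c x hx ((C.b_π _ hw _ hx).1 (mem_p1.1 hv)).symm)
  exfalso
  push Not at c
  obtain ⟨x0, hx0, c1, c2⟩ := c
  have mv : ∀ x ∈ C.J, u * x * u⁻¹ = x * w → C.σ (C.μ u) (C.π x) + C.π x = C.π w := fun x hx e => by
    rw [C.act u uA x hx, e, C.π_mul _ hx _ hw, aba]
  have e0 := (h x0 hx0 c1).resolve_left fun e => c2 (of_cj e).symm
  have uJ : u ∉ C.J := fun m => by
    rcases C.conj' hx0 m with e | e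
    · exact c2 (of_cj e).symm
    · exact wZ (mul_left_cancel (e0.symm.trans e) ▸ C.zZ)
  have P := C.pd hu uu uJ
  have vM : C.π w ∈ Mv C.σ (C.μ u) := mv x0 hx0 e0 ▸ mv_mem _ _
  have hF : ∀ x ∈ C.J, C.σ (C.μ u) (C.π x) = C.π x → x * u = u * x := fun x hx e => by
    refine (of_cj ((h x hx ((C.b_π _ hx _ hw).1 ?_)).resolve_right fun f => v0 ?_)).symm
    · rw [← mv x0 hx0 e0]; exact b_mv C.form e _
    · rw [← mv x hx f, e, aa]
  have h2 : finrank (ZMod 2) (Mv C.σ (C.μ u)) ≤ 2 := by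
    have h1 := finrank_le_succ (C := p1 C.q (C.π w)) (Y := Fx C.σ (C.μ u)) fun a ha b hb a' b' => by
      have key : ∀ a ∈ p1 C.q (C.π w), a ∉ Fx C.σ (C.μ u) → C.σ (C.μ u) a + a = C.π w := fun a ha a' => by
        obtain ⟨x, hx, rfl⟩ := C.π_surj a
        exact mv x hx ((h x hx ((C.b_π _ hw _ hx).1 (mem_p1.1 ha)).symm).resolve_left fun e =>
          a' ((mem_Fx _).2 (C.fix_of uA hx (of_cj e))))
      rw [mem_Fx, ← az, map_add, add_add_add_comm, key a ha a', key b hb b', aa]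
    have := fr_pp C.form (Submodule.span (ZMod 2) {C.π w})
    have := finrank_span1 (C.π w)
    have := fr_Fx C.form (C.μ u)
    change finrank (ZMod 2) (pp _ _) ≤ _ at h1
    omega
  have hq : ∀ m ∈ Mv C.σ (C.μ u), C.q m = 0 := fun m hm => (P.M_iff hm).1 (by
    obtain ⟨x, hx, rfl⟩ := C.π_surj m
    exact (C.mem_X hu hx).2 (hF x hx ((mem_Fx _).1 (Mv_le_Fx P.ττ hm))))
  obtain ⟨k, k1, k2⟩ : ∃ k, k * C.μ u = C.μ u * k ∧ C.σ (k ^ 4) (C.π w) ≠ C.π w := by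
    rcases C.kd.cases C.form with ⟨V0, R⟩ | ⟨_, H, N⟩
    exacts [rrot R C.form P.τ1 h2 hq vM v0, urot N C.form h2 hq vM v0]
  obtain ⟨_, b1, b2, b, rfl, hb, e⟩ := C.lift hu uu hF (C.kd.sq_mem k) (comm_mul k1 k1)
  apply k2
  rw [show k ^ 4 = k * k * (k * k) by simp only [pow_succ, pow_zero, one_mul, mul_assoc], ← e,
    ← C.μ_mul _ hb _ hb, C.act _ (mul_mem hb hb) w hw, hc _ b1 b2 uJ]

/-- two involutions of the centre of `C'` with the same centraliser in `J` -/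
structure Side (C C' : Cx G V K0) (w w' : G) : Prop where
  m : w ∈ C'.Z
  m' : w' ∈ C'.Z
  n : w ≠ 1
  n' : w' ≠ 1
  ne : w ≠ w'
  c : ∀ x ∈ C.J, x * w = w * x → x * C'.z = C'.z * x
  c' : ∀ x ∈ C.J, x * w' = w' * x → x * C'.z = C'.z * x
  h3 : C.μ w ∈ K0 ∨ C.μ w' ∈ K0 ∨ ∀ x ∈ C.J, x * (w * w') = w * w' * x → x * C'.z = C'.z * x
  st : (∀ c, c * w = w * c → c * c * w' = w' * (c * c)) ∨ (w' = C'.z ∧ Zp w w')

variable [Finite G] {C} {C' : Cx G V K0} (hc : ∀ u ∈ C'.Z, ∀ v ∈ C.Z, u * v = v * u)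
  (hJ : ∀ u ∈ C'.Z, u ∈ C.J → u = 1)
include hc hJ

omit [Finite G] in
theorem X_le {x u : G} (hx : x ∈ C.J) (h : x * C'.z = C'.z * x) (hu : u ∈ C'.Z) : x * u = u * x := by
  have := hJ (x * u * x⁻¹ * u⁻¹) (mul_mem (C'.nZ h hu) (inv_mem hu)) (by
    rw [mul_assoc, mul_assoc, ← mul_assoc u]
    exact mul_mem hx (C.nH u (hc u hu _ C.zZ) _ (inv_mem hx)))
  rwa [mul_inv_eq_one, mul_inv_eq_iff_eq_mul] at this

omit [Finite G] in
theorem pd' {w : G} (m : w ∈ C'.Z) (n : w ≠ 1) (c : ∀ x ∈ C.J, x * w = w * x → x * C'.z = C'.z * x) :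
    PD C.σ C.q K0 (C.μ w) (C.img (centralizer {C'.z})) (C.img (C.Ψ w)) := by
  have := C.pd (hc w m) (C'.Zsq w m) fun e => n (hJ w m e)
  rwa [show C.img (centralizer {w}) = C.img (centralizer {C'.z}) from Submodule.ext fun v =>
    ⟨fun ⟨x, hx, hx', e⟩ => ⟨x, mem_cent_iff.2 (c x hx' (mem_cent_iff.1 hx)), hx', e⟩,
      fun ⟨x, hx, hx', e⟩ => ⟨x, mem_cent_iff.2 (X_le hc hJ hx' (mem_cent_iff.1 hx) m), hx', e⟩⟩] at this

theorem half (hJ' : ∀ u ∈ C.Z, u ∈ C'.J → u = 1) {w w' : G} (S : Side C C' w w') :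
    5 ≤ finrank (ZMod 2) (C.img (centralizer {C'.z})) ∧
      Nat.card (C'.J ⊓ centralizer {C.z} : Subgroup G) ≤ 64 := by
  have P := pd' hc hJ S.m S.n S.c
  have P' := pd' hc hJ S.m' S.n' S.c'
  have wA := C.cA w (hc w S.m)
  have wA' := C.cA w' (hc w' S.m')
  have tA := C.cA _ (hc _ C'.zZ)
  have n3 : w * w' ≠ 1 := fun e => S.ne (by rw [mul_eq_one_iff_inv_eq, inv_of_sq (C'.Zsq w S.m)] at e; exact e)
  have ne : C.μ w ≠ C.μ w' := fun e => by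
    rw [C.μ_eq wA wA', inv_of_sq (C'.Zsq w S.m)] at e
    exact n3 (hJ _ (mul_mem S.m S.m') e)
  rcases C.kd.cases C.form with ⟨V0, R⟩ | ⟨_, H, N⟩
  · obtain ⟨a, ha, b, Φ, Φ', Q, Q', m, ab⟩ : ∃ a ∈ C'.Z, ∃ b Φ Φ',
        PD C.σ C.q K0 (C.μ a) (C.img (centralizer {C'.z})) Φ ∧
        PD C.σ C.q K0 b (C.img (centralizer {C'.z})) Φ' ∧ C.μ a ∈ K0 ∧ C.μ a ≠ b := by
      by_cases c : C.μ w ∈ K0
      · exact ⟨w, S.m, _, _, _, P, P', c, ne⟩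
      by_cases c' : C.μ w' ∈ K0
      · exact ⟨w', S.m', _, _, _, P', P, c', ne.symm⟩
      refine ⟨_, mul_mem S.m S.m', _, _, _, pd' hc hJ (mul_mem S.m S.m') n3
        ((S.h3.resolve_left c).resolve_left c'), P, ?_, ?_⟩ <;> rw [C.μ_mul _ wA _ wA']
      · exact C.kd.idx _ _ c c'
      · simpa using P'.τ1
    refine ⟨rfive R C.form C.kd Q m, ?_⟩
    have hc' : ∀ u ∈ C.Z, ∀ v ∈ C'.Z, u * v = v * u := fun u hu v hv => (hc v hv u hu).symm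
    have YA : C'.J ⊓ centralizer {C.z} ≤ C.A := fun y hy =>
      C.cA y fun u hu => X_le hc' hJ' hy.1 (mem_cent_iff.1 hy.2) hu
    have := rC R C.form C.kd Q m Q' ab (Is := C.img C'.J) (Y := C.imK (C'.J ⊓ centralizer {C.z}))
      (by rintro _ ⟨x, hx, hx', rfl⟩; exact C.π_img (mem_cent_iff.2 (C'.Jz hx)) hx') (by
        rintro _ ⟨i, hi, hi', rfl⟩ _ ⟨x, hx, hx', rfl⟩
        refine (C.b_π _ hx' _ hi').2 (of_cj ((C.conj' hi' hx').resolve_right fun e => C.z1 (hJ' _ C.zZ ?_)))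
        have := mul_mem (inv_mem hi) (C'.nH x (mem_cent_iff.1 hx) i hi)
        rwa [e, inv_mul_cancel_left] at this) (by
        rintro _ ⟨y, hy, hy', rfl⟩
        exact C.μ_comm hy' (C.cA a (hc a ha)) (C'.Zc ha hy.1)) (by
        rintro _ ⟨y, hy, hy', rfl⟩ _ ⟨x, hx, hx', rfl⟩
        rw [← C.π_comm hy' hx']
        refine C.π_img ?_ (mul_mem (C.nJ hy' hx') (inv_mem hx'))
        rw [mul_assoc, mul_assoc, ← mul_assoc x]
        exact mul_mem hy.1 (C'.nH x (mem_cent_iff.1 hx) _ (inv_mem hy.1)))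
    have e1 : C'.J ⊓ centralizer {C.z} ⊓ C.J ⊓ C.Z = ⊥ := eq_bot_iff.2 fun x hx => hJ' x hx.2 hx.1.1.1
    have e2 : C.img (C'.J ⊓ centralizer {C.z} ⊓ C.J) = C.img C'.J := Submodule.ext fun v =>
      ⟨fun ⟨x, hx, hx', e⟩ => ⟨x, hx.1.1, hx', e⟩,
        fun ⟨x, hx, hx', e⟩ => ⟨x, ⟨⟨hx, mem_cent_iff.2 (C.Jz hx')⟩, hx'⟩, hx', e⟩⟩
    rwa [C.card_imK YA, C.card_img inf_le_right, e1, e2, card_bot, one_mul, mul_comm]
  · refine (uC N C.form C.kd P P' ne (S.h3.imp_right (Or.imp_right fun c => ⟨_, C.μ_mul _ wA _ wA' ▸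
      pd' hc hJ (mul_mem S.m S.m') n3 c⟩)) fun k hk c hF => ?_).elim
    obtain ⟨_, b1, b2, b, rfl, hb, rfl⟩ := C.lift (hc w S.m) (C'.Zsq w S.m) (fun x hx e => by
      obtain ⟨y, hy, hy', e'⟩ := hF _ e
      have := (C.π_eq hy' hx).1 e'
      have e2 := comm_mul (X_le hc hJ hy' (mem_cent_iff.1 hy) S.m) (hc w S.m _ this).symm
      rwa [mul_inv_cancel_left] at e2) hk c
    have bA : b * b * (b * b) ∈ C.A := mul_mem (mul_mem hb hb) (mul_mem hb hb)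
    have e4 : C.μ b ^ 4 = C.μ (b * b * (b * b)) := by
      rw [← C.μ_pow hb]; simp only [pow_succ, pow_zero, one_mul, mul_assoc]
    have mA := mul_mem (mul_mem bA wA') (inv_mem bA)
    rw [e4, ← C.μ_conj bA wA', ← C.μ_mul _ wA' _ mA]
    rcases S.st with st | ⟨rfl, st⟩
    · rw [cj_of (st _ b2), C'.Zsq w' S.m', C.μ1]
      exact ⟨1, odd_one, one_pow _, fun x hx => P'.XF hx⟩
    obtain ⟨O, ho, -, h2, h3⟩ := st.odd C'.zz C'.z1 (C'.Jz (C'.ZJ S.m)).symm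
    have m := h3 _ (comm_mul b2 b2)
    refine ⟨_, ho, by rw [← C.μ_pow (mul_mem wA' mA), pow_card m, C.μ1], ?_⟩
    rintro _ ⟨x, hx, hx', rfl⟩
    have e1 := C.comm_of_odd ho m (C.Az _ (mul_mem wA' mA)) hx'
      (h2 x (X_le hc hJ hx' (mem_cent_iff.1 hx) S.m) _ m)
    have e2 := comm_mul (comm_inv (mem_cent_iff.1 hx).symm) e1.symm
    rw [inv_mul_cancel_left] at e2
    exact C.fix_of mA hx' e2

theorem skew (hJ' : ∀ u ∈ C.Z, u ∈ C'.J → u = 1) {w w' u u' : G} (S : Side C C' w w') (S' : Side C' C u u') :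
    False := by
  have h1 := (half hc hJ hJ' S).2
  have h2 := (half (fun u hu v hv => (hc v hv u hu).symm) hJ' hJ S').1
  have e2 : C'.img (C'.J ⊓ centralizer {C.z}) = C'.img (centralizer {C.z}) := Submodule.ext fun v =>
    ⟨fun ⟨x, hx, hx', e⟩ => ⟨x, hx.2, hx', e⟩, fun ⟨x, hx, hx', e⟩ => ⟨x, ⟨hx', hx⟩, hx', e⟩⟩
  rw [C'.card_img inf_le_left, e2, inf_eq_right.2 fun x hx => ⟨C'.ZJ hx, mem_cent_iff.2 (hc x hx _ C.zZ)⟩] at h1
  have h3 : 3 ≤ Nat.card C'.Z := by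
    by_contra c
    exact S.ne (eq_of_le_two (by omega) S.m S.m' S.n S.n')
  have h4 : 2 ^ 5 ≤ 2 ^ finrank (ZMod 2) (C'.img (centralizer {C.z})) := Nat.pow_le_pow_right (by norm_num) h2
  have := (Nat.mul_le_mul h3 h4).trans h1
  omega

end Cx

end H94.PF
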