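import Cfsg.Agent.Lib.PF94.Pre
import Cfsg.Agent.Lib.PF94.EightB

/-!
From the group theoretic hypotheses to the linearised setting, centre of order eight.
-/

set_option autoImplicit false

namespace H94.PF

open Module H95 H4.LX H9.WC QuadraticMap Subgroup Cfsg H69
open H73.FD (cj_mul cj_inj Pr)
open H30 (F4)

universe u

variable {G : Type u} [Group G] {K : Type*} [Group K] {K0 : Subgroup K}

theorem four_of_card [Finite G] {W : Subgroup G} (h : Nat.card W ≤ 4) {a b : G} (ha : a ∈ W) (hb : b ∈ W)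
    (aa : a * a = 1) (a1 : a ≠ 1) (b1 : b ≠ 1) (ab : a ≠ b) {x : G} (hx : x ∈ W) :
    x = 1 ∨ x = a ∨ x = b ∨ x = a * b := by
  classical
  by_contra c
  push Not at c
  obtain ⟨c1, c2, c3, c4⟩ := c
  have n1 : a * b ≠ 1 := fun e => ab (by rwa [mul_eq_one_iff_inv_eq, inv_of_sq aa] at e)
  have h1 : (({x, 1, a, b, a * b} : Finset G) : Set G) ⊆ W := by
    simp [Set.insert_subset_iff, hx, ha, hb, mul_mem ha hb]
  have h2 := Set.ncard_le_ncard h1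
  rw [Set.ncard_coe_finset, Finset.card_insert_of_notMem (by simp [c1, c2, c3, c4]),
    Finset.card_insert_of_notMem (by simp [a1.symm, b1.symm, n1.symm]),
    Finset.card_insert_of_notMem (by simp [ab, b1]), Finset.card_pair (by simpa using a1)] at h2
  change 5 ≤ Nat.card W at h2
  omega

theorem zp3 {c a : G} (c3 : c * c * c = 1) (h : a ∈ zpowers c) : a = 1 ∨ a = c ∨ a = c * c := by
  obtain ⟨n, rfl⟩ := h
  have e : c ^ (3 : ℤ) = 1 := by rw [← c3, ← pow_three']; exact zpow_natCast c 3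
  have : n % 3 = 0 ∨ n % 3 = 1 ∨ n % 3 = 2 := by omega
  rw [← Int.mul_ediv_add_emod n 3]
  simp only [zpow_add, zpow_mul, e, one_zpow, one_mul]
  rcases this with h | h | h <;> rw [h]
  exacts [Or.inl (zpow_zero c), Or.inr (Or.inl (zpow_one c)), Or.inr (Or.inr (zpow_two c))]

/-- an action on a four-group -/
structure A4 (W : Subgroup G) : Prop where
  sq : ∀ w ∈ W, w * w = 1
  four : ∀ a ∈ W, ∀ b ∈ W, a ≠ 1 → b ≠ 1 → a ≠ b → ∀ x ∈ W, x = 1 ∨ x = a ∨ x = b ∨ x = a * b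

namespace A4

variable {W : Subgroup G} (A : A4 W)
include A

theorem cm {a b : G} (ha : a ∈ W) (hb : b ∈ W) : a * b = b * a := by
  rw [← inv_of_sq (A.sq _ (mul_mem ha hb)), mul_inv_rev, inv_of_sq (A.sq a ha), inv_of_sq (A.sq b hb)]

theorem six {h : G} (n : ∀ w ∈ W, h * w * h⁻¹ ∈ W) {u : G} (hu : u ∈ W) : h ^ 6 * u = u * h ^ 6 := by
  by_cases u1 : u = 1
  · simp [u1]
  by_cases c : h * u * h⁻¹ = u
  · exact (Commute.pow_left (of_cj c) 6).eq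
  have m := n u hu
  rcases A.four u hu _ m u1 (by simpa using u1) (Ne.symm c) _ (n _ m) with e | e | e | e
  · exact absurd (by simpa using e) u1
  · rw [cj_cj', ← pow_two] at e
    rw [show 6 = 2 * 3 from rfl, pow_mul]
    exact (Commute.pow_left (of_cj e) 3).eq
  · exact absurd (cj_inj e) c
  · have : h * h * h * u * (h * h * h)⁻¹ = u := by
      rw [mul_assoc h h h, ← cj_cj', ← cj_cj', e, ← cj_mul, e, A.cm hu m, ← mul_assoc, A.sq _ m, one_mul]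
    rw [← pow_three'] at this
    rw [show 6 = 3 * 2 from rfl, pow_mul]
    exact (Commute.pow_left (of_cj this) 2).eq

theorem fx {a u : G} (n : ∀ w ∈ W, a * w * a⁻¹ ∈ W) (h : ∀ w ∈ W, a * a * w = w * (a * a)) (hu : u ∈ W)
    (c : a * u ≠ u * a) : ∃ p ∈ W, p ≠ 1 ∧ a * p * a⁻¹ = p ∧ ∀ w ∈ W, w ≠ 1 → w ≠ p → a * w * a⁻¹ = p * w := by
  have m := n u hu
  have p1 : u * (a * u * a⁻¹) ≠ 1 := fun e => c (of_cj (by
    rw [mul_eq_one_iff_inv_eq, inv_of_sq (A.sq u hu)] at e; exact e.symm))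
  have e1 : a * (a * u * a⁻¹) * a⁻¹ = u := by rw [cj_cj', cj_of (h u hu)]
  have u1 : u ≠ 1 := fun e => c (by simp [e])
  refine ⟨_, mul_mem hu m, p1, by rw [← cj_mul, e1, A.cm m hu], fun w hw w1 wp => ?_⟩
  rcases A.four u hu _ m u1 (by simpa using u1) (fun e => c (of_cj e.symm)) w hw with e | e | e | e
  · exact absurd e w1
  · rw [e, A.cm hu m, mul_assoc _ u u, A.sq u hu, mul_one]
  · rw [e, e1, mul_assoc u, A.sq _ m, mul_one]
  · exact absurd e wp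

theorem two [Finite G] {R : Subgroup G} (hR : IsPGroup 2 R) (n : ∀ a ∈ R, ∀ w ∈ W, a * w * a⁻¹ ∈ W) {a b : G}
    (ha : a ∈ R) (hb : b ∈ R) {u v : G} (hu : u ∈ W) (hv : v ∈ W) (au : a * u ≠ u * a) (bv : b * v ≠ v * b) :
    ∀ w ∈ W, a * b * w = w * (a * b) := by
  have k : ∀ x ∈ R, ∀ w ∈ W, x * x * w = w * (x * x) := fun x hx => mc.1 (by
    obtain ⟨m, e⟩ := pow_of_isP hR (mul_mem hx hx)
    refine (zpowers_le.2 ?_ : zpowers ((x * x) ^ 3) ≤ 𝐂(W)) (mem_zpowers_pow_iff.2 ?_)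
    · rw [← pow_two, ← pow_mul]; exact mc.2 fun w => A.six (n x hx)
    · exact Nat.Coprime.coprime_dvd_right (orderOf_dvd_of_pow_eq_one e) (Nat.Coprime.pow_right m (by norm_num)))
  obtain ⟨p, hp, p1, h1, h2⟩ := A.fx (n a ha) (k a ha) hu au
  obtain ⟨q, hq, q1, h3, h4⟩ := A.fx (n b hb) (k b hb) hv bv
  have ne : ∀ {p w}, p ∈ W → w ≠ p → p * w ≠ 1 := fun hp h e => h (by
    rw [mul_eq_one_iff_inv_eq, inv_of_sq (A.sq _ hp)] at e; exact e.symm)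
  by_cases c : p = q
  · subst c
    intro w hw
    refine of_cj ?_
    by_cases w1 : w = 1
    · simp [w1]
    by_cases wp : w = p
    · rw [← cj_cj', wp, h3, h1]
    · rw [← cj_cj', h4 w hw w1 wp, ← cj_mul, h1, h2 w hw w1 wp, ← mul_assoc, A.sq p hp, one_mul]
  have e1 : a * b * p * (a * b)⁻¹ = q := by
    rw [← cj_cj', h4 p hp p1 c, ← cj_mul, h1, h2 q hq q1 (Ne.symm c), A.cm hp hq, mul_assoc, A.sq p hp, mul_one]
  have e2 := cj_of (k _ (mul_mem ha hb) p hp)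
  rw [← cj_cj', e1, ← cj_cj', h3, h2 q hq q1 (Ne.symm c)] at e2
  exact absurd (by simpa using e2) q1

end A4

theorem Pre.eight [Finite G] {J V E : Subgroup G} {z : G} (P : Pre z J V E) (hV : Nat.card V = 4)
    (hJ : IsPGroup 2 J) (nH : ∀ h, h * z = z * h → ∀ x ∈ J, h * x * h⁻¹ ∈ J)
    (cJ : ∀ g, (∀ x ∈ J, g * x = x * g) → g ∈ J) {c : G} (cz : c * z = z * c) (c3 : c * c * c = 1)
    (hc : ∀ j ∈ J, c * j = j * c → j = 1 ∨ j = z) (ψ : centralizer ({z} : Set G) →* K)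
    (hψ : Function.Surjective ψ) (hk : ∀ a, ψ a = 1 ↔ (a : G) ∈ J ⊔ zpowers c) (kd : KD K0)
    (hs : ¬ ∀ k, ∃ h, ψ h = k ∧ h * c = c * h) :
    ∃ (V : Type u) (_ : AddCommGroup V) (_ : Module (ZMod 2) V) (C : Cx G V K0) (W : Subgroup G) (v : G),
      Ei C W v ∧ Cc C c ∧ C.z = z ∧ C.imK ⊤ = ⊤ ∧ Nat.card W = 4 := by
  have nZ : ∀ h, h * z = z * h → ∀ u ∈ J ⊓ 𝐂(J), h * u * h⁻¹ ∈ J ⊓ 𝐂(J) := fun h hh u =>
    Pre.nZ (nH h hh) (nH _ (comm_inv hh))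
  have cm : ∀ a ∈ J ⊓ 𝐂(J), ∀ b ∈ J ⊓ 𝐂(J), a * b = b * a := fun a ha b hb => mc.1 ha.2 b hb.1
  have e3 : ∀ x, c * (c * (c * x * c⁻¹) * c⁻¹) * c⁻¹ = x := fun x => by
    rw [cj_cj' c c (c * x * c⁻¹), cj_cj', c3]; simp
  have nm : ∀ a ∈ J ⊓ 𝐂(J), ∀ b ∈ J ⊓ 𝐂(J), a * b * (c * (a * b) * c⁻¹) * (c * (c * (a * b) * c⁻¹) * c⁻¹) =
      a * (c * a * c⁻¹) * (c * (c * a * c⁻¹) * c⁻¹) * (b * (c * b * c⁻¹) * (c * (c * b * c⁻¹) * c⁻¹)) :=
    fun a ha b hb => by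
    rw [← cj_mul, ← cj_mul]
    have a1 := nZ c cz a ha
    have b1 := nZ c cz b hb
    have a2 := nZ c cz _ a1
    generalize c * (c * a * c⁻¹) * c⁻¹ = x, c * (c * b * c⁻¹) * c⁻¹ = y at a2
    generalize c * a * c⁻¹ = s, c * b * c⁻¹ = t at a1 b1
    calc _ = a * (b * s) * (t * x) * y := by group
      _ = a * s * (b * x) * t * y := by rw [cm b hb s a1, cm t b1 x a2]; group
      _ = _ := by rw [cm b hb x a2]; group
  let W : Subgroup G :=
    { carrier := {u | u ∈ J ⊓ 𝐂(J) ∧ u * (c * u * c⁻¹) * (c * (c * u * c⁻¹) * c⁻¹) = 1}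
      mul_mem' := fun {a b} ha hb => ⟨mul_mem ha.1 hb.1, by rw [nm a ha.1 b hb.1, ha.2, hb.2, mul_one]⟩
      one_mem' := ⟨one_mem _, by simp⟩
      inv_mem' := fun {a} ha => by rwa [inv_of_sq (P.Zsq ha.1)] }
  have nz : z * (c * z * c⁻¹) * (c * (c * z * c⁻¹) * c⁻¹) = z := by rw [cj_of cz, cj_of cz, P.es.sq, one_mul]
  have zW : z ∉ W := fun h => P.es.ne_one (nz.symm.trans h.2)
  have rot : ∀ u ∈ J ⊓ 𝐂(J), c * (u * (c * u * c⁻¹) * (c * (c * u * c⁻¹) * c⁻¹)) * c⁻¹ =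
      u * (c * u * c⁻¹) * (c * (c * u * c⁻¹) * c⁻¹) := fun u hu => by
    have a1 := nZ c cz u hu
    rw [← cj_mul, ← cj_mul, e3, cm _ (mul_mem a1 (nZ c cz _ a1)) u hu, mul_assoc u]
  have dec : ∀ u ∈ J ⊓ 𝐂(J), u ∈ W ∨ u * z ∈ W := fun u hu => by
    have a1 := nZ c cz u hu
    refine (hc _ (mul_mem (mul_mem hu a1) (nZ c cz _ a1)).1 (of_cj (rot u hu))).imp (fun e => ⟨hu, e⟩)
      fun e => ⟨mul_mem hu P.zZ, by rw [nm u hu z P.zZ, e, nz, P.es.sq]⟩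
  have nc : ∀ w ∈ W, c * w * c⁻¹ ∈ W := fun w hw => ⟨nZ c cz w hw.1, by
    rw [cj_mul, cj_mul, hw.2]; simp⟩
  have dk : ∀ a ∈ J ⊔ zpowers c, ∃ j ∈ J, a = j ∨ a = j * c ∨ a = j * (c * c) := fun a ha => by
    obtain ⟨j, hj, x, hx, rfl⟩ := (mem_sup_of_le_normalizer_left
      (zpowers_le.2 (mem_normalizer_of_finite (nH c cz)))).1 ha
    exact ⟨j, hj, (zp3 c3 hx).imp (fun e => by rw [e, mul_one]) (Or.imp (fun e => by rw [e]) fun e => by rw [e])⟩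
  have jc : ∀ j ∈ J, ∀ a, a * z = z * a → ∀ u ∈ J ⊓ 𝐂(J), j * a * u * (j * a)⁻¹ = a * u * a⁻¹ :=
    fun j hj a ha u hu => by rw [← cj_cj', cj_of (mc.1 (nZ a ha u hu).2 j hj).symm]
  have nN : ∀ h, h * z = z * h → ∀ a, a * z = z * a → a ∈ J ⊔ zpowers c → h * a * h⁻¹ ∈ J ⊔ zpowers c :=
    fun h hh a ha m => (hk (⟨h, mem_cent_iff.2 hh⟩ * ⟨a, mem_cent_iff.2 ha⟩ * ⟨h, mem_cent_iff.2 hh⟩⁻¹)).1 (by
      rw [map_mul, map_mul, (hk ⟨a, _⟩).2 m]; simp)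
  have cN : c ∈ J ⊔ zpowers c := mem_sup_right (mem_zpowers c)
  have nW : ∀ h, h * z = z * h → ∀ w ∈ W, h * w * h⁻¹ ∈ W := fun h hh w hw => by
    have k1 : ∀ a ∈ J ⊔ zpowers c, ∀ w ∈ W, a * w * a⁻¹ ∈ W := fun a ha w hw => by
      obtain ⟨j, hj, rfl | rfl | rfl⟩ := dk a ha
      · rwa [cj_of (mc.1 hw.1.2 _ hj).symm]
      · rw [jc j hj c cz w hw.1]; exact nc w hw
      · rw [jc j hj _ (comm_mul cz cz) w hw.1, ← cj_cj']; exact nc _ (nc w hw)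
    have e : w = c * w * c⁻¹ * (c * (c * w * c⁻¹) * c⁻¹) := by
      have := hw.2
      rwa [mul_assoc, mul_eq_one_iff_inv_eq, inv_of_sq (P.Zsq hw.1)] at this
    have m := nZ h hh _ (nc w hw).1
    have a := k1 _ (nN h hh c cz cN)
    rw [e, ← cj_mul, show h * (c * (c * w * c⁻¹) * c⁻¹) * h⁻¹ =
      h * c * h⁻¹ * (h * (c * w * c⁻¹) * h⁻¹) * (h * c * h⁻¹)⁻¹ by group]
    generalize h * (c * w * c⁻¹) * h⁻¹ = y at m
    rcases dec y m with m' | m'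
    · exact mul_mem m' (a y m')
    · have := mul_mem m' (a _ m')
      rwa [← cj_mul, cj_of (comm_mul (comm_mul hh cz) (comm_inv hh)), mul_assoc y, ← mul_assoc z,
        cm z P.zZ _ (nZ _ (comm_mul (comm_mul hh cz) (comm_inv hh)) y m), mul_assoc _ z, P.es.sq, mul_one] at this
  have c4 : Nat.card W ≤ 4 := by
    choose r hr hr' using fun w : W => P.mem_Z.1 w.2.1
    rw [← hV]
    refine Nat.card_le_card_of_injective (fun w => (⟨r w, hr w⟩ : V)) fun a b e => Subtype.ext ?_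
    have e' : r a = r b := congrArg Subtype.val e
    have m := mul_mem (inv_mem a.2) b.2
    have m' := mul_mem (inv_mem b.2) a.2
    rcases hr' a with f | f <;> rcases hr' b with g | g <;> rw [f, g, e'] at m m' ⊢
    exacts [absurd (by rwa [inv_mul_cancel_left] at m) zW, absurd (by rwa [inv_mul_cancel_left] at m') zW]
  have A : A4 W := ⟨fun w hw => P.Zsq hw.1, fun a ha b hb a1 b1 ab x =>
    four_of_card c4 ha hb (P.Zsq ha.1) a1 b1 ab⟩
  obtain ⟨v, vW, v1⟩ : ∃ v ∈ W, v ≠ 1 := by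
    obtain ⟨⟨d, hd⟩, d1⟩ := (V.ne_bot_iff_exists_ne_one).1 fun e => by rw [e, card_bot] at hV; omega
    rcases dec d (P.mem_Z.2 ⟨d, hd, Or.inl rfl⟩) with m | m
    · exact ⟨d, m, fun e => d1 (Subtype.ext e)⟩
    · exact ⟨_, m, fun e => P.zW (by
        rw [mul_eq_one_iff_inv_eq] at e; exact e ▸ inv_mem hd)⟩
  have fpf : ∀ w ∈ W, w ≠ 1 → c * w ≠ w * c := fun w hw w1 e => (hc w hw.1.1 e).elim w1 fun f => zW (f ▸ hw)
  have fp2 : ∀ w ∈ W, w ≠ 1 → c * c * w ≠ w * (c * c) := fun w hw w1 e => fpf w hw w1 (by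
    rw [show c = (c * c)⁻¹ from eq_inv_of_mul_eq_one_right c3]; exact comm_inv e)
  have b1 : c * v * c⁻¹ ≠ 1 := by simpa using v1
  have vb : v ≠ c * v * c⁻¹ := fun e => fpf v vW v1 (of_cj e.symm)
  have e1 : c * c * v * (c * c)⁻¹ = v * (c * v * c⁻¹) := by
    rw [← cj_cj']
    rcases A.four v vW _ (nc v vW) v1 b1 vb _ (nc _ (nc v vW)) with e | e | e | e
    · exact absurd (by simpa using e) v1
    · rw [cj_cj'] at e; exact absurd (of_cj e) (fp2 v vW v1)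
    · exact absurd (of_cj e) (fpf _ (nc v vW) b1)
    · exact e
  have tr : ∀ w ∈ W, w ≠ 1 → ∃ h ∈ zpowers c, h * z = z * h ∧ h * v * h⁻¹ = w := fun w hw w1 => by
    rcases A.four v vW _ (nc v vW) v1 b1 vb w hw with e | e | e | e
    exacts [absurd e w1, ⟨1, one_mem _, by simp, by simp [e]⟩, ⟨c, mem_zpowers c, cz, e.symm⟩,
      ⟨_, mul_mem (mem_zpowers c) (mem_zpowers c), comm_mul cz cz, e1.trans e.symm⟩]
  have kJ : ∀ a ∈ J ⊔ zpowers c, a * v = v * a → a ∈ J := fun a ha h => by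
    obtain ⟨j, hj, rfl | rfl | rfl⟩ := dk a ha
    · exact hj
    · exact absurd (of_cj ((jc j hj c cz v vW.1).symm.trans (cj_of h))) (fpf v vW v1)
    · exact absurd (of_cj ((jc j hj _ (comm_mul cz cz) v vW.1).symm.trans (cj_of h))) (fp2 v vW v1)
  have cZ : ∀ g, g * z = z * g → (∀ w ∈ W, g * w = w * g) → ∀ u ∈ J ⊓ 𝐂(J), g * u = u * g :=
    fun g h h' u hu => (dec u hu).elim (h' u) fun m => by
      simpa [mul_assoc, P.es.sq] using (comm_mul (h' _ m).symm h.symm).symm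
  obtain ⟨X, _, _, C, h1, h2, h3, rfl, h5⟩ := P.cx (A := centralizer {z} ⊓ centralizer {v})
    (fun x hx => ⟨mem_cent_iff.2 (P.Jz hx), mem_cent_iff.2 (mc.1 vW.1.2 x hx).symm⟩) (fun a ha => mem_cent_iff.1 ha.1)
    nH (ψ.comp (inclusion inf_le_left)) (fun k => by
      obtain ⟨h, rfl⟩ := hψ k
      have hh := mem_cent_iff.1 h.2
      obtain ⟨x, hx, xz, e⟩ := tr _ (nW h hh v vW) (by simpa using v1)
      refine ⟨⟨x⁻¹ * h, mem_cent_iff.2 (comm_mul (comm_inv xz) hh), mem_cent_iff.2 (of_cj ?_)⟩, ?_⟩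
      · rw [← cj_cj', ← e]; group
      · refine Eq.trans (map_mul ψ (⟨x, mem_cent_iff.2 xz⟩ : centralizer {z})⁻¹ h) ?_
        rw [map_inv, (hk ⟨x, _⟩).2 (mem_sup_right hx), inv_one, one_mul])
    (fun a => (hk _).trans ⟨fun h => kJ a h (mem_cent_iff.1 a.2.2), fun h => mem_sup_left h⟩) kd
    (fun g hg => ⟨mem_cent_iff.2 (hg z P.zZ), mem_cent_iff.2 (hg v vW.1)⟩) cJ
    (fun h hh => cZ _ (Commute.pow_left hh 6).eq fun w => A.six (nW h hh))
    fun R hR hz a ha b hb ⟨u, hu, au⟩ ⟨w, hw, bw⟩ => by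
      have k : ∀ a ∈ R, ∀ u ∈ J ⊓ 𝐂(J), a * u ≠ u * a → ∃ w ∈ W, a * w ≠ w * a := fun a ha u hu au => by
        by_contra c
        push Not at c
        exact au (cZ a (hz a ha) c u hu)
      obtain ⟨u, hu, au⟩ := k a ha u hu au
      obtain ⟨w, hw, bw⟩ := k b hb w hw bw
      exact cZ _ (comm_mul (hz a ha) (hz b hb)) (A.two hR (fun a ha => nW a (hz a ha)) ha hb hu hw au bw)
  refine ⟨X, inferInstance, inferInstance, C, W, v, ⟨fun w hw => h3 ▸ hw.1, zW, h3 ▸ dec, vW, v1, A.four, nW,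
    fun w hw w1 => (tr w hw w1).imp fun h hh => hh.2, fun g a b => h1 ▸ ⟨mem_cent_iff.2 a, mem_cent_iff.2 b⟩,
    fun a ha => mem_cent_iff.1 (i2 (h1 ▸ ha)), ?_⟩, ⟨cz, c3, h2 ▸ hc, fun a ha => h2 ▸ kJ _ ?_ ?_⟩, rfl, h5,
    le_antisymm c4 ?_⟩
  · by_contra n
    push Not at n
    rw [h1] at n
    have k : ∀ h, h * C.z = C.z * h → h * c * h⁻¹ * v * (h * c * h⁻¹)⁻¹ = c * v * c⁻¹ := fun h hh => by
      obtain ⟨x, hx, xz, e⟩ := tr _ (nW h hh v vW) (by simpa using v1)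
      have a := n (x⁻¹ * h) ⟨mem_cent_iff.2 (comm_mul (comm_inv xz) hh), mem_cent_iff.2 (of_cj (by
        rw [← cj_cj', ← e]; group))⟩
      have xc : x * c = c * x := by rcases zp3 c3 hx with rfl | rfl | rfl <;> simp [mul_assoc]
      have m := nW _ (comm_inv xz) v vW
      calc _ = x * (x⁻¹ * h * (c * ((x⁻¹ * h)⁻¹ * (x⁻¹ * v * x⁻¹⁻¹) * (x⁻¹ * h)⁻¹⁻¹) * c⁻¹) * (x⁻¹ * h)⁻¹) * x⁻¹ := by
            group
        _ = _ := by rw [cj_of (comm_inv (a _ m)), cj_of (a _ (nc _ m)), cj_cj', xc]; group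
    have S : IsSylowIn 3 (zpowers c) (J ⊔ zpowers c) := ⟨le_sup_right, fun x => ⟨1, Subtype.ext (by
      rcases zp3 c3 x.2 with e | e | e <;> simp [e, pow_succ, c3, ← mul_assoc])⟩, fun R r1 r2 r3 =>
      le_antisymm (fun x hx => by
        obtain ⟨j, hj, y, hy, rfl⟩ := (mem_sup_of_le_normalizer_left
          (zpowers_le.2 (mem_normalizer_of_finite (nH c cz)))).1 (r2 hx)
        obtain ⟨m, e⟩ := pow_of_isP hJ hj
        obtain ⟨l, f⟩ := r3 ⟨j, (mul_mem_cancel_right (r1 hy)).1 hx⟩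
        have := pow_gcd_eq_one.2 ⟨e, congrArg Subtype.val f⟩
        rw [show Nat.gcd (2 ^ m) (3 ^ l) = 1 from Nat.Coprime.pow m l (by norm_num), pow_one] at this
        rwa [this, one_mul]) r1⟩
    refine hs fun y => ?_
    obtain ⟨h, rfl⟩ := hψ y
    have hh := mem_cent_iff.1 h.2
    have : Fact (Nat.Prime 3) := ⟨by norm_num⟩
    obtain ⟨g, hg, e⟩ := S.exists_cj_le (isPGroup_cj S.isP h) (by
      rw [cj_zpowers, zpowers_le]; exact nN h hh c cz cN)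
    have gz : g * C.z = C.z * g := mem_cent_iff.1 (sup_le (fun x hx => mem_cent_iff.2 (P.Jz hx))
      (zpowers_le.2 (mem_cent_iff.2 cz)) hg)
    refine ⟨⟨g, mem_cent_iff.2 gz⟩ * h, by rw [map_mul, (hk _).2 hg, one_mul], of_cj ?_⟩
    have f := k _ (comm_mul gz hh)
    rw [cj_cj, cj_zpowers, zpowers_le] at e
    rcases zp3 c3 e with e | e | e
    · rw [e] at f; exact absurd (by simpa using f) vb
    · exact e
    · rw [e, e1] at f; exact absurd (by simpa using f) v1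
  · have := mul_mem cN (nN a (ha _ C.zZ) _ (comm_inv cz) (inv_mem cN))
    rwa [← mul_assoc, ← mul_assoc] at this
  · have := ha _ (h3 ▸ (nW _ (comm_inv cz) v vW).1)
    refine of_cj ?_
    calc _ = c * (a * (c⁻¹ * (a⁻¹ * v * a⁻¹⁻¹) * c⁻¹⁻¹) * a⁻¹) * c⁻¹ := by group
      _ = _ := by rw [cj_of (comm_inv (ha v (h3 ▸ vW.1))), cj_of this]; group
  · classical
    have n1 : v * (c * v * c⁻¹) ≠ 1 := e1 ▸ mt conj_eq_one_iff.1 v1
    have h1 : (({1, v, c * v * c⁻¹, v * (c * v * c⁻¹)} : Finset G) : Set G) ⊆ W := by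
      simp [Set.insert_subset_iff, vW, nc v vW, mul_mem vW (nc v vW)]
    have h2 := Set.ncard_le_ncard h1
    generalize c * v * c⁻¹ = b at *
    rwa [Set.ncard_coe_finset, Finset.card_insert_of_notMem (by simp [v1.symm, b1.symm, n1.symm]),
      Finset.card_insert_of_notMem (by simp [vb, b1]), Finset.card_pair (by simpa using v1)] at h2

end H94.PF
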