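import Cfsg.Agent.Lib.PF94.Ext
import Cfsg.Agent.Lib.LocStruct.ParChar

/-!
Quotients by a central involution, special pairs and odd order subgroups.
-/

set_option autoImplicit false

namespace H94.PF

open Module H95 H4.LX H9.WC QuadraticMap Subgroup Cfsg H69
open H73.FD (cj_mul cj_inj Pr)
open H30 (F4)

universe u

variable {G : Type u} [Group G] {V : Type u} [AddCommGroup V] [Module (ZMod 2) V]
  {K : Type*} [Group K] {K0 : Subgroup K}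

instance nrm_zp (w : G) : ((zpowers w).subgroupOf (centralizer {w})).Normal := ⟨fun n hn g => by
  rw [mem_subgroupOf] at hn ⊢
  obtain ⟨k, hk⟩ := hn
  have : (g : G) * n = n * g := by rw [← hk]; exact ((Commute.zpow_right (mem_cent_iff.1 g.2) k)).eq
  rw [coe_mul, coe_mul, coe_inv, cj_of this]
  exact ⟨k, hk⟩⟩

/-- `f` is the projection of the centraliser of `w` modulo `w` -/
structure Qt {G' : Type u} [Group G'] (w : G) (f : centralizer ({w} : Set G) →* G') : Prop where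
  ww : w * w = 1
  surj : Function.Surjective f
  ker : ∀ x, f x = 1 ↔ (x : G) = 1 ∨ (x : G) = w

theorem qt_mk {w : G} (ww : w * w = 1) :
    Qt w (QuotientGroup.mk' ((zpowers w).subgroupOf (centralizer {w}))) :=
  ⟨ww, QuotientGroup.mk'_surjective _, fun _ => mem_ker_quot.trans (mem_zpowers_iff_of_sq ww)⟩

theorem Qt.eq {G' : Type u} [Group G'] {w : G} {f : centralizer ({w} : Set G) →* G'} (Q : Qt w f)
    {x y : centralizer ({w} : Set G)} : f x = f y ↔ (x : G) = y ∨ (x : G) = y * w := by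
  rw [eq_comm, ← inv_mul_eq_one, ← map_inv, ← map_mul, Q.ker, coe_mul, coe_inv, inv_mul_eq_one,
    inv_mul_eq_iff_eq_mul, eq_comm]

theorem cj_comm {g x y : G} (h : x * y = y * x) :
    g * x * g⁻¹ * (g * y * g⁻¹) = g * y * g⁻¹ * (g * x * g⁻¹) := by rw [cj_mul, cj_mul, h]

theorem cj_cj' (a b x : G) : a * (b * x * b⁻¹) * a⁻¹ = a * b * x * (a * b)⁻¹ := by group

theorem one_of_inv {O : Subgroup G} (hO : Odd (Nat.card O)) {o : G} (ho : o ∈ O) (h : o = o⁻¹) : o = 1 := by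
  have := pow_gcd_eq_one.2 ⟨show o ^ 2 = 1 by rw [pow_two, mul_eq_one_iff_eq_inv]; exact h, pow_card ho⟩
  rwa [show Nat.gcd 2 _ = 1 from Nat.coprime_two_left.2 hO, pow_one] at this

theorem inv_of_fpf [Finite G] {O : Subgroup G} {x : G} (xx : x * x = 1) (hn : ∀ o ∈ O, x * o * x⁻¹ ∈ O)
    (h : ∀ o ∈ O, o * x = x * o → o = 1) {o : G} (ho : o ∈ O) : x * o * x⁻¹ = o⁻¹ :=
  inverts_of_fpf (mem_normalizer_of_finite hn) (xx ▸ one_mem _)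
    (eq_bot_iff.2 fun o ho => h o ho.1 (mem_cent_iff.1 ho.2)) ho

namespace Cx

variable (C : Cx G V K0)

theorem cj_eq {g u : G} [Finite G] (hu : u ∈ C.Z) (h : g * C.z * g⁻¹ = C.z ∨ g * C.z * g⁻¹ = C.z * u) :
    g * C.z * g⁻¹ = C.z := h.elim id fun e => C.f2 (e ▸ mul_mem C.zZ hu)

theorem exists_quot [Finite G] {G' : Type u} [Group G'] {w : G} {f : centralizer ({w} : Set G) →* G'}
    (Q : Qt w f) (hw : w ∈ C.Z) (wz : w ≠ C.z)
    (hA : ∀ g, g * C.z = C.z * g → g * w = w * g → g ∈ C.A) : ∃ C' : Cx G' V K0, Desc C C' f := by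
  have zM : C.z ∈ centralizer {w} := mem_cent_iff.2 (C.Zc hw C.zJ)
  refine C.exists_desc f Q.surj (fun x hx => ?_) zM (fun e => ?_)
    (fun x hx => ⟨1, one_mem _, by rw [mul_one]; exact mem_cent_iff.2 (C.Zc hw hx)⟩) (fun k hk => ?_) fun m h => ?_
  · rcases (Q.ker x).1 hx with e | e <;> rw [e]
    exacts [one_mem _, hw]
  · exact ((Q.ker _).1 e).elim C.z1 wz.symm
  · obtain ⟨a, ha, rfl⟩ := C.μ_surj k hk
    exact ⟨a, ha, mem_cent_iff.2 (C.h0 a ha hk w hw), rfl⟩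
  · have := cj_of h
    rw [← map_inv, ← map_mul, ← map_mul, Q.eq] at this
    exact hA m (of_cj (C.cj_eq hw this)) (mem_cent_iff.1 m.2)

variable {C} in
theorem Desc.cj {G' : Type u} [Group G'] {C' : Cx G' V K0} {M : Subgroup G} {f : M →* G'} (D : Desc C C' f)
    (zM : C.z ∈ M) (c : M) : f c * C'.z * (f c)⁻¹ = f (c * ⟨C.z, zM⟩ * c⁻¹) := by
  rw [D.z zM, map_mul, map_mul, map_inv]

variable {C} in
theorem Desc.zp [Finite G] {G' : Type u} [Group G'] {C' : Cx G' V K0} {w : G}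
    {f : centralizer ({w} : Set G) →* G'} (D : Desc C C' f) (Q : Qt w f) (hw : w ∈ C.Z) (h : Zp 1 C'.z) :
    Zp w C.z := fun c h1 h2 => by
  have zM : C.z ∈ centralizer {w} := mem_cent_iff.2 (C.Zc hw C.zJ)
  have := h (f ⟨c, mem_cent_iff.2 h1⟩) (by simp) (by
    rw [D.cj zM, D.z zM, ← map_mul, ← map_mul]; exact congrArg f (Subtype.ext h2))
  rw [D.cj zM, D.z zM, Q.eq] at this
  exact C.cj_eq hw this

theorem zp_J [Finite G] {w t : G} (h : Zp w t) (tt : t * t = 1) (t1 : t ≠ 1) (tw : t * w = w * t) {c : G}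
    (hc : c * w = w * c) (m : t * (c * t * c⁻¹) ∈ C.J) : c * t * c⁻¹ = t := by
  obtain ⟨O, ho, -, -, h3⟩ := h.odd tt t1 tw
  have := C.one_of_odd m ho (pow_card (h3 c hc))
  rw [mul_eq_one_iff_inv_eq, inv_of_sq tt] at this
  exact this.symm

theorem inverts [Finite G] {O : Subgroup G} (hO : Odd (Nat.card O)) (hn : ∀ x ∈ C.J, ∀ o ∈ O, x * o * x⁻¹ ∈ O)
    {o : G} (ho : o ∈ O) : C.z * o * C.z⁻¹ = o⁻¹ :=
  inv_of_fpf C.zz (hn _ C.zJ) (fun o ho h => C.one_of_odd (C.ZJ (C.cJ fun x hx =>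
    (C.comm_of_odd hO ho h hx (hn x hx o ho)).symm)) hO (pow_card ho)) ho

theorem odd_bot [Finite G] {O : Subgroup G} [hN : O.Normal] (hO : Odd (Nat.card O)) {c : G}
    (hA : c * C.z * c⁻¹ ∈ C.A) (hJ : c * C.z * c⁻¹ ∉ C.J) : O = ⊥ := by
  have i1 : ∀ o ∈ O, C.z * o * C.z⁻¹ = o⁻¹ := fun o ho => C.inverts hO (fun x _ o ho => hN.conj_mem o ho x) ho
  have n : (𝐂(O)).Normal := inferInstance
  have m : C.z * (c * C.z * c⁻¹) ∈ 𝐂(O) := mc.2 fun o ho => of_cj (by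
    have := i1 _ (hN.conj_mem o ho c⁻¹)
    calc _ = C.z * (c * (C.z * (c⁻¹ * o * c⁻¹⁻¹) * C.z⁻¹) * c⁻¹) * C.z⁻¹ := by group
      _ = C.z * o⁻¹ * C.z⁻¹ := by rw [this]; group
      _ = o := by rw [i1 _ (inv_mem ho), inv_inv])
  have mA := mul_mem (C.JA C.zJ) hA
  by_contra c1
  refine hJ ((mul_mem_cancel_left C.zJ).1 (C.mem_J mA fun x hx => ?_))
  have j := mul_mem (C.nJ mA hx) (inv_mem hx)
  rw [← az, ← C.π_comm mA hx, C.π_zero _ j]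
  have m' : C.z * (c * C.z * c⁻¹) * x * (C.z * (c * C.z * c⁻¹))⁻¹ * x⁻¹ ∈ 𝐂(O) := by
    rw [mul_assoc, mul_assoc, ← mul_assoc x]
    exact mul_mem m (n.conj_mem _ (inv_mem m) x)
  by_contra c2
  obtain ⟨y, -, e⟩ := C.exists_conj j c2
  have := n.conj_mem _ m' y
  rw [e, mul_mem_cancel_left m'] at this
  exact c1 (eq_bot_iff.2 fun o ho => one_of_inv hO ho (by rw [← i1 o ho, cj_of (mc.1 this o ho)]))

theorem sp_aux [Finite G] {w : G} (hw : w ∈ C.Z) {T : Subgroup G} (hT : IsPGroup 2 T)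
    (h : T ≤ centralizer {w}) : ∃ c, c * w = w * c ∧ ∃ T1 : Subgroup G, IsPGroup 2 T1 ∧ T ≤ T1 ∧
      T1 ≤ centralizer {w} ∧ C.J ^ᶜ c ≤ T1 ∧ T1 ≤ centralizer {c * C.z * c⁻¹} := by
  obtain ⟨T0, h0, h1, h2⟩ := C.exists_sylow (L := centralizer {w}) fun x hx => mem_cent_iff.2 (C.Zc hw hx)
  obtain ⟨c, hc, h3⟩ := h0.exists_le_cj hT h
  exact ⟨c, mem_cent_iff.1 hc, _, isPGroup_cj h0.isP c, h3, (h0.cj_of_mem hc).le, cj_mono c h1,
    by rw [← cj_centralizer_singleton]; exact cj_mono c h2⟩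

theorem special0 [Finite G] {w g : G} (hw : w ∈ C.Z) (h : g * w * g⁻¹ * w = w * (g * w * g⁻¹)) :
    ∃ c, c * w = w * c ∧ ∃ e, e * w * e⁻¹ = g * w * g⁻¹ ∧
      e * C.z * e⁻¹ * (c * C.z * c⁻¹) = c * C.z * c⁻¹ * (e * C.z * e⁻¹) ∧
      g * w * g⁻¹ * (c * C.z * c⁻¹) = c * C.z * c⁻¹ * (g * w * g⁻¹) ∧ w * (e * C.z * e⁻¹) = e * C.z * e⁻¹ * w ∧
      (∀ x ∈ C.J ^ᶜ c, x * (g * w * g⁻¹) = g * w * g⁻¹ * x → x * (e * C.z * e⁻¹) = e * C.z * e⁻¹ * x) ∧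
      ∀ x ∈ C.J ^ᶜ e, x * w = w * x → x * (c * C.z * c⁻¹) = c * C.z * c⁻¹ * x := by
  obtain ⟨T, hT⟩ := exists_isSylowIn 2 (centralizer {w} ⊓ centralizer {g * w * g⁻¹})
  obtain ⟨c, hc, T1, a1, a2, a3, a4, a5⟩ := C.sp_aux hw hT.isP (hT.le.trans inf_le_left)
  obtain ⟨e, he, T2, b1, b2, b3, b4, b5⟩ := (C.conj g).sp_aux (cj_mem g hw) hT.isP (hT.le.trans inf_le_right)
  rw [conj_J, cj_cj] at b4
  rw [conj_z, cj_cj'] at b5
  have e1 : e * g * w * (e * g)⁻¹ = g * w * g⁻¹ := by rw [← cj_cj', cj_of he]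
  have k1 : ∀ x ∈ T1, x * (g * w * g⁻¹) = g * w * g⁻¹ * x → x ∈ T := fun x hx h =>
    (hT.max (T1 ⊓ _) (le_inf a2 hT.le) inf_le_right a1.to_inf_left).le ⟨hx, a3 hx, mem_cent_iff.2 h⟩
  have k2 : ∀ x ∈ T2, x * w = w * x → x ∈ T := fun x hx h =>
    (hT.max (T2 ⊓ _) (le_inf b2 hT.le) inf_le_right b1.to_inf_left).le ⟨hx, mem_cent_iff.2 h, b3 hx⟩
  have w1 : w ∈ T := k1 w (a4 (cj_of hc ▸ cj_mem c (C.ZJ hw))) h.symm
  have w2 : g * w * g⁻¹ ∈ T := k2 _ (b4 (e1 ▸ cj_mem _ (C.ZJ hw))) h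
  have c1 := mem_cent_iff.1 (a5 (a2 w2))
  have c2 := mem_cent_iff.1 (b5 (b2 w1))
  exact ⟨c, hc, e * g, e1, mem_cent_iff.1 (a5 (a2 (k2 _ (b4 (cj_mem _ C.zJ)) c2.symm))), c1, c2,
    fun x hx h => mem_cent_iff.1 (b5 (b2 (k1 x (a4 hx) h))), fun x hx h => mem_cent_iff.1 (a5 (a2 (k2 x (b4 hx) h)))⟩

/-- special pairs -/
theorem special [Finite G] {w g : G} (hw : w ∈ C.Z) (h : g * w * g⁻¹ * w = w * (g * w * g⁻¹)) :
    ∃ c, c * w = w * c ∧ ∃ e, c * (e * w * e⁻¹) * c⁻¹ = g * w * g⁻¹ ∧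
      e * C.z * e⁻¹ * C.z = C.z * (e * C.z * e⁻¹) ∧
      e * w * e⁻¹ * C.z = C.z * (e * w * e⁻¹) ∧ w * (e * C.z * e⁻¹) = e * C.z * e⁻¹ * w ∧
      (∀ x ∈ C.J, x * (e * w * e⁻¹) = e * w * e⁻¹ * x → x * (e * C.z * e⁻¹) = e * C.z * e⁻¹ * x) ∧
      ∀ x ∈ C.J ^ᶜ e, x * w = w * x → x * C.z = C.z * x := by
  obtain ⟨c, hc, e, h1, h2, h3, h4, h5, h6⟩ := C.special0 hw h
  have k : ∀ x y : G, x * y = y * x ↔ c * x * c⁻¹ * (c * y * c⁻¹) = c * y * c⁻¹ * (c * x * c⁻¹) := fun x y =>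
    ⟨cj_comm, fun h => by rw [cj_mul, cj_mul] at h; exact cj_inj h⟩
  have l : ∀ x : G, c * (c⁻¹ * e * x * (c⁻¹ * e)⁻¹) * c⁻¹ = e * x * e⁻¹ := fun x => by group
  refine ⟨c, hc, c⁻¹ * e, (l w).trans h1, ?_, ?_, ?_, fun x hx => ?_, fun x hx => ?_⟩
  · rwa [k, l]
  · rwa [k, l, h1]
  · rwa [k, l, cj_of hc]
  · rw [k, k x, l, l, h1]; exact h5 _ (cj_mem c hx)
  · rw [k, k x, cj_of hc]
    refine h6 _ ?_
    have := cj_mem c hx
    rwa [cj_cj, mul_inv_cancel_left] at this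

end Cx

end H94.PF
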