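import Cfsg.Agent.Lib.PF94.FourB
import Cfsg.Agent.Lib.Tech58.Extremal

/-!
The centre of order four: the split case is impossible.
-/

set_option autoImplicit false

namespace H94.PF

open Module H95 H4.LX H9.WC QuadraticMap Subgroup Cfsg H69
open H73.FD (cj_mul cj_inj Pr)
open H30 (F4)

universe u

variable {G : Type u} [Group G] {V : Type u} [AddCommGroup V] [Module (ZMod 2) V]
  {K : Type*} [Group K] {K0 : Subgroup K}

theorem transfer_eq [Finite G] {S : Subgroup G} (hS : ¬ 2 ∣ S.index) {A : Type*} [CommGroup A] (φ : S →* A)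
    (ε : A) (hε : ε ^ 2 = 1) {y : G} (hyy : y * y = 1) {R : Subgroup G} (hR : IsPGroup 2 R) (hyR : y ∈ R)
    (hcomm : ∀ u ∈ R, y * u = u * y)
    (h : ∀ (g : G) (h : g⁻¹ * y * g ∈ S), (∀ r ∈ R, g⁻¹ * r * g ∈ S) → φ ⟨_, h⟩ = ε) :
    MonoidHom.transfer φ y = ε := by
  classical
  haveI : Fintype (G ⧸ S) := Fintype.ofFinite _
  have hyi : y⁻¹ = y := inv_eq_of_mul_eq_one_right hyy
  let c : G ⧸ S → A := fun q => φ ⟨_, H58.out_conj_mem S y q⟩
  let T : Finset (G ⧸ S) := Finset.univ.filter fun q => y • q = q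
  let T₀ : Finset (G ⧸ S) := Finset.univ.filter fun q => ∀ u ∈ R, u • q = q
  have hc : ∀ (g : G) (h : g⁻¹ * y * g ∈ S), c g = φ ⟨_, h⟩ := by
    intro g h
    obtain ⟨s, hs⟩ := QuotientGroup.mk_out_eq_mul S g
    have h1 : y⁻¹ • (g : G ⧸ S) = g := by rw [hyi]; exact (H58.smul_mk_eq_iff _ _ _).2 h
    have : (⟨_, H58.out_conj_mem S y g⟩ : S) = s⁻¹ * ⟨_, h⟩ * s := by
      ext
      simp only [h1, hs, coe_mul, coe_inv]
      group
    simp only [c, this, map_mul, map_inv]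
    rw [mul_right_comm, inv_mul_cancel, one_mul]
  have h1 : MonoidHom.transfer φ y = ∏ q ∈ T, c q := by
    rw [H58.transfer_eq_prod_out, ← Finset.prod_filter_mul_prod_filter_not _ fun q => y • q = q,
      mul_eq_left]
    refine Finset.prod_involution (fun q _ => y • q) (fun q _ => ?_) (fun q hq _ => ?_)
      (fun q hq => ?_) (fun q _ => ?_)
    · rw [← map_mul, ← φ.map_one]
      congr 1
      ext
      simp only [coe_mul, hyi, smul_smul, hyy, one_smul, coe_one]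
      calc q.out⁻¹ * y * (y • q).out * ((y • q).out⁻¹ * y * q.out)
          = q.out⁻¹ * (y * y) * q.out := by group
        _ = 1 := by rw [hyy]; group
    · exact (Finset.mem_filter.1 hq).2
    · refine Finset.mem_filter.2 ⟨Finset.mem_univ _, fun h => (Finset.mem_filter.1 hq).2 ?_⟩
      rw [smul_smul, hyy, one_smul] at h
      exact h.symm
    · rw [smul_smul, hyy, one_smul]
  have h2 : ∏ q ∈ T, c q = ∏ q ∈ T₀, c q := by
    refine H92.prod_eq_prod_fixed hR (fun u hu q hq => ?_) (fun q => ?_) (fun u hu q hq => ?_)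
      (fun q hq => ?_)
    · refine Finset.mem_filter.2 ⟨Finset.mem_univ _, ?_⟩
      rw [smul_smul, hcomm u hu, mul_smul, (Finset.mem_filter.1 hq).2]
    · simp only [T, T₀, Finset.mem_filter, Finset.mem_univ, true_and]
      exact ⟨fun h => ⟨h y hyR, h⟩, fun h => h.2⟩
    · induction q using QuotientGroup.induction_on with
      | H g =>
        have h := (H58.smul_mk_eq_iff _ _ _).1 (Finset.mem_filter.1 hq).2
        have he : (u * g)⁻¹ * y * (u * g) = g⁻¹ * y * g := by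
          calc (u * g)⁻¹ * y * (u * g) = g⁻¹ * u⁻¹ * (y * u) * g := by group
            _ = _ := by rw [hcomm u hu]; group
        rw [MulAction.Quotient.smul_mk, smul_eq_mul, hc g h, hc (u * g) (he ▸ h)]
        exact congrArg φ (Subtype.ext he)
    · induction q using QuotientGroup.induction_on with
      | H g =>
        have h := (H58.smul_mk_eq_iff _ _ _).1 (Finset.mem_filter.1 hq).2
        rw [hc g h, ← map_pow, ← φ.map_one]
        refine congrArg φ (Subtype.ext ?_)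
        calc (g⁻¹ * y * g) ^ 2 = g⁻¹ * (y * y) * g := by rw [pow_two]; group
          _ = 1 := by rw [hyy]; group
  have h3 : ∀ q ∈ T₀, c q = ε := by
    intro q hq
    induction q using QuotientGroup.induction_on with
    | H g =>
      have hq' := (Finset.mem_filter.1 hq).2
      have h' := (H58.smul_mk_eq_iff _ _ _).1 (hq' y hyR)
      rw [hc g h', h g h' fun r hr => (H58.smul_mk_eq_iff _ _ _).1 (hq' r hr)]
  have h4 : Odd T₀.card := by
    have := H92.card_fixed_modEq hR (T := Finset.univ) (T₀ := T₀)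
      (fun _ _ _ _ => Finset.mem_univ _) (fun q => by simp [T₀])
    rw [Finset.card_univ, ← Nat.card_eq_fintype_card, ← index_eq_card] at this
    rw [Nat.odd_iff]
    unfold Nat.ModEq at this
    omega
  obtain ⟨k, hk⟩ := h4
  rw [h1, h2, Finset.prod_congr rfl h3, Finset.prod_const, hk, pow_succ, pow_mul, hε, one_pow, one_mul]

/-- a complement to `d` in its centraliser -/
structure Sp (d : G) (L : Subgroup G) : Prop where
  n : ∀ g, g * d = d * g → ∀ l ∈ L, g * l * g⁻¹ ∈ L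
  nd : d ∉ L
  cov : ∀ g, g * d = d * g → g ∈ L ∨ g * d ∈ L
  cm : ∀ a b, a * d = d * a → b * d = d * b → a * b * a⁻¹ * b⁻¹ ∈ L
  le : ∀ l ∈ L, l * d = d * l

theorem Sp.conj {d : G} {L : Subgroup G} (S : Sp d L) (g : G) : Sp (g * d * g⁻¹) (L ^ᶜ g) := by
  have k : ∀ {a}, a * (g * d * g⁻¹) = g * d * g⁻¹ * a → g⁻¹ * a * g * d = d * (g⁻¹ * a * g) := fun h => by
    simpa [mul_assoc] using cj_comm (g := g⁻¹) h
  refine ⟨fun a ha l hl => ?_, fun h => S.nd (cj_mem_iff.1 h), fun a ha => ?_, fun a b ha hb => ?_, fun l hl => ?_⟩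
  · have := S.n _ (k ha) _ (mem_cj.1 hl)
    rw [mem_cj]; convert this using 1; group
  · refine (S.cov _ (k ha)).imp mem_cj.2 fun h => ?_
    rw [mem_cj]; convert h using 1; group
  · have := S.cm _ _ (k ha) (k hb)
    rw [mem_cj]; convert this using 1; group
  · obtain ⟨l, hl', rfl⟩ := mem_cj'.1 hl
    exact cj_comm (S.le l hl')

theorem Cx.z_mem (C : Cx G V K0) {y : G} {L : Subgroup G} (S : Sp y L) (hy : y ∈ C.J) : C.z ∈ L := by
  obtain ⟨a, ha, b, hb, e⟩ := C.exists_comm (B := centralizer {y}) fun a ha b hb a' b' => by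
    rw [mem_cent_iff] at a' b' ⊢
    refine of_cj ?_
    rw [← cj_cj', (C.conj' hy hb).resolve_left fun e => b' (of_cj e), ← cj_mul,
      (C.conj' hy ha).resolve_left fun e => a' (of_cj e), cj_of (C.Jz ha), mul_assoc, C.zz, mul_one]
  have := S.cm _ _ (comm_inv (mem_cent_iff.1 ha.1)) (comm_inv (mem_cent_iff.1 hb.1))
  rwa [inv_inv, inv_inv, mul_assoc, e, show a⁻¹ * b⁻¹ * (b * a * C.z) = C.z by group] at this

namespace Fo

variable {C : Cx G V K0} {d : G} (F : Fo C d) {L : Subgroup G} (S : Sp d L)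
include F S

theorem ZL {u : G} (hu : u ∈ C.Z) (h : u ∈ L) : u = 1 ∨ u = C.z := by
  rcases F.all u hu with e | e | rfl | rfl
  · exact Or.inl e
  · exact Or.inr e
  · exact absurd h S.nd
  · exact absurd ((mul_mem_cancel_right (C.z_mem S (C.ZJ F.dZ))).1 h) S.nd

theorem exL (v : V) : ∃ a ∈ C.J, a ∈ L ∧ C.π a = v := by
  obtain ⟨a, ha, rfl⟩ := C.π_surj v
  rcases S.cov a (C.Zc F.dZ ha) with h | h
  exacts [⟨a, ha, h, rfl⟩, ⟨_, mul_mem ha (C.ZJ F.dZ), h, C.π_mulZ ha F.dZ⟩]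

theorem sqL {a : G} (ha : a * d = d * a) : a * a ∈ L := by
  rcases S.cov a ha with h | h
  · exact mul_mem h h
  · have := mul_mem h h
    rwa [mul_assoc, ← mul_assoc d, ← ha, mul_assoc a d, F.dd, mul_one] at this

theorem notL [Finite G] [Module F4 V] {H : V → V → F4} (N : Uni C.σ C.q H) {g : G} (hy : g * d * g⁻¹ ∈ C.J)
    (h : g * d * g⁻¹ ∈ L) : False := by
  have S' := S.conj g
  have yZ : g * d * g⁻¹ ∉ C.Z := fun m => (F.ZL S m h).elim (F.conj g).d1 fun e =>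
    F.dz (by
      have e' : g⁻¹ * C.z * g⁻¹⁻¹ = d := by rw [← e]; group
      rw [← e', C.f2 (e' ▸ F.dZ)])
  have yy := (F.conj g).dd
  generalize g * d * g⁻¹ = y at *
  have v0 : C.π y ≠ 0 := fun e => yZ ((C.π_zero y hy).1 e)
  have vv := (N.q0 _).1 (C.q_inv hy yy)
  obtain ⟨a, ha⟩ := N.ex_H C.form v0 1
  obtain ⟨a, aJ, rfl⟩ := C.π_surj a
  have ay := (C.b_π _ aJ _ hy).1 ((N.b0 _ _).2 (Or.inr ha))
  obtain ⟨k, hk⟩ := N.tv _ vv
  obtain ⟨c, hc, rfl, cy⟩ : ∃ c ∈ C.A, C.μ c = k ∧ c * y = y * c := by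
    have m := tv_mem N C.form C.kd vv hk
    obtain ⟨c, hc, rfl⟩ := C.μ_surj k m
    obtain ⟨u, hu, e⟩ := (C.fix_iff hc hy).1 (by rw [hk, vv, zero_smul, add_zero])
    rcases F.ZL S hu ((mul_mem_cancel_left h).1 (e ▸ S.n c (C.h0 c hc m d F.dZ) y h)) with rfl | rfl
    · exact ⟨c, hc, rfl, of_cj (by simpa using e)⟩
    · obtain ⟨b, hb, f⟩ := C.exists_conj hy yZ
      refine ⟨b * c, mul_mem (C.JA hb) hc, by rw [C.μ_mul _ (C.JA hb) _ hc, C.μJ hb, one_mul], of_cj ?_⟩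
      rw [← cj_cj', e, ← cj_mul, f, cj_of (C.Jz hb), mul_assoc, C.zz, mul_one]
  have m := (C.π_eq (mul_mem (C.nJ hc aJ) (inv_mem aJ)) hy).1 (by rw [C.π_comm hc aJ, hk, ha, one_smul, aba])
  have m1 := S.cm c a (C.h0 c hc (tv_mem N C.form C.kd vv hk) d F.dZ) (C.Zc F.dZ aJ)
  have m2 := S'.cm c a cy ay
  refine S'.nd ((mul_mem_cancel_left (inv_mem m2)).1 ?_)
  rcases F.ZL S m (mul_mem (inv_mem m1) h) with e | e <;> rw [e]
  exacts [one_mem _, C.z_mem S' hy]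

section two
variable {L' : Subgroup G} (S' : Sp (d * C.z) L') (nf : ∀ x, (∀ k ∈ K0, C.σ k x = x) → x = 0)
include S' nf

theorem QL {x : G} (hx : x ∈ C.J) (h : x ∈ L) : x ∈ L' := by
  have := C.form.fin
  have h1 := finrank_le_succ (C := ⊤) (Y := C.img (L ⊓ L')) fun v _ w _ hv hw => by
    obtain ⟨a, ha, ha', rfl⟩ := F.exL S v
    obtain ⟨b, hb, hb', rfl⟩ := F.exL S w
    rw [← C.π_mul _ ha _ hb]
    refine C.π_img (mem_inf.2 ⟨mul_mem ha' hb', ?_⟩) (mul_mem ha hb)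
    have := mul_mem ((S'.cov a (C.Zc F.swap.dZ ha)).resolve_left fun c => hv (C.π_img ⟨ha', c⟩ ha))
      ((S'.cov b (C.Zc F.swap.dZ hb)).resolve_left fun c => hw (C.π_img ⟨hb', c⟩ hb))
    rwa [mul_assoc, ← mul_assoc (d * C.z), ← C.Zc F.swap.dZ hb, mul_assoc b, F.swap.dd, mul_one] at this
  rw [finrank_top, C.form.h8] at h1
  obtain ⟨c, hc⟩ := exists_gen (A := pp C.q (C.img (L ⊓ L'))) (by have := fr_pp C.form (C.img (L ⊓ L')); omega)
  obtain ⟨u, hu, m⟩ := C.of_π_img (B := L ⊓ L') hx (mem_of_pp C.form fun v hv => by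
    rw [nf v fun k hk => ?_, polar_zero_left]
    have m := app_pp C.form k (fun y hy => by
      obtain ⟨y, hy, hy', rfl⟩ := hy
      obtain ⟨a, ha, e⟩ := C.μ_surj _ (inv_mem hk)
      rw [← e, C.act a ha y hy']
      exact C.π_img (mem_inf.2 ⟨S.n a (C.h0 a ha (e ▸ inv_mem hk) _ F.dZ) y hy.1,
        S'.n a (C.h0 a ha (e ▸ inv_mem hk) _ F.swap.dZ) y hy.2⟩) (C.nJ ha hy')) hv
    rcases hc v hv with rfl | e
    · exact map_zero _
    · rcases hc _ m with f | f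
      · rw [← app_inv C.σ k v, f, map_zero, map_zero]
      · rw [f, e])
  refine (mul_mem_cancel_right ?_).1 m.2
  rcases F.ZL S hu ((mul_mem_cancel_left h).1 m.1) with rfl | rfl
  exacts [one_mem _, C.z_mem S' (C.ZJ F.swap.dZ)]

theorem PL {p : G} (hp : p ∈ C.A) (m : C.μ p ∈ K0) (h : p ∈ L) : p ∈ L' := by
  obtain ⟨b, hb, hb', e⟩ := C.kd.le_of_pow (P := C.imK (L ⊓ L')) (n := 2) (fun k hk => by
    rintro _ - ⟨b, hb, hb', rfl⟩
    obtain ⟨a, ha, rfl⟩ := C.μ_surj k hk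
    exact ⟨_, mem_inf.2 ⟨S.n a (C.h0 a ha hk _ F.dZ) b hb.1, S'.n a (C.h0 a ha hk _ F.swap.dZ) b hb.2⟩,
      mul_mem (mul_mem ha hb') (inv_mem ha), C.μ_conj ha hb'⟩) (by norm_num) (fun k hk => by
    obtain ⟨a, ha, rfl⟩ := C.μ_surj k hk
    exact ⟨a * a, mem_inf.2 ⟨F.sqL S (C.h0 a ha hk _ F.dZ), F.swap.sqL S' (C.h0 a ha hk _ F.swap.dZ)⟩,
      mul_mem ha ha, by rw [C.μ_mul _ ha _ ha, pow_two]⟩) m
  exact (mul_mem_cancel_left (inv_mem (i2 hb))).1
    (F.QL S S' nf ((C.μ_eq hb' hp).1 e) (mul_mem (inv_mem (i1 hb)) h))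

end two

omit S in
theorem mem_K0 {s : G} (hs : s * C.z = C.z * s) (hs' : s * d * s⁻¹ = d * C.z) {a : G} (ha : a * C.z = C.z * a)
    (h : a * d = d * a) : C.μ a ∈ K0 := by
  have k : ∀ b, b * C.z = C.z * b → b * d * b⁻¹ = d * C.z → C.μ b ∉ K0 := fun b hb e m => by
    rw [cj_of (C.h0 b (F.hA b hb) m d F.dZ)] at e
    exact C.z1 (by simpa using e)
  by_contra c
  refine k (s * a) (comm_mul hs ha) (by rw [← cj_cj', cj_of h, hs']) ?_
  rw [C.μ_mul _ (F.hA _ hs) _ (F.hA _ ha)]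
  exact C.kd.idx _ _ (k s hs hs') c

theorem inJ [Finite G] [Module F4 V] {H : V → V → F4} (N : Uni C.σ C.q H) : ∃ R : Subgroup G, IsPGroup 2 R ∧
    d ∈ R ∧ (∀ u ∈ R, d * u = u * d) ∧ ∀ g, (∀ r ∈ R, g⁻¹ * r * g ∈ centralizer {C.z}) → g⁻¹ * d * g ∈ C.J := by
  have := C.kd.fin0
  have := finK C.form
  have := C.form.fin
  obtain ⟨T, hT⟩ := Sylow.exists_subgroup_card_pow_prime (G := K0) 2 (n := 6) (by rw [C.kd.card]; norm_num)
  have hT' : Nat.card (T.map K0.subtype) = 2 ^ 6 := by rw [card_map_subtype, hT]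
  have hR : IsPGroup 2 (C.preK (T.map K0.subtype)) := isP_of fun x hx => ⟨8, by
    have := (C.μ_one _ (pow_mem hx.1 _)).1 ((C.μ_pow hx.1 _).trans (pow_card hx.2))
    rw [hT'] at this
    rw [show 8 = 6 + 2 from rfl, pow_add, pow_mul, C.pow4 this]⟩
  have hJ : C.J ≤ C.preK (T.map K0.subtype) := fun x hx => ⟨C.JA hx, C.μJ hx ▸ one_mem _⟩
  have hd : ∀ u ∈ C.preK (T.map K0.subtype), d * u = u * d := fun u hu =>
    (C.h0 u hu.1 (map_subtype_le _ hu.2) d F.dZ).symm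
  refine ⟨_, hR, hJ (C.ZJ F.dZ), hd, fun g hg => ?_⟩
  have yA := F.hA _ (mem_cent_iff.1 (hg d (hJ (C.ZJ F.dZ))))
  have c1 := C.card_imK (B := C.preK (T.map K0.subtype)) fun x hx => hx.1
  rw [inf_eq_right.2 hJ, C.card_J, show C.imK (C.preK (T.map K0.subtype)) = T.map K0.subtype from
    Subgroup.ext fun k => ⟨fun ⟨b, hb, _, e⟩ => e ▸ hb.2, fun h => by
      obtain ⟨a, ha, rfl⟩ := C.μ_surj k (map_subtype_le _ h)
      exact ⟨a, ⟨ha, h⟩, ha, rfl⟩⟩, hT', ← card_cj _ g⁻¹] at c1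
  have hR' := isPGroup_cj hR g⁻¹
  have hA : C.preK (T.map K0.subtype) ^ᶜ g⁻¹ ≤ C.A := fun x hx => by
    obtain ⟨r, hr, rfl⟩ := mem_cj'.1 hx
    exact F.hA _ (mem_cent_iff.1 (by simpa using hg r hr))
  have hy : ∀ x ∈ C.preK (T.map K0.subtype) ^ᶜ g⁻¹, g⁻¹ * d * g * x = x * (g⁻¹ * d * g) := fun x hx => by
    obtain ⟨r, hr, rfl⟩ := mem_cj'.1 hx
    simpa using cj_comm (g := g⁻¹) (hd r hr)
  generalize C.preK (T.map K0.subtype) ^ᶜ g⁻¹ = R at c1 hR' hA hy
  have c2 := C.kd.card_two_le (R := C.imK R) (isP_of (by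
    rintro _ ⟨x, hx, hx', rfl⟩
    obtain ⟨n, e⟩ := pow_of_isP hR' hx
    exact ⟨n, by rw [← C.μ_pow hx', e, C.μ1]⟩))
  have c3 := card_le_of_le (inf_le_right : R ⊓ C.J ⊓ C.Z ≤ C.Z)
  rw [C.card_imK hA, C.card_img inf_le_right] at c1
  have c4 := c1.symm.le.trans (Nat.mul_le_mul (Nat.mul_le_mul_right _ c3) c2)
  rw [mul_assoc, mul_assoc] at c4
  have c5 := Nat.le_of_mul_le_mul_left c4 Nat.card_pos
  refine (C.μ_one _ yA).1 (one_of_seven N C.form (W := C.img (R ⊓ C.J)) ?_ ?_)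
  · by_contra c
    have := Nat.pow_le_pow_right (n := 2) (by norm_num) (show finrank (ZMod 2) (C.img (R ⊓ C.J)) ≤ 6 by omega)
    omega
  · rintro _ ⟨x, hx, hx', rfl⟩
    exact C.fix_of yA hx' (hy x hx.1)

theorem split [Finite G] (hL : ∀ N : Subgroup G, (∀ a b, a * b * a⁻¹ * b⁻¹ ∈ N) → L ≤ N) {s : G}
    (hs : s * C.z = C.z * s) (hs' : s * d * s⁻¹ = d * C.z) (h : ¬ Zp d C.z) : False := by
  have S' := S.conj s
  rw [hs'] at S'
  have h' : ¬ Zp (d * C.z) C.z := fun c => h (by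
    have := c.conj s
    rwa [cj_of hs, ← cj_mul, hs', cj_of hs, F.dzz] at this)
  obtain ⟨_, H, N⟩ := F.uni h
  have zL := C.z_mem S (C.ZJ F.dZ)
  have n : ∀ a, a * C.z = C.z * a → ∀ p ∈ L, p * C.z = C.z * p → a * p * a⁻¹ ∈ L := fun a ha p hp hp' => by
    rcases F.act ha with e | e
    · exact S.n a (of_cj e) p hp
    obtain ⟨l, hl, rfl⟩ := mem_cj'.1 (F.PL S S' (F.good h).1 (F.hA p hp') (F.mem_K0 hs hs' hp' (S.le p hp)) hp)
    rw [cj_cj']
    exact S.n _ (F.mul_sw ha e hs') l hl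
  have c1 : ∀ a b, a * C.z = C.z * a → a * d = d * a → b * C.z = C.z * b → a * b * a⁻¹ * b⁻¹ ∈ L :=
    fun a b ha ha' hb => by
      have k : ∀ a ∈ L, a * C.z = C.z * a → a * b * a⁻¹ * b⁻¹ ∈ L := fun a h1 h2 => by
        rw [mul_assoc, mul_assoc, ← mul_assoc b]; exact mul_mem h1 (n b hb _ (inv_mem h1) (comm_inv h2))
      rcases S.cov a ha' with m | m
      · exact k a m ha
      rcases F.act hb with e | e
      · exact S.cm a b ha' (of_cj e)
      have := mul_mem (k _ m (comm_mul ha F.cz)) zL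
      have e2 : b * d⁻¹ = d⁻¹ * C.z * b := by
        rw [inv_of_sq F.dd, ← e]; group
      rwa [mul_inv_rev, ← mul_assoc, mul_assoc _ b, e2, show a * d * (d⁻¹ * C.z * b) = a * C.z * b by group,
        ha, mul_assoc C.z, mul_assoc C.z, mul_assoc C.z, ← comm_mul (comm_mul (comm_mul ha hb) (comm_inv ha))
        (comm_inv hb), mul_assoc, C.zz, mul_one] at this
  have c2 : ∀ a b, a * C.z = C.z * a → b * C.z = C.z * b → a * b * a⁻¹ * b⁻¹ ∈ L := fun a b ha hb => by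
    rcases F.act ha with e | e
    · exact c1 a b ha (of_cj e) hb
    rcases F.act hb with f | f
    · simpa [mul_assoc] using inv_mem (c1 b a hb (of_cj f) ha)
    have m := comm_mul (comm_inv hb) ha
    have := n b hb _ (c1 (b⁻¹ * a) b m (of_cj (by rw [← cj_cj', e, ← f]; group)) hb)
      (comm_mul (comm_mul (comm_mul m hb) (comm_inv m)) (comm_inv hb))
    convert this using 1
    group
  have : (L.subgroupOf (centralizer {C.z})).Normal :=
    ⟨fun p hp a => n a (mem_cent_iff.1 a.2) p hp (mem_cent_iff.1 p.2)⟩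
  let _ : CommGroup (centralizer {C.z} ⧸ L.subgroupOf (centralizer {C.z})) :=
    { (inferInstance : Group _) with
      mul_comm := fun a b => by
        obtain ⟨a, rfl⟩ := QuotientGroup.mk_surjective a
        obtain ⟨b, rfl⟩ := QuotientGroup.mk_surjective b
        rw [← QuotientGroup.mk_mul, ← QuotientGroup.mk_mul, QuotientGroup.eq, mem_subgroupOf]
        simpa [mul_assoc] using c2 _ _ (comm_inv (mem_cent_iff.1 b.2)) (comm_inv (mem_cent_iff.1 a.2)) }
  obtain ⟨R, r1, r2, r3, r4⟩ := F.inJ S N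
  obtain ⟨T, t1, -, t2⟩ := C.exists_sylow (L := ⊤) le_top
  let φ := QuotientGroup.mk' (L.subgroupOf (centralizer {C.z}))
  have key := transfer_eq (by simpa using t1.not_dvd_relIndex_of_le t2 le_top) φ (φ ⟨d, mem_cent_iff.2 F.cz⟩)
    (by rw [← map_pow, ← φ.map_one]; exact congrArg φ (Subtype.ext (by rw [coe_pow, pow_two]; exact F.dd)))
    F.dd r1 r2 r3 fun g hg hr => by
      have m := r4 g hr
      refine QuotientGroup.eq.2 (mem_subgroupOf.2 ((S.cov _ (comm_inv (C.Zc F.dZ m))).resolve_left fun c =>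
        F.notL S N (g := g⁻¹) (by rwa [inv_inv]) (by rwa [inv_inv, ← inv_mem_iff])))
  let M := (MonoidHom.transfer φ).ker
  have dM : d ∉ M := fun c => S.nd (mem_subgroupOf.1 ((QuotientGroup.eq_one_iff _).1 (key.symm.trans c)))
  have LM : L ≤ M := hL M fun a b => by
    rw [MonoidHom.mem_ker, map_mul, map_mul, map_mul, map_inv, map_inv, mul_inv_cancel_comm, mul_inv_cancel]
  obtain ⟨C', D⟩ := C.exists_desc (MonoidHom.id M) Function.surjective_id
    (fun x e => by rw [show x = 1 from e]; exact one_mem _) (LM zL) (fun e => C.z1 (congrArg Subtype.val e))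
    (fun x hx => (S.cov x (C.Zc F.dZ hx)).elim (fun m => ⟨1, one_mem _, by rw [mul_one]; exact LM m⟩)
      fun m => ⟨d, F.dZ, LM m⟩) (fun k hk => by
      obtain ⟨a, ha, rfl⟩ := C.μ_surj k hk
      have dA := C.JA (C.ZJ F.dZ)
      exact (S.cov a (C.h0 a ha hk d F.dZ)).elim (fun m => ⟨a, ha, LM m, rfl⟩) fun m =>
        ⟨_, mul_mem ha dA, LM m, by rw [C.μ_mul _ ha _ dA, C.μJ (C.ZJ F.dZ), mul_one]⟩)
    fun m e => F.hA m (congrArg Subtype.val e)
  have hE : ∀ u ∈ C'.Z, u = 1 ∨ u = C'.z := fun u hu => by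
    rw [D.z (LM zL), Subtype.ext_iff, Subtype.ext_iff]
    rcases F.all u ((D.Z u).1 hu) with e | e | e | e
    exacts [Or.inl e, Or.inr e, absurd (e ▸ u.2) dM, absurd ((mul_mem_cancel_right (LM zL)).1 (e ▸ u.2)) dM]
  have k : ∀ {w L'}, Fo C w → Sp w L' → L' ≤ M → ∀ c, c * w = w * c →
      ∃ e : M, e * C.z * (e : G)⁻¹ = c * C.z * c⁻¹ := fun F S h c hc => (S.cov c hc).elim
    (fun m => ⟨⟨c, h m⟩, rfl⟩) fun m => ⟨⟨_, h m⟩, by rw [← cj_cj', cj_of F.cz]⟩
  obtain ⟨c, e, h1, h2, h3, h4, h5⟩ := F.same_tv h h'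
  obtain ⟨c, hc⟩ := k F S LM c h1
  obtain ⟨e, he⟩ := k F.swap S' ((cj_mono s LM).trans (cj_eq_of_normal M s).le) e h2
  rw [← hc] at h3 h4 h5
  rw [← he] at h5
  refine (C'.epair hE (g := c) rfl ?_ ?_).2.2.2 e ?_ <;> rw [D.z (LM zL)]
  exacts [Subtype.ext h3, fun f => h4 (congrArg Subtype.val f), Subtype.ext h5]

end Fo

end H94.PF
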